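import Mathlib

/-!
Frobenius' theorem on the number of solutions of `x ^ n ∈ C` (helper4), via Brauer's lemma.
-/

set_option autoImplicit false

namespace Cfsg.Agent.H4

open Subgroup

/-- If all points of an invariant set have exact period `m`, then `m` divides its size; and if
the set has exactly `m` points it is a single orbit. -/
theorem period_dvd_card {X : Type*} [Finite X] (T : Equiv.Perm X) {m : ℕ} (hm : 0 < m)
    (h1 : T ^ m = 1) (h2 : ∀ j, 0 < j → j < m → ∀ x, (T ^ j) x ≠ x) [Nonempty X] :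
    m ∣ Nat.card X ∧ (m = Nat.card X → ∀ x y : X, ∃ j : ℕ, (T ^ j) x = y) := by
  have ho : orderOf T = m := by
    rw [orderOf_eq_iff hm]
    refine ⟨h1, fun j hj hj0 h => ?_⟩
    obtain ⟨x⟩ := ‹Nonempty X›
    exact h2 j hj0 hj x (by rw [h]; rfl)
  have hfree : ∀ x : X, MulAction.stabilizer (zpowers T) x = ⊥ := by
    intro x
    rw [eq_bot_iff]
    rintro ⟨g, hg⟩ hx
    obtain ⟨j, rfl⟩ := (mem_powers_iff_mem_zpowers.mpr hg)
    have h3 : (T ^ (j % m)) x = x := by
      rw [← ho, pow_mod_orderOf]; exact hx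
    have h4 : j % m = 0 := by
      by_contra h
      exact h2 _ (Nat.pos_of_ne_zero h) (Nat.mod_lt _ hm) x h3
    rw [mem_bot]
    apply Subtype.ext
    show T ^ j = 1
    rw [← pow_mod_orderOf, ho, h4, pow_zero]
  have hc := Nat.card_congr (MulAction.selfEquivOrbitsQuotientProd hfree)
  rw [Nat.card_prod, Nat.card_zpowers, ho] at hc
  refine ⟨⟨_, by rw [hc, mul_comm]⟩, fun hmc x y => ?_⟩
  rw [← hmc] at hc
  have h5 : Nat.card (Quotient (MulAction.orbitRel (zpowers T) X)) = 1 :=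
    Nat.eq_of_mul_eq_mul_right hm (by rw [← hc, one_mul])
  have := (Nat.card_eq_one_iff_unique.mp h5).1
  have h6 : (⟦y⟧ : Quotient (MulAction.orbitRel (zpowers T) X)) = ⟦x⟧ := Subsingleton.elim _ _
  obtain ⟨⟨g, hg⟩, h7⟩ := Quotient.exact h6
  obtain ⟨j, rfl⟩ := (mem_powers_iff_mem_zpowers.mpr hg)
  exact ⟨j, h7⟩

/-- The affine map `a ↦ b * β a`. -/
def affPerm {U : Type*} [Group U] (β : MulAut U) (b : U) : Equiv.Perm U :=
  β.toEquiv.trans (Equiv.mulLeft b)

theorem affPerm_apply {U : Type*} [Group U] (β : MulAut U) (b a : U) :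
    affPerm β b a = b * β a := rfl

theorem affPerm_pow_mul {U : Type*} [Group U] (β : MulAut U) (b : U) (j : ℕ) (a c : U) :
    (affPerm β b ^ j) (a * c) = (affPerm β b ^ j) a * (β ^ j) c := by
  induction j with
  | zero => simp
  | succ j ih =>
    rw [pow_succ', Equiv.Perm.mul_apply, ih, affPerm_apply, Equiv.Perm.mul_apply, affPerm_apply,
      pow_succ', MulAut.mul_apply, map_mul, mul_assoc]

/-- Brauer's lemma, abstract form. -/
theorem affPerm_exists_period {U : Type*} [Group U] [Finite U] (β : MulAut U) (b : U) :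
    ∃ m, 0 < m ∧ m ∣ Nat.card U ∧ (∃ a, (affPerm β b ^ m) a = a) ∧
      (m = Nat.card U → affPerm β b ^ m = 1 ∧ ∀ w, ∃ j : ℕ, (affPerm β b ^ j) 1 = w) := by
  classical
  set T := affPerm β b with hT
  have hex : ∃ m, 0 < m ∧ ∃ a, (T ^ m) a = a :=
    ⟨orderOf T, orderOf_pos T, 1, by rw [pow_orderOf_eq_one]; rfl⟩
  obtain ⟨hm, a0, ha0⟩ := Nat.find_spec hex
  set m := Nat.find hex with hmdef
  have hmin : ∀ j, 0 < j → j < m → ∀ x, (T ^ j) x ≠ x := fun j hj hjm x hx =>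
    Nat.find_min hex hjm ⟨hj, x, hx⟩
  have hinv : ∀ x, (T ^ m) (T x) = T x ↔ (T ^ m) x = x := by
    intro x
    rw [← Equiv.Perm.mul_apply, ← pow_succ, pow_succ', Equiv.Perm.mul_apply, T.injective.eq_iff]
  let T' : Equiv.Perm {x // (T ^ m) x = x} := T.subtypePerm hinv
  have hT' : ∀ j (x : {x // (T ^ m) x = x}), ((T' ^ j) x : U) = (T ^ j) x := by
    intro j x
    rw [Equiv.Perm.subtypePerm_pow]; rfl
  have : Nonempty {x // (T ^ m) x = x} := ⟨⟨a0, ha0⟩⟩
  obtain ⟨h1, h2⟩ := period_dvd_card T' hm (by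
    ext x; rw [hT']; exact x.2) (fun j hj hjm x hx => hmin j hj hjm x (by rw [← hT', hx]))
  let C : Subgroup U := (β ^ m).toMonoidHom.eqLocus (MonoidHom.id U)
  have hC : Nat.card {x // (T ^ m) x = x} = Nat.card C := by
    refine Nat.card_congr (Equiv.subtypeEquiv (Equiv.mulLeft a0⁻¹) fun x => ?_)
    have h3 := affPerm_pow_mul β b m a0 (a0⁻¹ * x)
    rw [mul_inv_cancel_left, ← hT, ha0] at h3
    show _ ↔ (β ^ m) (a0⁻¹ * x) = a0⁻¹ * x
    rw [h3, eq_inv_mul_iff_mul_eq]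
  refine ⟨m, hm, h1.trans (hC ▸ card_subgroup_dvd_card C), ⟨a0, ha0⟩, fun hmc => ?_⟩
  have h4 : Nat.card {x // (T ^ m) x = x} = Nat.card U :=
    le_antisymm (Nat.card_le_card_of_injective _ Subtype.val_injective)
      (hmc ▸ Nat.le_of_dvd Nat.card_pos h1)
  have h5 : ∀ x, (T ^ m) x = x := by
    have hb : Function.Bijective (Subtype.val : {x // (T ^ m) x = x} → U) :=
      (Nat.bijective_iff_injective_and_card _).mpr ⟨Subtype.val_injective, h4⟩
    intro x
    obtain ⟨y, rfl⟩ := hb.2 x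
    exact y.2
  refine ⟨Equiv.ext h5, fun w => ?_⟩
  obtain ⟨j, hj⟩ := h2 (hmc.trans h4.symm) ⟨1, h5 1⟩ ⟨w, h5 w⟩
  exact ⟨j, by rw [← hT' j ⟨1, h5 1⟩, hj]⟩

variable {G : Type*} [Group G]

/-- The largest subgroup of `H` normalized by `x`. -/
def tailCore (H : Subgroup G) (x : G) : Subgroup G where
  carrier := {f | ∀ k : ℤ, (x ^ k)⁻¹ * f * x ^ k ∈ H}
  one_mem' := fun k => by simp
  mul_mem' := fun {a b} ha hb k => by
    have := H.mul_mem (ha k) (hb k)
    simpa [mul_assoc] using this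
  inv_mem' := fun {a} ha k => by
    have := H.inv_mem (ha k)
    simpa [mul_assoc] using this

theorem tailCore_le (H : Subgroup G) (x : G) : tailCore H x ≤ H := fun f hf => by
  simpa using hf 0

theorem conj_zpow_mem_tailCore {H : Subgroup G} {x f : G} (hf : f ∈ tailCore H x) (j : ℤ) :
    (x ^ j)⁻¹ * f * x ^ j ∈ tailCore H x := fun k => by
  have := hf (j + k)
  rw [zpow_add] at this
  simpa [mul_assoc] using this

theorem mem_normalizer_tailCore (H : Subgroup G) (x : G) :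
    x ∈ normalizer (tailCore H x : Set G) := by
  rw [mem_normalizer_iff]
  intro f
  constructor
  · intro hf
    simpa using conj_zpow_mem_tailCore hf (-1)
  · intro hf
    simpa [mul_assoc] using conj_zpow_mem_tailCore hf 1

theorem zpow_mul_eq_of_mem_tailCore {H : Subgroup G} {x f : G} (hf : f ∈ tailCore H x) (k : ℤ) :
    (x ^ k)⁻¹ * (x * f) ^ k ∈ tailCore H x := by
  induction k using Int.induction_on with
  | zero => simp
  | succ k ih =>
    have h1 := (tailCore H x).mul_mem (conj_zpow_mem_tailCore ih 1) hf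
    rw [zpow_add_one, zpow_add_one]
    simpa [mul_assoc] using h1
  | pred k ih =>
    have h1 := conj_zpow_mem_tailCore ((tailCore H x).mul_mem ih (inv_mem hf)) (-1)
    rw [zpow_sub_one, zpow_sub_one]
    simpa [mul_assoc] using h1

/-- Counting lemma: a set closed under `H`-conjugation and under `x ↦ x * f` for `f` in the
largest subgroup of `H` normalized by `x` has size divisible by the order of `H`. -/
theorem card_dvd_of_tail_closed [Finite G] (H : Subgroup G) (S : Set G)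
    (h1 : ∀ h ∈ H, ∀ x ∈ S, h * x * h⁻¹ ∈ S) (h2 : ∀ x ∈ S, ∀ f ∈ tailCore H x, x * f ∈ S) :
    Nat.card H ∣ Nat.card S := by
  classical
  let φ : G → ℤ → G ⧸ H := fun x k => (x ^ k : G)
  have hφ1 : ∀ (h : H) (x : G), φ (h * x * (h : G)⁻¹) = (h : G) • φ x := by
    intro h x
    ext k
    show (((h * x * (h : G)⁻¹ : G) ^ k : G) : G ⧸ H) = ((h * x ^ k : G) : G ⧸ H)
    rw [conj_zpow, QuotientGroup.eq]
    simp [mul_assoc]
  have hφ2 : ∀ x y : G, φ y = φ x ↔ x⁻¹ * y ∈ tailCore H x := by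
    intro x y
    constructor
    · intro h k
      have h3 : (x ^ (k + 1))⁻¹ * y ^ (k + 1) ∈ H := QuotientGroup.eq.mp (congrFun h (k + 1)).symm
      have h4 : (y ^ k)⁻¹ * x ^ k ∈ H := QuotientGroup.eq.mp (congrFun h k)
      have := H.mul_mem h3 h4
      rw [add_comm k 1, zpow_one_add, zpow_one_add] at this
      simpa [mul_assoc] using this
    · intro h
      ext k
      have := tailCore_le H x (zpow_mul_eq_of_mem_tailCore h k)
      rw [mul_inv_cancel_left] at this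
      exact (QuotientGroup.eq.mpr this).symm
  have hφ3 : ∀ (h : H) (x : G), (h : G) • φ x = φ x ↔ (h : G) ∈ tailCore H x := by
    intro h x
    rw [funext_iff]
    refine forall_congr' fun k => ?_
    show ((h * x ^ k : G) : G ⧸ H) = ((x ^ k : G) : G ⧸ H) ↔ _
    rw [eq_comm, QuotientGroup.eq, mul_assoc]
  let c : G → MulAction.orbitRel.Quotient H (ℤ → G ⧸ H) := fun x => ⟦φ x⟧
  have := Fintype.ofFinite G
  rw [Nat.card_coe_set_eq, Set.ncard_eq_toFinset_card', Finset.card_eq_sum_card_image c]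
  refine Finset.dvd_sum fun t ht => ?_
  obtain ⟨x, hx, rfl⟩ := Finset.mem_image.mp ht
  rw [Set.mem_toFinset] at hx
  apply dvd_of_eq
  let F : Subgroup H := (tailCore H x).subgroupOf H
  rw [card_eq_card_quotient_mul_card_subgroup F, ← Nat.card_prod, ← Fintype.card_coe,
    ← Nat.card_eq_fintype_card]
  have hcx : ∀ (q : H ⧸ F) (f : F), φ (q.out * (x * f) * (q.out : G)⁻¹) =
      (q.out : G) • φ x := by
    intro q f
    rw [hφ1, (hφ2 x (x * f)).mpr (by rw [inv_mul_cancel_left]; exact f.2)]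
  refine Nat.card_congr (Equiv.ofBijective
    (fun p : (H ⧸ F) × F => ⟨p.1.out * (x * p.2) * (p.1.out : G)⁻¹, ?_⟩) ⟨?_, ?_⟩)
  · rw [Finset.mem_filter, Set.mem_toFinset]
    refine ⟨h1 _ p.1.out.2 _ (h2 x hx _ p.2.2), Quotient.sound ⟨p.1.out, ?_⟩⟩
    exact (hcx p.1 p.2).symm
  · rintro ⟨q, f⟩ ⟨q', f'⟩ h
    have h3 : (q.out : G) * (x * f) * (q.out : G)⁻¹ = q'.out * (x * f') * (q'.out : G)⁻¹ :=
      congrArg Subtype.val h
    have h4 := congrArg φ h3
    rw [hcx, hcx] at h4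
    replace h4 : ((q.out⁻¹ * q'.out : H) : G) • φ x = φ x := by
      rw [Subgroup.coe_mul, mul_smul, ← h4, Subgroup.coe_inv, inv_smul_smul]
    rw [hφ3] at h4
    have h5 : q = q' := by
      rw [← q.out_eq', ← q'.out_eq', QuotientGroup.eq]
      exact h4
    subst h5
    simpa using h3
  · rintro ⟨y, hy⟩
    rw [Finset.mem_filter] at hy
    obtain ⟨h, hh⟩ := Quotient.exact hy.2
    have h3 : ((h : H ⧸ F).out)⁻¹ * h ∈ F := QuotientGroup.eq.mp (QuotientGroup.out_eq' _)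
    set q : H ⧸ F := QuotientGroup.mk h with hq
    have h4 : φ ((q.out⁻¹ : H) * y * ((q.out⁻¹ : H) : G)⁻¹) = φ x := by
      have hh' : (h : G) • φ x = φ y := hh
      rw [hφ1, ← hh', ← mul_smul, ← Subgroup.coe_mul, hφ3]
      exact h3
    rw [hφ2] at h4
    refine ⟨(q, ⟨⟨_, tailCore_le H x h4⟩, h4⟩), Subtype.ext ?_⟩
    simp [mul_assoc]

/-- Brauer's lemma. -/
theorem brauer_lemma {U : Subgroup G} [Finite U] {v u : G} (hv : v ∈ normalizer (U : Set G))
    (hu : u ∈ U) : ∃ m, 0 < m ∧ m ∣ Nat.card U ∧ (∃ a ∈ U, (v * u) ^ m = a * v ^ m * a⁻¹) ∧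
      (m = Nat.card U → ∃ (β : MulAut U) (b : U), affPerm β b ^ m = 1 ∧
        ∀ w, ∃ j : ℕ, (affPerm β b ^ j) 1 = w) := by
  let β : MulAut U := U.normalizerMonoidHom ⟨v⁻¹, inv_mem hv⟩
  have hβ : ∀ a : U, (β a : G) = v⁻¹ * a * v := fun a => by
    simp [β, normalizerMonoidHom_apply_apply_coe]
  obtain ⟨m, hm, hd, ⟨a, ha⟩, h⟩ := affPerm_exists_period β ⟨u⁻¹, inv_mem hu⟩
  have hT : ∀ (j : ℕ) (a : U), ((affPerm β ⟨u⁻¹, inv_mem hu⟩ ^ j) a : G) =
      ((v * u) ^ j)⁻¹ * a * v ^ j := by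
    intro j a
    induction j with
    | zero => simp
    | succ j ih =>
      rw [pow_succ', Equiv.Perm.mul_apply, affPerm_apply, Subgroup.coe_mul, hβ, ih, pow_succ,
        pow_succ]
      simp [mul_assoc]
  refine ⟨m, hm, hd, ⟨a, a.2, ?_⟩, fun hmc => ⟨β, _, h hmc⟩⟩
  have := congrArg Subtype.val ha
  rw [hT] at this
  rw [eq_mul_inv_iff_mul_eq]
  conv_lhs => rw [← this]
  simp [mul_assoc]

theorem pow_mem_of_conj {C : Set G} (hC : ∀ g, ∀ x ∈ C, g * x * g⁻¹ ∈ C) {x y a : G} {m n : ℕ}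
    (hmn : m ∣ n) (h : y ^ m = a * x ^ m * a⁻¹) (hx : x ^ n ∈ C) : y ^ n ∈ C := by
  obtain ⟨k, rfl⟩ := hmn
  rw [pow_mul, h, conj_pow, ← pow_mul]
  exact hC _ _ hx

theorem card_subgroup_dvd_card_pow_mem [Finite G] (H : Subgroup G) {n : ℕ} (hn : Nat.card H ∣ n)
    {C : Set G} (hC : ∀ g, ∀ x ∈ C, g * x * g⁻¹ ∈ C) :
    Nat.card H ∣ Nat.card {x : G // x ^ n ∈ C} := by
  apply card_dvd_of_tail_closed H {x | x ^ n ∈ C}
  · intro h _ x hx
    show (h * x * h⁻¹) ^ n ∈ C
    rw [conj_pow]; exact hC _ _ hx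
  · intro x hx f hf
    obtain ⟨m, -, hd, ⟨a, -, ha⟩, -⟩ := brauer_lemma (mem_normalizer_tailCore H x) hf
    exact pow_mem_of_conj hC ((hd.trans (card_dvd_of_le (tailCore_le H x))).trans hn) ha hx

/-- **Frobenius' theorem**: if `m` divides `n` and the group order, and `C` is closed under
conjugation, then `m` divides the number of `x` with `x ^ n ∈ C`. -/
theorem frobenius_dvd_card [Finite G] {m n : ℕ} (hm : m ∣ Nat.card G) (hn : m ∣ n)
    {C : Set G} (hC : ∀ g, ∀ x ∈ C, g * x * g⁻¹ ∈ C) :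
    m ∣ Nat.card {x : G // x ^ n ∈ C} := by
  rw [Nat.dvd_iff_prime_pow_dvd_dvd]
  intro p k hp hk
  have := Fact.mk hp
  obtain ⟨H, hH⟩ := Sylow.exists_subgroup_card_pow_prime p (hk.trans hm)
  rw [← hH]
  exact card_subgroup_dvd_card_pow_mem H (hH ▸ hk.trans hn) hC

theorem frobenius_dvd_card_pow_eq_one [Finite G] {m n : ℕ} (hm : m ∣ Nat.card G) (hn : m ∣ n) :
    m ∣ Nat.card {x : G // x ^ n = 1} :=
  frobenius_dvd_card (C := {1}) hm hn (by simp)

end Cfsg.Agent.H4
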