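import Mathlib
import Cfsg.Agent.H4.FrobCount
import Cfsg.Agent.H3.PBasic
import Cfsg.Agent.H7.AutPGroup

/-! Counting subgroups of prime power order. -/

set_option autoImplicit false

namespace Cfsg.Agent.H4

open Subgroup

universe u

theorem sum_card_comm {α β : Type*} [Finite α] [Finite β] (A : α → Prop) (B : β → Prop)
    (r : α → β → Prop) [Fintype {a // A a}] [Fintype {b // B b}] :
    ∑ a : {a // A a}, Nat.card {b // B b ∧ r a b} = ∑ b : {b // B b}, Nat.card {a // A a ∧ r a b} := by
  rw [← Nat.card_sigma, ← Nat.card_sigma]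
  exact Nat.card_congr ⟨fun x => ⟨⟨x.2.1, x.2.2.1⟩, ⟨x.1.1, x.1.2, x.2.2.2⟩⟩,
    fun x => ⟨⟨x.2.1, x.2.2.1⟩, ⟨x.1.1, x.1.2, x.2.2.2⟩⟩, fun _ => rfl, fun _ => rfl⟩

theorem sum_modEq_card_mul {α : Type*} [Fintype α] {f : α → ℕ} {c n : ℕ}
    (h : ∀ a, f a ≡ c [MOD n]) : ∑ a, f a ≡ Nat.card α * c [MOD n] := by
  have := Nat.ModEq.sum (s := Finset.univ) (f := f) (g := fun _ => c) fun a _ => h a
  simpa using this

theorem sum_modEq_card_subtype {α : Type*} [Fintype α] {f : α → ℕ} {n : ℕ} (Q : α → Prop)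
    (c d : ℕ) (h1 : ∀ a, Q a → f a ≡ c + d [MOD n]) (h2 : ∀ a, ¬ Q a → f a ≡ c [MOD n]) :
    ∑ a, f a ≡ Nat.card α * c + Nat.card {a // Q a} * d [MOD n] := by
  classical
  have := Nat.ModEq.sum (n := n) (s := Finset.univ) (f := f)
    (g := fun a => c + if Q a then d else 0) fun a _ => by
      split_ifs with h
      · exact h1 a h
      · simpa using h2 a h
  rw [Finset.sum_add_distrib, ← Finset.sum_filter] at this
  simpa [Fintype.card_subtype] using this

theorem card_subtype_subtype {α : Type*} (A Q : α → Prop) :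
    Nat.card {a : {a // A a} // Q a.1} = Nat.card {a // A a ∧ Q a} :=
  Nat.card_congr (Equiv.subtypeSubtypeEquivSubtypeInter A Q)

variable {G : Type*} [Group G]

theorem card_subgroup_le_eq (N : Subgroup G) (Q : Subgroup G → Prop) :
    Nat.card {K : Subgroup G // Q K ∧ K ≤ N} = Nat.card {K : Subgroup N // Q (K.map N.subtype)} := by
  symm
  refine Nat.card_eq_of_bijective (fun K => ⟨K.1.map N.subtype, K.2, map_subtype_le _⟩) ⟨?_, ?_⟩
  · intro K L h
    exact Subtype.ext (map_injective N.subtype_injective (congrArg Subtype.val h))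
  · rintro ⟨K, h1, h2⟩
    have : (K.subgroupOf N).map N.subtype = K := by rw [subgroupOf_map_subtype, inf_eq_left.2 h2]
    exact ⟨⟨K.subgroupOf N, by rwa [this]⟩, Subtype.ext this⟩

theorem card_subgroup_ge_eq (N : Subgroup G) [N.Normal] (Q : Subgroup G → Prop) :
    Nat.card {K : Subgroup G // Q K ∧ N ≤ K} =
      Nat.card {K : Subgroup (G ⧸ N) // Q (K.comap (QuotientGroup.mk' N))} := by
  symm
  refine Nat.card_eq_of_bijective (fun K => ⟨K.1.comap (QuotientGroup.mk' N), K.2,
    QuotientGroup.le_comap_mk' N _⟩) ⟨?_, ?_⟩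
  · intro K L h
    exact Subtype.ext (comap_injective (QuotientGroup.mk'_surjective N) (congrArg Subtype.val h))
  · rintro ⟨K, h1, h2⟩
    have : (K.map (QuotientGroup.mk' N)).comap (QuotientGroup.mk' N) = K := by
      rw [comap_map_eq, QuotientGroup.ker_mk', sup_eq_left.2 h2]
    exact ⟨⟨K.map (QuotientGroup.mk' N), by rwa [this]⟩, Subtype.ext this⟩

theorem card_congr_prop {α : Type*} {A B : α → Prop} (h : ∀ a, A a ↔ B a) :
    Nat.card {a // A a} = Nat.card {a // B a} := Nat.card_congr (Equiv.subtypeEquivRight h)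

theorem card_card_le_eq (N : Subgroup G) (n : ℕ) :
    Nat.card {K : Subgroup G // Nat.card K = n ∧ K ≤ N} =
      Nat.card {K : Subgroup N // Nat.card K = n} := by
  rw [card_subgroup_le_eq]
  exact card_congr_prop fun K => by rw [card_map_of_injective N.subtype_injective]

theorem card_cyclic_le_eq (N : Subgroup G) (n : ℕ) :
    Nat.card {K : Subgroup G // (IsCyclic K ∧ Nat.card K = n) ∧ K ≤ N} =
      Nat.card {K : Subgroup N // IsCyclic K ∧ Nat.card K = n} := by
  rw [card_subgroup_le_eq]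
  exact card_congr_prop fun K => by
    rw [card_map_of_injective N.subtype_injective,
      ← (K.equivMapOfInjective _ N.subtype_injective).isCyclic]

theorem card_index_ge_eq (N : Subgroup G) [N.Normal] (n : ℕ) :
    Nat.card {K : Subgroup G // K.index = n ∧ N ≤ K} =
      Nat.card {K : Subgroup (G ⧸ N) // K.index = n} := by
  rw [card_subgroup_ge_eq]
  exact card_congr_prop fun K => by
    rw [index_comap_of_surjective _ (QuotientGroup.mk'_surjective N)]

/-- elements of order `n` and cyclic subgroups of order `n` -/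
theorem card_orderOf_eq_totient_mul [Finite G] {n : ℕ} :
    Nat.card {x : G // orderOf x = n} =
      Nat.totient n * Nat.card {C : Subgroup G // IsCyclic C ∧ Nat.card C = n} := by
  classical
  have := Fintype.ofFinite {x : G // orderOf x = n}
  have := Fintype.ofFinite {C : Subgroup G // IsCyclic C ∧ Nat.card C = n}
  have h := sum_card_comm (fun x : G => orderOf x = n)
    (fun C : Subgroup G => IsCyclic C ∧ Nat.card C = n) (fun x C => x ∈ C)
  have h1 : ∀ x : {x : G // orderOf x = n},
      Nat.card {C : Subgroup G // (IsCyclic C ∧ Nat.card C = n) ∧ x.1 ∈ C} = 1 := by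
    intro x
    rw [Nat.card_eq_one_iff_exists]
    refine ⟨⟨zpowers x.1, ⟨inferInstance, by rw [Nat.card_zpowers, x.2]⟩, mem_zpowers _⟩, ?_⟩
    rintro ⟨C, ⟨-, h2⟩, h3⟩
    apply Subtype.ext
    symm
    exact eq_of_le_of_card_ge ((zpowers_le).2 h3) (by rw [Nat.card_zpowers, x.2, h2])
  have h2 : ∀ C : {C : Subgroup G // IsCyclic C ∧ Nat.card C = n},
      Nat.card {x : G // orderOf x = n ∧ x ∈ C.1} = Nat.totient n := by
    rintro ⟨C, h1, h2⟩
    have := Fintype.ofFinite C
    rw [← IsCyclic.card_orderOf_eq_totient (α := C) (d := n)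
      (by rw [← h2, Nat.card_eq_fintype_card]), ← Fintype.card_subtype, ← Nat.card_eq_fintype_card]
    exact Nat.card_congr ⟨fun x => ⟨⟨x.1, x.2.2⟩, by simpa using x.2.1⟩,
      fun x => ⟨x.1.1, by simpa using x.2, x.1.2⟩, fun _ => rfl, fun _ => rfl⟩
  simp only [h1, h2, Finset.sum_const, Finset.card_univ, smul_eq_mul, mul_one] at h
  rw [Nat.card_eq_fintype_card, h, Nat.card_eq_fintype_card, mul_comm]

theorem card_pow_prime_eq_one [Finite G] {p : ℕ} (hp : p.Prime) :
    Nat.card {x : G // x ^ p = 1} = 1 + (p - 1) * Nat.card {H : Subgroup G // Nat.card H = p} := by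
  have hfp := Fact.mk hp
  have h1 : Nat.card {H : Subgroup G // Nat.card H = p} =
      Nat.card {C : Subgroup G // IsCyclic C ∧ Nat.card C = p} :=
    card_congr_prop fun H => ⟨fun h => ⟨isCyclic_of_prime_card h, h⟩, fun h => h.2⟩
  rw [h1, ← Nat.totient_prime hp, ← card_orderOf_eq_totient_mul]
  have h2 : {x : G | x ^ p = 1} = insert 1 {x : G | orderOf x = p} := by
    ext x
    simp only [Set.mem_ofPred_eq, Set.mem_insert_iff, ← orderOf_dvd_iff_pow_eq_one,
      Nat.dvd_prime hp, orderOf_eq_one_iff]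
  have h3 := congrArg Set.ncard h2
  rw [Set.ncard_insert_of_notMem (by simpa using hp.one_lt.ne)] at h3
  rw [add_comm]
  exact (Nat.card_coe_set_eq _).trans (h3.trans (congrArg (· + 1) (Nat.card_coe_set_eq _).symm))

theorem card_subgroup_prime_modEq [Finite G] {p : ℕ} (hp : p.Prime) (h : p ∣ Nat.card G) :
    Nat.card {H : Subgroup G // Nat.card H = p} ≡ 1 [MOD p] := by
  have h1 := frobenius_dvd_card_pow_eq_one h dvd_rfl
  rw [card_pow_prime_eq_one hp] at h1
  set s := Nat.card {H : Subgroup G // Nat.card H = p}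
  have h2 : 1 + (p - 1) * s + s = 1 + p * s := by
    have := hp.pos
    zify [this]; ring
  have h3 : s ≡ 1 + (p - 1) * s + s [MOD p] := by
    simpa using (Nat.ModEq.add_right s ((Nat.modEq_zero_iff_dvd).2 h1)).symm
  rw [h2] at h3
  simpa using h3.trans (Nat.ModEq.add_left 1 ((Nat.modEq_zero_iff_dvd).2 (dvd_mul_right p s)))

/-- In a finite abelian group there are as many subgroups of index `n` as of order `n`. -/
theorem card_index_eq_card_card {A : Type*} [CommGroup A] [Finite A] (n : ℕ) :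
    Nat.card {H : Subgroup A // H.index = n} = Nat.card {H : Subgroup A // Nat.card H = n} := by
  have : NeZero (Monoid.exponent A) := ⟨Monoid.exponent_ne_zero_of_finite⟩
  obtain ⟨e⟩ := CommGroup.monoidHom_mulEquiv_of_hasEnoughRootsOfUnity A ℂ
  refine Nat.card_congr (Equiv.subtypeEquiv
    (((CommGroup.subgroupOrderIsoSubgroupMonoidHom A ℂ).toEquiv.trans OrderDual.ofDual).trans
      e.mapSubgroup.toEquiv) fun H => ?_)
  have h1 := CommGroup.card_subgroupOrderIsoSubgroupMonoidHom ℂ H
  rw [index_eq_card, ← h1]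
  apply iff_of_eq
  congr 1
  exact (card_map_of_injective (f := e.toMonoidHom) e.injective).symm

theorem eq_geom_sum_of {p a j : ℕ} (hp : 1 < p) (h : p ^ j = 1 + (p - 1) * a) :
    a = ∑ i ∈ Finset.range j, p ^ i := by
  rw [Nat.geomSum_eq hp, h, Nat.add_sub_cancel_left, Nat.mul_div_cancel_left _ (by omega)]

/-- The number of maximal subgroups of a `p`-group containing a given subgroup. -/
theorem card_coatom_ge_eq [Finite G] {p : ℕ} [hp : Fact p.Prime] (hG : IsPGroup p G)
    (H : Subgroup G) {j : ℕ} (hj : (H ⊔ frattini G).index = p ^ j) :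
    Nat.card {M : Subgroup G // M.index = p ∧ H ≤ M} = ∑ i ∈ Finset.range j, p ^ i := by
  have hN : (H ⊔ frattini G).Normal :=
    Subgroup.Normal.of_commutator_le G ((H3.commutator_le_frattini hG).trans le_sup_right)
  have h1 : Nat.card {M : Subgroup G // M.index = p ∧ H ≤ M} =
      Nat.card {M : Subgroup G // M.index = p ∧ H ⊔ frattini G ≤ M} :=
    card_congr_prop fun M => and_congr_right fun hM => ⟨fun h => sup_le h
      (frattini_le_coatom ((H3.isCoatom_iff_index_eq hG).2 hM)), fun h => le_sup_left.trans h⟩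
  have hc : IsMulCommutative (G ⧸ (H ⊔ frattini G)) :=
    Subgroup.Normal.quotient_commutative_iff_commutator_le.2
      ((H3.commutator_le_frattini hG).trans le_sup_right)
  rw [h1, card_index_ge_eq]
  let _ : CommGroup (G ⧸ (H ⊔ frattini G)) := { mul_comm := mul_comm' }
  rw [card_index_eq_card_card]
  apply eq_geom_sum_of hp.out.one_lt
  rw [← card_pow_prime_eq_one hp.out, ← hj, index_eq_card]
  refine (Nat.card_congr (Equiv.subtypeUnivEquiv fun x => ?_)).symm
  obtain ⟨x, rfl⟩ := QuotientGroup.mk_surjective x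
  rw [← QuotientGroup.mk_pow, QuotientGroup.eq_one_iff]
  exact mem_sup_right (H3.pow_mem_frattini hG x)

theorem geom_sum_modEq_one {p j : ℕ} (hj : j ≠ 0) : ∑ i ∈ Finset.range j, p ^ i ≡ 1 [MOD p] := by
  obtain ⟨j, rfl⟩ := Nat.exists_eq_succ_of_ne_zero hj
  rw [Finset.sum_range_succ', pow_zero]
  have : p ∣ ∑ i ∈ Finset.range j, p ^ (i + 1) :=
    Finset.dvd_sum fun i _ => dvd_pow_self p (Nat.succ_ne_zero i)
  simpa using Nat.ModEq.add_right 1 ((Nat.modEq_zero_iff_dvd).2 this)

theorem geom_sum_modEq_one_add {p j : ℕ} (hj : 2 ≤ j) :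
    ∑ i ∈ Finset.range j, p ^ i ≡ 1 + p [MOD p ^ 2] := by
  obtain ⟨j, rfl⟩ := Nat.exists_eq_add_of_le' hj
  rw [Finset.sum_range_succ', Finset.sum_range_succ', pow_zero, zero_add, pow_one]
  have : p ^ 2 ∣ ∑ i ∈ Finset.range j, p ^ (i + 1 + 1) :=
    Finset.dvd_sum fun i _ => pow_dvd_pow p (by omega)
  have := Nat.ModEq.add_right (p + 1) ((Nat.modEq_zero_iff_dvd).2 this)
  rw [zero_add, ← add_assoc, add_comm p 1] at this
  exact this

theorem sup_frattini_ne_top [Finite G] {H : Subgroup G} (hH : H ≠ ⊤) : H ⊔ frattini G ≠ ⊤ :=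
  fun h => hH (frattini_nongenerating h)

theorem card_coatom_ge_modEq [Finite G] {p : ℕ} [hp : Fact p.Prime] (hG : IsPGroup p G)
    {H : Subgroup G} (hH : H ≠ ⊤) :
    Nat.card {M : Subgroup G // M.index = p ∧ H ≤ M} ≡ 1 [MOD p] := by
  obtain ⟨j, hj⟩ := hG.index (H ⊔ frattini G)
  rw [card_coatom_ge_eq hG H hj]
  refine geom_sum_modEq_one ?_
  rintro rfl
  exact sup_frattini_ne_top hH (index_eq_one.1 (by simpa using hj))

theorem card_index_eq_iff [Finite G] {a b : ℕ} (h : Nat.card G = a * b) (H : Subgroup G) :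
    Nat.card H = a ↔ H.index = b := by
  have h1 := H.card_mul_index
  have h2 : 0 < a * b := h ▸ Nat.card_pos
  rw [h] at h1
  constructor
  · intro h3
    rw [h3] at h1
    exact Nat.eq_of_mul_eq_mul_left (Nat.pos_of_mul_pos_right h2) h1
  · intro h3
    rw [h3] at h1
    exact Nat.eq_of_mul_eq_mul_right (Nat.pos_of_mul_pos_left h2) h1

/-- The number of subgroups of order `p ^ (k + 1)` containing a subgroup of order `p ^ k`. -/
theorem card_succ_ge_modEq [Finite G] {p k : ℕ} [hp : Fact p.Prime] (hd : p ^ (k + 1) ∣ Nat.card G)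
    {H : Subgroup G} (hH : Nat.card H = p ^ k) :
    Nat.card {K : Subgroup G // Nat.card K = p ^ (k + 1) ∧ H ≤ K} ≡ 1 [MOD p] := by
  have h1 : Nat.card {K : Subgroup G // Nat.card K = p ^ (k + 1) ∧ H ≤ K} =
      Nat.card {K : Subgroup G // (Nat.card K = p ^ (k + 1) ∧ H ≤ K) ∧
        K ≤ normalizer (H : Set G)} := by
    refine card_congr_prop fun K => ⟨fun h => ⟨h, ?_⟩, fun h => h.1⟩
    rw [← normal_subgroupOf_iff_le_normalizer h.2]
    refine H3.normal_of_index_eq_prime (IsPGroup.of_card h.1) ?_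
    refine (card_index_eq_iff (a := p ^ k) (by rw [h.1, pow_succ]) _).1 ?_
    rw [← hH]
    exact Nat.card_congr (subgroupOfEquivOfLe h.2).toEquiv
  rw [h1, card_subgroup_le_eq]
  set N := normalizer (H : Set G)
  have h2 : Nat.card {K : Subgroup N // Nat.card (K.map N.subtype) = p ^ (k + 1) ∧
      H ≤ K.map N.subtype} =
      Nat.card {K : Subgroup N // Nat.card K = p ^ (k + 1) ∧ H.subgroupOf N ≤ K} := by
    refine card_congr_prop fun K => and_congr (by
      rw [card_map_of_injective N.subtype_injective]) ⟨fun h => ?_, fun h => ?_⟩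
    · exact (comap_mono h).trans (comap_map_eq_self_of_injective N.subtype_injective K).le
    · have := map_mono (f := N.subtype) h
      rwa [subgroupOf_map_subtype, inf_eq_left.2 le_normalizer] at this
  rw [h2, card_subgroup_ge_eq]
  have h3 : Nat.card (H.subgroupOf N) = p ^ k := by
    rw [← hH]; exact Nat.card_congr (subgroupOfEquivOfLe le_normalizer).toEquiv
  have h4 : Nat.card {K : Subgroup (N ⧸ H.subgroupOf N) //
      Nat.card (K.comap (QuotientGroup.mk' (H.subgroupOf N))) = p ^ (k + 1)} =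
      Nat.card {K : Subgroup (N ⧸ H.subgroupOf N) // Nat.card K = p} := by
    refine card_congr_prop fun K => ?_
    rw [H3.card_comap_mk', h3, pow_succ']
    exact Nat.mul_left_inj (pow_pos hp.out.pos k).ne'
  rw [h4]
  exact card_subgroup_prime_modEq hp.out (Sylow.prime_dvd_card_quotient_normalizer hd hH)

/-- Frobenius: the number of subgroups of order `p ^ k` is `1` modulo `p`. -/
theorem card_subgroup_pow_modEq [Finite G] {p : ℕ} (hp : p.Prime) {k : ℕ}
    (hd : p ^ k ∣ Nat.card G) : Nat.card {H : Subgroup G // Nat.card H = p ^ k} ≡ 1 [MOD p] := by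
  have hfp := Fact.mk hp
  induction k with
  | zero =>
    have : Nat.card {H : Subgroup G // Nat.card H = p ^ 0} = 1 := by
      rw [Nat.card_eq_one_iff_exists]
      exact ⟨⟨⊥, by simp⟩, fun H => Subtype.ext (card_eq_one.1 (by simpa using H.2))⟩
    rw [this]
  | succ k ih =>
    have := Fintype.ofFinite {H : Subgroup G // Nat.card H = p ^ k}
    have := Fintype.ofFinite {H : Subgroup G // Nat.card H = p ^ (k + 1)}
    have h := sum_card_comm (fun H : Subgroup G => Nat.card H = p ^ k)
      (fun K : Subgroup G => Nat.card K = p ^ (k + 1)) (fun H K => H ≤ K)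
    have h1 := sum_modEq_card_mul (α := {H : Subgroup G // Nat.card H = p ^ k})
      fun H => card_succ_ge_modEq hd H.2
    have h2 := sum_modEq_card_mul (α := {H : Subgroup G // Nat.card H = p ^ (k + 1)})
      (f := fun K => Nat.card {H : Subgroup G // Nat.card H = p ^ k ∧ H ≤ K.1}) (c := 1) (n := p)
      fun K => by
        rw [card_card_le_eq]
        have h3 : Nat.card {H : Subgroup K.1 // Nat.card H = p ^ k} =
            Nat.card {M : Subgroup K.1 // M.index = p ∧ ⊥ ≤ M} := card_congr_prop fun M => by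
          rw [card_index_eq_iff (b := p) (by rw [K.2, pow_succ])]; simp
        rw [h3]
        refine card_coatom_ge_modEq (IsPGroup.of_card K.2) fun h => ?_
        have h4 := congrArg (fun H : Subgroup K.1 => Nat.card H) h
        simp only [card_bot, card_top, K.2] at h4
        exact (Nat.one_lt_pow (Nat.succ_ne_zero k) hp.one_lt).ne h4
    rw [mul_one] at h1 h2
    exact h2.symm.trans (h ▸ h1.trans (ih ((pow_dvd_pow p k.le_succ).trans hd)))

theorem card_cyclic_eq_one_of_isCyclic [Finite G] [IsCyclic G] {d : ℕ} (hd : d ∣ Nat.card G) :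
    Nat.card {C : Subgroup G // IsCyclic C ∧ Nat.card C = d} = 1 := by
  classical
  have := Fintype.ofFinite G
  have h := card_orderOf_eq_totient_mul (G := G) (n := d)
  rw [Nat.card_eq_fintype_card, Fintype.card_subtype,
    IsCyclic.card_orderOf_eq_totient (by rwa [← Nat.card_eq_fintype_card])] at h
  have h0 : 0 < Nat.totient d := Nat.totient_pos.2 (Nat.pos_of_dvd_of_pos hd Nat.card_pos)
  exact (Nat.eq_of_mul_eq_mul_left h0 ((mul_one _).trans h)).symm

theorem card_subgroup_eq_one_of_isCyclic [Finite G] [IsCyclic G] {d : ℕ} (hd : d ∣ Nat.card G) :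
    Nat.card {C : Subgroup G // Nat.card C = d} = 1 := by
  rw [← card_cyclic_eq_one_of_isCyclic hd]
  exact card_congr_prop fun C => ⟨fun h => ⟨inferInstance, h⟩, fun h => h.2⟩

theorem sq_dvd_index_frattini [Finite G] {p : ℕ} [hp : Fact p.Prime] (hG : IsPGroup p G)
    (hc : ¬ IsCyclic G) : p ^ 2 ∣ (frattini G).index := by
  obtain ⟨j, hj⟩ := hG.index (frattini G)
  rw [hj]
  refine pow_dvd_pow p ?_
  by_contra hlt
  apply hc
  refine H3.isCyclic_of_quotient_le_frattini _ le_rfl ?_
  refine isCyclic_of_card_dvd_prime (p := p) ?_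
  rw [← index_eq_card, hj]
  calc p ^ j ∣ p ^ 1 := pow_dvd_pow p (by omega)
    _ = p := pow_one p

theorem card_coatom_modEq_of_not_isCyclic [Finite G] {p : ℕ} [hp : Fact p.Prime]
    (hG : IsPGroup p G) (hc : ¬ IsCyclic G) :
    Nat.card {M : Subgroup G // M.index = p} ≡ 1 + p [MOD p ^ 2] := by
  obtain ⟨j, hj⟩ := hG.index (frattini G)
  have h := card_coatom_ge_eq hG ⊥ (j := j) (by rw [bot_sup_eq, hj])
  have h1 : Nat.card {M : Subgroup G // M.index = p} =
      Nat.card {M : Subgroup G // M.index = p ∧ ⊥ ≤ M} := card_congr_prop fun M => by simp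
  rw [h1, h]
  refine geom_sum_modEq_one_add ?_
  have := sq_dvd_index_frattini hG hc
  rwa [hj, Nat.pow_dvd_pow_iff_le_right hp.out.one_lt] at this

theorem card_index_pow_ge_modEq [Finite G] {p : ℕ} [hp : Fact p.Prime] (hG : IsPGroup p G)
    (N : Subgroup G) [N.Normal] {i : ℕ} (h : p ^ i ∣ N.index) :
    Nat.card {D : Subgroup G // D.index = p ^ i ∧ N ≤ D} ≡ 1 [MOD p] := by
  obtain ⟨j, hj⟩ := hG.index N
  rw [hj, Nat.pow_dvd_pow_iff_le_right hp.out.one_lt] at h
  obtain ⟨l, rfl⟩ := Nat.exists_eq_add_of_le' h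
  rw [card_index_ge_eq]
  have h1 : Nat.card (G ⧸ N) = p ^ l * p ^ i := by rw [← index_eq_card, hj, pow_add]
  rw [← card_congr_prop (card_index_eq_iff h1)]
  exact card_subgroup_pow_modEq hp.out (h1 ▸ dvd_mul_right _ _)

/-- In a group of order `p ^ m`, for `k < m`: (number of subgroups of order `p ^ k`) + `p` ·
(number of cyclic subgroups of order `p ^ (k + 1)`) is `1 + p` modulo `p ^ 2`. -/
theorem kulakoff_formula {p : ℕ} [hp : Fact p.Prime] {k : ℕ} (m : ℕ) :
    ∀ (G : Type u) [Group G] [Finite G], Nat.card G = p ^ m → k < m →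
      Nat.card {H : Subgroup G // Nat.card H = p ^ k} +
        p * Nat.card {C : Subgroup G // IsCyclic C ∧ Nat.card C = p ^ (k + 1)} ≡
        1 + p [MOD p ^ 2] := by
  induction m with
  | zero => intro G _ _ _ h; omega
  | succ m ih =>
  intro G _ _ hG hk
  have hP : IsPGroup p G := IsPGroup.of_card hG
  by_cases hc : IsCyclic G
  · rw [card_subgroup_eq_one_of_isCyclic (hG ▸ pow_dvd_pow p hk.le),
      card_cyclic_eq_one_of_isCyclic (hG ▸ pow_dvd_pow p hk), mul_one]
  have hA := card_coatom_modEq_of_not_isCyclic hP hc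
  have hidx : ∀ M : Subgroup G, Nat.card M = p ^ m ↔ M.index = p :=
    card_index_eq_iff (by rw [hG, pow_succ])
  rcases Nat.lt_succ_iff_lt_or_eq.1 hk with hk' | rfl
  swap
  · have h0 : Nat.card {C : Subgroup G // IsCyclic C ∧ Nat.card C = p ^ (k + 1)} = 0 := by
      rw [Nat.card_eq_zero]
      left
      refine ⟨fun C => hc ?_⟩
      have h1 : C.1 = ⊤ := eq_top_of_card_eq _ (by rw [C.2.2, hG])
      have h2 := C.2.1
      rw [h1] at h2
      exact isCyclic_of_surjective (⊤ : Subgroup G).subtype fun x => ⟨⟨x, trivial⟩, rfl⟩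
    rw [h0, mul_zero, add_zero, card_congr_prop hidx]
    exact hA
  have := Fintype.ofFinite {M : Subgroup G // M.index = p}
  have := Fintype.ofFinite {H : Subgroup G // Nat.card H = p ^ k}
  have := Fintype.ofFinite {C : Subgroup G // IsCyclic C ∧ Nat.card C = p ^ (k + 1)}
  have := Fintype.ofFinite {D : Subgroup G // D.index = p ^ 2 ∧ frattini G ≤ D}
  have hne : ∀ (H : Subgroup G) (i : ℕ), i < m + 1 → Nat.card H = p ^ i → H ≠ ⊤ := by
    rintro H i hi h rfl
    rw [card_top, hG] at h
    exact hi.ne' (Nat.pow_right_injective hp.out.two_le h)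
  have hnorm : ∀ H : Subgroup G, (H ⊔ frattini G).Normal := fun H =>
    Subgroup.Normal.of_commutator_le G ((H3.commutator_le_frattini hP).trans le_sup_right)
  set S := Nat.card {H : Subgroup G // Nat.card H = p ^ k} with hS
  set C := Nat.card {C : Subgroup G // IsCyclic C ∧ Nat.card C = p ^ (k + 1)} with hC
  set t := Nat.card {H : {H : Subgroup G // Nat.card H = p ^ k} //
    p ^ 2 ∣ (H.1 ⊔ frattini G).index} with ht
  -- (1)
  have e1 : ∑ M : {M : Subgroup G // M.index = p},
      Nat.card {H : Subgroup G // Nat.card H = p ^ k ∧ H ≤ M.1} ≡ S * 1 + t * p [MOD p ^ 2] := by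
    rw [sum_card_comm (fun M : Subgroup G => M.index = p)
      (fun H : Subgroup G => Nat.card H = p ^ k) (fun M H => H ≤ M)]
    refine sum_modEq_card_subtype _ 1 p (fun H h => ?_) (fun H h => ?_)
    · obtain ⟨j, hj⟩ := hP.index (H.1 ⊔ frattini G)
      rw [card_coatom_ge_eq hP H.1 hj]
      rw [hj, Nat.pow_dvd_pow_iff_le_right hp.out.one_lt] at h
      exact geom_sum_modEq_one_add h
    · obtain ⟨j, hj⟩ := hP.index (H.1 ⊔ frattini G)
      rw [card_coatom_ge_eq hP H.1 hj]
      rw [hj, Nat.pow_dvd_pow_iff_le_right hp.out.one_lt] at h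
      have h0 : j ≠ 0 := by
        rintro rfl
        exact sup_frattini_ne_top (hne _ k hk H.2) (index_eq_one.1 (by simpa using hj))
      obtain rfl : j = 1 := by omega
      simp [Nat.ModEq.refl]
  -- (2)
  have e2 : t ≡ 1 [MOD p] := by
    have h := sum_card_comm (fun D : Subgroup G => D.index = p ^ 2 ∧ frattini G ≤ D)
      (fun H : Subgroup G => Nat.card H = p ^ k) (fun D H => H ≤ D)
    have h1 := sum_modEq_card_mul (α := {D : Subgroup G // D.index = p ^ 2 ∧ frattini G ≤ D})
      (f := fun D => Nat.card {H : Subgroup G // Nat.card H = p ^ k ∧ H ≤ D.1}) (c := 1) (n := p)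
      fun D => by
        rw [card_card_le_eq]
        refine card_subgroup_pow_modEq hp.out ?_
        obtain ⟨l, rfl⟩ := Nat.exists_eq_add_of_lt hk'
        have h2 : Nat.card G = p ^ (k + l) * p ^ 2 := by rw [hG]; ring
        rw [(card_index_eq_iff h2 D.1).2 D.2.1]
        exact pow_dvd_pow p (by omega)
    have h2 := sum_modEq_card_subtype (α := {H : Subgroup G // Nat.card H = p ^ k})
      (f := fun H => Nat.card {D : Subgroup G // (D.index = p ^ 2 ∧ frattini G ≤ D) ∧ H.1 ≤ D})
      (n := p) (fun H => p ^ 2 ∣ (H.1 ⊔ frattini G).index) 0 1 (fun H h => by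
        have := hnorm H.1
        rw [zero_add, card_congr_prop (B := fun D => D.index = p ^ 2 ∧ H.1 ⊔ frattini G ≤ D)
          fun D => by rw [sup_le_iff]; tauto]
        exact card_index_pow_ge_modEq hP _ h) (fun H h => by
        have : Nat.card {D : Subgroup G // (D.index = p ^ 2 ∧ frattini G ≤ D) ∧ H.1 ≤ D} = 0 := by
          rw [Nat.card_eq_zero]
          left
          exact ⟨fun D => h (D.2.1.1 ▸ index_dvd_of_le (sup_le D.2.2 D.2.1.2))⟩
        rw [this])
    rw [mul_zero, zero_add, mul_one, ← h] at h2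
    rw [mul_one] at h1
    exact h2.symm.trans (h1.trans
      (card_index_pow_ge_modEq hP _ (sq_dvd_index_frattini hP hc)))
  -- (3)
  have e3 : ∑ M : {M : Subgroup G // M.index = p},
      Nat.card {H : Subgroup G // (IsCyclic H ∧ Nat.card H = p ^ (k + 1)) ∧ H ≤ M.1} ≡
      C * 1 [MOD p] := by
    rw [sum_card_comm (fun M : Subgroup G => M.index = p)
      (fun H : Subgroup G => IsCyclic H ∧ Nat.card H = p ^ (k + 1)) (fun M H => H ≤ M)]
    exact sum_modEq_card_mul fun H => card_coatom_ge_modEq hP (hne _ (k + 1) (by omega) H.2.2)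
  -- (4)
  have e4 := sum_modEq_card_mul (α := {M : Subgroup G // M.index = p})
    (f := fun M => Nat.card {H : Subgroup G // Nat.card H = p ^ k ∧ H ≤ M.1} +
      p * Nat.card {H : Subgroup G // (IsCyclic H ∧ Nat.card H = p ^ (k + 1)) ∧ H ≤ M.1})
    (c := 1 + p) (n := p ^ 2) fun M => by
      rw [card_card_le_eq, card_cyclic_le_eq]
      exact ih M.1 ((hidx _).2 M.2) hk'
  rw [Finset.sum_add_distrib, ← Finset.mul_sum] at e4
  have e3' := e3.mul_left' p
  have e2' := e2.mul_left' p
  rw [← pow_two] at e3' e2'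
  have e5 := (e1.add e3').symm.trans (e4.trans (hA.mul_right _))
  have e6 : S + p * C + p ≡ 1 + p + p [MOD p ^ 2] := by
    have a1 : S + p * C + p * 1 ≡ S + p * C + p * t [MOD p ^ 2] := e2'.symm.add_left _
    have a2 : S + p * C + p * t = S * 1 + t * p + p * (C * 1) := by ring
    have a3 : (1 + p) * (1 + p) = 1 + p + p + p ^ 2 := by ring
    rw [a2, mul_one] at a1
    rw [a3] at e5
    exact a1.trans (e5.trans (by simp [Nat.ModEq]))
  exact Nat.ModEq.add_right_cancel' p e6

end Cfsg.Agent.H4
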