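import Mathlib
import Cfsg.Prelude.Def_KGroupFacts

/-!
Central extensions: basic lemmas (helper4).
-/

set_option autoImplicit false

namespace Cfsg.Agent.H4

open Subgroup
open scoped commutatorElement

universe u v w

/-- A surjective homomorphism with central kernel. -/
structure IsCentralExt {E : Type*} {Q : Type*} [Group E] [Group Q] (π : E →* Q) : Prop where
  surj : Function.Surjective π
  central : π.ker ≤ center E

/-- The part of the kernel inside the commutator subgroup. -/
abbrev mker {E : Type*} {Q : Type*} [Group E] [Group Q] (π : E →* Q) : Subgroup E :=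
  π.ker ⊓ commutator E

section Basic

variable {E Q U X G : Type*} [Group E] [Group Q] [Group U] [Group X] [Group G]

theorem stem_isCentralExt {σ : E →* Q} (h : Cfsg.IsStemExtension σ) : IsCentralExt σ :=
  ⟨h.1, h.2.1⟩

theorem stem_mker_eq {σ : E →* Q} (h : Cfsg.IsStemExtension σ) : mker σ = σ.ker :=
  inf_eq_left.mpr h.2.2

theorem commutatorElement_mul_central {a b z w : E} (hz : z ∈ center E) (hw : w ∈ center E) :
    ⁅a * z, b * w⁆ = ⁅a, b⁆ := by
  have hz' : ∀ g : E, g * z = z * g := mem_center_iff.mp hz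
  have hw' : ∀ g : E, g * w = w * g := mem_center_iff.mp hw
  have h1 : a * z * (b * w) = a * b * (z * w) := by
    rw [mul_assoc a z, ← mul_assoc z b, ← hz' b]; simp only [mul_assoc]
  have h2 : b * w * (a * z) = b * a * (z * w) := by
    rw [mul_assoc b w, ← mul_assoc w a, ← hw' a, ← hz' w]; simp only [mul_assoc]
  have h3 : ∀ x y : E, ⁅x, y⁆ = (x * y) * (y * x)⁻¹ := by
    intro x y; rw [commutatorElement_def]; group
  rw [h3, h3, h1, h2]; group

/-- If `f : U → E` covers `Q` then it maps the commutator subgroup onto the commutator subgroup. -/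
theorem map_commutator_of_over {π : E →* Q} (hc : π.ker ≤ center E) (f : U →* E)
    (hf : ∀ x : E, ∃ u : U, π (f u) = π x) : (commutator U).map f = commutator E := by
  apply le_antisymm
  · rw [map_commutator_eq]
    exact commutator_mono le_top le_top
  · rw [_root_.commutator_def, commutator_le]
    intro x _ y _
    obtain ⟨a, ha⟩ := hf x
    obtain ⟨b, hb⟩ := hf y
    have hz : (f a)⁻¹ * x ∈ center E := hc (by simp [MonoidHom.mem_ker, ha])
    have hw : (f b)⁻¹ * y ∈ center E := hc (by simp [MonoidHom.mem_ker, hb])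
    have := commutatorElement_mul_central (a := f a) (b := f b) hz hw
    simp only [mul_inv_cancel_left] at this
    rw [this, ← map_commutatorElement]
    exact mem_map_of_mem f (commutator_mem_commutator (mem_top a) (mem_top b))

theorem map_mker_of_over {π : E →* Q} (hc : π.ker ≤ center E) (f : U →* E) {ρ : U →* Q}
    (hρ : π.comp f = ρ) (hs : Function.Surjective ρ) : (mker ρ).map f = mker π := by
  have hf : ∀ x : E, ∃ u : U, π (f u) = π x := fun x => by
    obtain ⟨u, hu⟩ := hs (π x)
    exact ⟨u, by rw [← hu, ← hρ]; rfl⟩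
  have h := map_commutator_of_over hc f hf
  apply le_antisymm
  · rintro _ ⟨u, ⟨hu1, hu2⟩, rfl⟩
    refine ⟨?_, h ▸ mem_map_of_mem f hu2⟩
    have : ρ u = 1 := hu1
    rw [← hρ] at this
    exact this
  · rintro x ⟨hx1, hx2⟩
    rw [← h] at hx2
    obtain ⟨u, hu, rfl⟩ := hx2
    refine ⟨u, ⟨?_, hu⟩, rfl⟩
    have : π (f u) = 1 := hx1
    show ρ u = 1
    rw [← hρ]; exact this

/-- A map over `Q` into a central extension gives a surjection of the `mker`s. -/
theorem exists_surj_mker_of_over {π : E →* Q} (hc : π.ker ≤ center E) (f : U →* E) {ρ : U →* Q}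
    (hρ : π.comp f = ρ) (hs : Function.Surjective ρ) :
    ∃ g : mker ρ →* mker π, Function.Surjective g ∧ ∀ x, (g x : E) = f x := by
  have h := map_mker_of_over hc f hρ hs
  refine ⟨(f.comp (mker ρ).subtype).codRestrict (mker π)
    (fun x => h ▸ mem_map_of_mem f x.2), ?_, fun x => rfl⟩
  rintro ⟨y, hy⟩
  rw [← h] at hy
  obtain ⟨x, hx, rfl⟩ := hy
  exact ⟨⟨x, hx⟩, rfl⟩

/-- A map over `Q` into a stem extension is surjective. -/
theorem surjective_of_over_stem {σ : E →* Q} (hσ : Cfsg.IsStemExtension σ) (f : U →* E)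
    (hs : Function.Surjective (σ.comp f)) : Function.Surjective f := by
  intro x
  obtain ⟨u, hu⟩ := hs (σ x)
  have hk : (f u)⁻¹ * x ∈ mker σ := by
    rw [stem_mker_eq hσ]
    have : σ (f u) = σ x := hu
    simp [MonoidHom.mem_ker, this]
  rw [← map_mker_of_over hσ.2.1 f rfl hs] at hk
  obtain ⟨w, -, hw⟩ := hk
  exact ⟨u * w, by rw [map_mul, hw]; simp⟩

/-- Two lifts through a central extension agree on the commutator subgroup. -/
theorem eqOn_commutator_of_over {ξ : X →* Q} (hc : ξ.ker ≤ center X) {η₁ η₂ : G →* X}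
    (h : ξ.comp η₁ = ξ.comp η₂) {g : G} (hg : g ∈ commutator G) : η₁ g = η₂ g := by
  have : commutator G ≤ η₁.eqLocus η₂ := by
    rw [_root_.commutator_def, commutator_le]
    intro x _ y _
    have hx : (η₁ x)⁻¹ * η₂ x ∈ center X := hc (by
      have : ξ (η₁ x) = ξ (η₂ x) := DFunLike.congr_fun h x
      simp [MonoidHom.mem_ker, this])
    have hy : (η₁ y)⁻¹ * η₂ y ∈ center X := hc (by
      have : ξ (η₁ y) = ξ (η₂ y) := DFunLike.congr_fun h y
      simp [MonoidHom.mem_ker, this])
    have := commutatorElement_mul_central (a := η₁ x) (b := η₁ y) hx hy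
    simp only [mul_inv_cancel_left] at this
    show η₁ ⁅x, y⁆ = η₂ ⁅x, y⁆
    rw [map_commutatorElement, map_commutatorElement, this]
  exact this hg

/-- Schur's theorem: a central extension of a finite group has finite commutator subgroup. -/
theorem IsCentralExt.finite_commutator [Finite Q] {π : E →* Q} (h : IsCentralExt π) :
    Finite (commutator E) := by
  have : Finite (commutatorSet E) := by
    let s := Function.surjInv h.surj
    have hs : ∀ q, π (s q) = q := Function.surjInv_eq h.surj
    have : commutatorSet E ⊆ Set.range (fun p : Q × Q => ⁅s p.1, s p.2⁆) := by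
      rintro _ ⟨x, y, rfl⟩
      refine ⟨(π x, π y), ?_⟩
      have hx : (s (π x))⁻¹ * x ∈ center E := h.central (by simp [MonoidHom.mem_ker, hs])
      have hy : (s (π y))⁻¹ * y ∈ center E := h.central (by simp [MonoidHom.mem_ker, hs])
      have := commutatorElement_mul_central (a := s (π x)) (b := s (π y)) hx hy
      simp only [mul_inv_cancel_left] at this
      exact this.symm
    exact ((Set.finite_range _).subset this).to_subtype
  infer_instance

theorem IsCentralExt.finite_mker [Finite Q] {π : E →* Q} (h : IsCentralExt π) :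
    Finite (mker π) := by
  have := h.finite_commutator
  exact Finite.of_injective _ (inclusion_injective (inf_le_right : mker π ≤ commutator E))

theorem finite_of_finite_ker [Finite Q] (π : E →* Q) [Finite π.ker] : Finite E := by
  have : Finite (E ⧸ π.ker) := Finite.of_injective _ (QuotientGroup.kerLift_injective π)
  exact Finite.of_equiv _ (groupEquivQuotientProdSubgroup (s := π.ker)).symm

/-- Transfer: a central element of the commutator subgroup has its `index`-th power in `⁅H, H⁆`. -/
theorem pow_index_mem_commutator (H : Subgroup E) [H.FiniteIndex] {z : E} (hz : z ∈ center E)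
    (hz' : z ∈ commutator E) : z ^ H.index ∈ ⁅H, H⁆ := by
  have key : ∀ (k : ℕ) (g₀ : E), g₀⁻¹ * z ^ k * g₀ ∈ H → g₀⁻¹ * z ^ k * g₀ = z ^ k := by
    intro k g₀ _
    have := mem_center_iff.mp ((center E).pow_mem hz k) g₀
    rw [mul_assoc, ← this]; simp
  have h1 := MonoidHom.transfer_eq_pow (Abelianization.of : H →* Abelianization H) z key
  have h2 : MonoidHom.transfer (Abelianization.of : H →* Abelianization H) z = 1 :=
    Abelianization.commutator_subset_ker _ hz'
  rw [h2, eq_comm, ← MonoidHom.mem_ker, Abelianization.ker_of] at h1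
  rw [← map_subtype_commutator]
  exact ⟨_, h1, rfl⟩

end Basic

section Pullback

variable {X Y Q : Type*} [Group X] [Group Y] [Group Q]

/-- The fibre product of two homomorphisms. -/
def pb (f : X →* Q) (g : Y →* Q) : Subgroup (X × Y) :=
  (f.comp (MonoidHom.fst X Y)).eqLocus (g.comp (MonoidHom.snd X Y))

theorem mem_pb {f : X →* Q} {g : Y →* Q} {p : X × Y} : p ∈ pb f g ↔ f p.1 = g p.2 := Iff.rfl

/-- First projection of the fibre product. -/
def pb1 (f : X →* Q) (g : Y →* Q) : pb f g →* X := (MonoidHom.fst X Y).comp (pb f g).subtype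

/-- Second projection of the fibre product. -/
def pb2 (f : X →* Q) (g : Y →* Q) : pb f g →* Y := (MonoidHom.snd X Y).comp (pb f g).subtype

@[simp] theorem pb1_apply (f : X →* Q) (g : Y →* Q) (p : pb f g) : pb1 f g p = p.1.1 := rfl
@[simp] theorem pb2_apply (f : X →* Q) (g : Y →* Q) (p : pb f g) : pb2 f g p = p.1.2 := rfl

theorem pb_comm (f : X →* Q) (g : Y →* Q) : f.comp (pb1 f g) = g.comp (pb2 f g) := by
  ext p; exact p.2

theorem pb1_surjective (f : X →* Q) {g : Y →* Q} (hg : Function.Surjective g) :
    Function.Surjective (pb1 f g) := by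
  intro x
  obtain ⟨y, hy⟩ := hg (f x)
  exact ⟨⟨(x, y), hy.symm⟩, rfl⟩

theorem pb2_surjective {f : X →* Q} (g : Y →* Q) (hf : Function.Surjective f) :
    Function.Surjective (pb2 f g) := by
  intro y
  obtain ⟨x, hx⟩ := hf (g y)
  exact ⟨⟨(x, y), hx⟩, rfl⟩

theorem pb_mem_center {f : X →* Q} {g : Y →* Q} {p : pb f g} (h1 : p.1.1 ∈ center X)
    (h2 : p.1.2 ∈ center Y) : p ∈ center (pb f g) := by
  rw [mem_center_iff] at h1 h2 ⊢
  intro q
  ext
  · exact h1 _
  · exact h2 _

theorem pb1_isCentralExt (f : X →* Q) {g : Y →* Q} (hg : IsCentralExt g) :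
    IsCentralExt (pb1 f g) := by
  refine ⟨pb1_surjective f hg.surj, fun p hp => ?_⟩
  have h1 : p.1.1 = 1 := hp
  refine pb_mem_center (h1 ▸ one_mem _) (hg.central ?_)
  have := p.2
  rw [mem_pb, h1, map_one] at this
  exact this.symm

theorem pb_isCentralExt {f : X →* Q} {g : Y →* Q} (hf : IsCentralExt f) (hg : IsCentralExt g) :
    IsCentralExt (f.comp (pb1 f g)) := by
  refine ⟨hf.surj.comp (pb1_surjective f hg.surj), fun p hp => ?_⟩
  have h1 : f p.1.1 = 1 := hp
  refine pb_mem_center (hf.central h1) (hg.central ?_)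
  have := p.2
  rw [mem_pb, h1] at this
  exact this.symm

end Pullback

section Abelian

/-- A quotient of a finite abelian group embeds in it. -/
theorem exists_injective_of_surjective {A B : Type*} [CommGroup A] [CommGroup B] [Finite A]
    (f : A →* B) (hf : Function.Surjective f) : ∃ g : B →* A, Function.Injective g := by
  have : Finite B := Finite.of_surjective f hf
  have : NeZero (Monoid.exponent A) := ⟨Monoid.exponent_ne_zero_of_finite⟩
  have : NeZero (Monoid.exponent B) := ⟨Monoid.exponent_ne_zero_of_finite⟩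
  obtain ⟨eA⟩ := CommGroup.monoidHom_mulEquiv_of_hasEnoughRootsOfUnity A ℂ
  obtain ⟨eB⟩ := CommGroup.monoidHom_mulEquiv_of_hasEnoughRootsOfUnity B ℂ
  let d : (B →* ℂˣ) →* (A →* ℂˣ) := MonoidHom.compHom' f
  have hd : Function.Injective d := by
    intro φ ψ h
    ext b
    obtain ⟨a, rfl⟩ := hf b
    have := DFunLike.congr_fun h a
    exact congrArg Units.val this
  exact ⟨(eA.toMonoidHom.comp d).comp eB.symm.toMonoidHom,
    (eA.injective.comp hd).comp eB.symm.injective⟩

/-- A subgroup of a finite abelian group is a quotient of it. -/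
theorem exists_surjective_of_injective {A B : Type*} [CommGroup A] [CommGroup B] [Finite A]
    (f : B →* A) (hf : Function.Injective f) : ∃ g : A →* B, Function.Surjective g := by
  have : Finite B := Finite.of_injective f hf
  have : NeZero (Monoid.exponent A) := ⟨Monoid.exponent_ne_zero_of_finite⟩
  have : NeZero (Monoid.exponent B) := ⟨Monoid.exponent_ne_zero_of_finite⟩
  obtain ⟨eA⟩ := CommGroup.monoidHom_mulEquiv_of_hasEnoughRootsOfUnity A ℂ
  let e := MonoidHom.ofInjective hf
  have : NeZero (Monoid.exponent f.range) := ⟨Monoid.exponent_ne_zero_of_finite⟩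
  obtain ⟨eB⟩ := CommGroup.monoidHom_mulEquiv_of_hasEnoughRootsOfUnity f.range ℂ
  have hs := MonoidHom.domRestrict_surjective (M := ℂ) f.range
  exact ⟨((e.symm.toMonoidHom.comp eB.toMonoidHom).comp
    (MonoidHom.domRestrictHom f.range ℂˣ)).comp eA.symm.toMonoidHom,
    ((e.symm.surjective.comp eB.surjective).comp hs).comp eA.symm.surjective⟩

/-- Mutual surjections between finite groups give an isomorphism. -/
theorem bijective_of_surjective_of_card_le {A B : Type*} [Finite A] (f : A → B)
    (hf : Function.Surjective f) (h : Nat.card A ≤ Nat.card B) : Function.Bijective f := by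
  have : Finite B := Finite.of_surjective f hf
  exact (Nat.bijective_iff_surjective_and_card f).mpr
    ⟨hf, le_antisymm h (Nat.card_le_card_of_surjective f hf)⟩

/-- Extension of homomorphisms into a divisible abelian group. -/
theorem exists_extension_of_divisible {C Z D : Type*} [CommGroup C] [CommGroup Z] [CommGroup D]
    (hD : ∀ n : ℕ, n ≠ 0 → ∀ d : D, ∃ x : D, x ^ n = d) (i : Z →* C) (hi : Function.Injective i)
    (f : Z →* D) : ∃ g : C →* D, g.comp i = f := by
  have hsur : ∀ {n : ℤ}, n ≠ 0 → Function.Surjective fun a : Additive D => n • a := by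
    intro n hn d
    obtain ⟨x, hx⟩ := hD n.natAbs (by simpa using hn) d.toMul
    rcases Int.natAbs_eq n with h | h
    · refine ⟨Additive.ofMul x, ?_⟩
      show n • Additive.ofMul x = d
      rw [h, natCast_zsmul, ← ofMul_pow, hx]; rfl
    · refine ⟨-Additive.ofMul x, ?_⟩
      show n • (-Additive.ofMul x) = d
      rw [h, neg_smul_neg, natCast_zsmul, ← ofMul_pow, hx]; rfl
  let _ : DivisibleBy (Additive D) ℤ := divisibleByOfSMulRightSurj _ _ hsur
  obtain ⟨g, hg⟩ := (Module.Baer.of_divisible (Additive D)).extension_property_addMonoidHom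
    (MonoidHom.toAdditive i) hi (MonoidHom.toAdditive f)
  refine ⟨MonoidHom.toAdditive.symm g, ?_⟩
  ext z
  exact congrArg Additive.toMul (DFunLike.congr_fun hg (Additive.ofMul z))

/-- Complement to a subgroup with free abelian quotient, chosen inside `N`. -/
theorem exists_complement_of_free {Z : Type*} [CommGroup Z] {ι : Type*} [Finite ι]
    (α : Z →* Multiplicative (FreeAbelianGroup ι)) (N : Subgroup Z) (hN : N ⊔ α.ker = ⊤) :
    ∃ S : Subgroup Z, S ≤ N ∧ S ⊓ α.ker = ⊥ ∧ S ⊔ α.ker = ⊤ := by
  let β : Additive N →ₗ[ℤ] FreeAbelianGroup ι :=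
    (MonoidHom.toAdditiveLeft (α.comp N.subtype)).toIntLinearMap
  have hβ : ∀ x : N, β (Additive.ofMul x) = (α x).toAdd := fun x => rfl
  obtain ⟨s, hs⟩ := Module.projective_lifting_property β.rangeRestrict
    (LinearMap.id : LinearMap.range β →ₗ[ℤ] LinearMap.range β) β.surjective_rangeRestrict
  have hs' : ∀ y : LinearMap.range β, β (s y) = y := fun y =>
    congrArg Subtype.val (DFunLike.congr_fun hs y)
  let t : Multiplicative (LinearMap.range β) →* Z :=
    N.subtype.comp (AddMonoidHom.toMultiplicativeLeft s.toAddMonoidHom)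
  have ht : ∀ y, α (t y) = Multiplicative.ofAdd (y.toAdd : FreeAbelianGroup ι) := fun y => by
    have := hs' y.toAdd
    rw [← this]; rfl
  refine ⟨t.range, ?_, ?_, ?_⟩
  · rintro _ ⟨y, rfl⟩
    exact Subtype.property _
  · rw [eq_bot_iff]
    rintro _ ⟨⟨y, rfl⟩, hy⟩
    have h1 : α (t y) = 1 := hy
    rw [ht] at h1
    have : y = 1 := by
      apply Multiplicative.toAdd.injective
      exact Subtype.ext h1
    rw [this, map_one]; exact one_mem _
  · rw [eq_top_iff, ← hN, sup_le_iff]
    refine ⟨fun x hx => ?_, le_sup_right⟩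
    let y : Multiplicative (LinearMap.range β) :=
      Multiplicative.ofAdd ⟨β (Additive.ofMul ⟨x, hx⟩), _, rfl⟩
    have h1 : (t y)⁻¹ * x ∈ α.ker := by
      rw [MonoidHom.mem_ker, map_mul, map_inv, ht]
      exact inv_mul_cancel _
    have : x = t y * ((t y)⁻¹ * x) := by simp
    rw [this]
    exact mul_mem_sup ⟨y, rfl⟩ h1

end Abelian

end Cfsg.Agent.H4
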