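import Cfsg.Agent.H4.SemiLin

/-!
Solvable linear groups transitive on the subspaces of each dimension are semilinear of dimension
one; the possible degrees.
-/

set_option autoImplicit false

namespace Cfsg.Agent.H4.SemiLin

open Module

theorem ringEquiv_of_isField {R : Type*} [Ring R] [Finite R] (h : IsField R) (K : Type*) [Field K]
    [Finite K] (hc : Nat.card R = Nat.card K) : Nonempty (R ≃+* K) := by
  have := Fintype.ofFinite R
  have := Fintype.ofFinite K
  let := h.toField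
  exact ⟨FiniteField.ringEquivOfCardEq (K := R) (K' := K) (by
    rwa [← Nat.card_eq_fintype_card, ← Nat.card_eq_fintype_card])⟩

variable {F V : Type*} [Field F] [AddCommGroup V] [Module F V] {H : Type*} [Group H]

theorem CommNorm.exists_semilinear [Finite V] [Nontrivial V] {ρ : H →* End F V} (hT : Trans ρ)
    {B : Subalgebra F (End F V)} (hB : CommNorm ρ B) {b : End F V} (hb : b ∈ B) (hns : ¬ Sc b)
    (K : Type*) [Field K] [Finite K] (hc : Nat.card V = Nat.card K) :
    ∃ e : V ≃+ K, ∀ h : H, ∃ (a : Kˣ) (φ : K ≃+* K), ∀ v, e (ρ h v) = a * φ (e v) := by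
  have : Finite (End F V) := DFunLike.finite _
  obtain ⟨v0, hv0⟩ := exists_ne (0 : V)
  have hF : IsField B := by
    refine ⟨⟨0, 1, fun h => hv0 ?_⟩, fun a c => Subtype.ext (hB.comm _ a.2 _ c.2), ?_⟩
    · have := LinearMap.congr_fun (congrArg Subtype.val h) v0
      simpa using this.symm
    · intro a ha
      refine (Finite.injective_iff_surjective (f := fun c : B => a * c)).mp ?_ 1
      intro c d hcd
      have h1 : (c - d) * a = 0 := by
        rw [sub_mul, sub_eq_zero]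
        exact Subtype.ext ((hB.comm _ c.2 _ a.2).trans ((congrArg Subtype.val hcd).trans
          (hB.comm _ a.2 _ d.2)))
      have h2 : (a : End F V) v0 ≠ 0 := fun h => ha (Subtype.ext (hB.eq_zero hT a.2 hv0 h))
      rw [← sub_eq_zero]
      exact Subtype.ext (hB.eq_zero hT (c - d).2 h2
        (LinearMap.congr_fun (congrArg Subtype.val h1) v0))
  let θ0 : B →+ V :=
    { toFun := fun c => (c : End F V) v0
      map_zero' := rfl
      map_add' := fun _ _ => rfl }
  have hθ : Function.Bijective θ0 := by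
    constructor
    · rw [injective_iff_map_eq_zero]
      exact fun c hc => Subtype.ext (hB.eq_zero hT c.2 hv0 hc)
    · intro w
      obtain ⟨c, hc, hw⟩ := hB.surj hT hb hns hv0 w
      exact ⟨⟨c, hc⟩, hw⟩
  let θ : B ≃+ V := AddEquiv.ofBijective θ0 hθ
  have hθa : ∀ c : B, θ c = (c : End F V) v0 := fun _ => rfl
  obtain ⟨ψ⟩ := ringEquiv_of_isField hF K ((Nat.card_congr θ.toEquiv).trans hc)
  refine ⟨θ.symm.trans ψ.toAddEquiv, fun h => ?_⟩
  have hh : ρ h⁻¹ * ρ h = 1 := by rw [← map_mul, inv_mul_cancel, map_one]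
  have hh' : ρ h * ρ h⁻¹ = 1 := by rw [← map_mul, mul_inv_cancel, map_one]
  let γ : B ≃+* B :=
    { toFun := fun c => ⟨ρ h * c * ρ h⁻¹, hB.norm h _ c.2⟩
      invFun := fun c => ⟨ρ h⁻¹ * c * ρ h⁻¹⁻¹, hB.norm h⁻¹ _ c.2⟩
      left_inv := fun c => Subtype.ext (by
        simp only [inv_inv, ← mul_assoc, hh, one_mul]
        rw [mul_assoc, hh, mul_one])
      right_inv := fun c => Subtype.ext (by
        simp only [inv_inv, ← mul_assoc, hh', one_mul]
        rw [mul_assoc, hh', mul_one])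
      map_mul' := fun c d => Subtype.ext (by
        simp only [MulMemClass.coe_mul, mul_assoc]
        rw [← mul_assoc (ρ h⁻¹) (ρ h), hh, one_mul])
      map_add' := fun c d => Subtype.ext (by
        simp only [AddMemClass.coe_add, mul_add, add_mul]) }
  have hγ : ∀ c : B, (γ c : End F V) = ρ h * c * ρ h⁻¹ := fun _ => rfl
  obtain ⟨a0, ha0⟩ := θ.surjective (ρ h v0)
  have ha : ψ a0 ≠ 0 := by
    rw [map_ne_zero_iff _ ψ.injective]
    rintro rfl
    rw [map_zero] at ha0
    exact hv0 (rho_eq_zero ρ h ha0.symm)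
  refine ⟨Units.mk0 _ ha, ψ.symm.trans (γ.trans ψ), fun v => ?_⟩
  obtain ⟨c, rfl⟩ := θ.surjective v
  have : ρ h (θ c) = θ (γ c * a0) := by
    rw [hθa (γ c * a0), MulMemClass.coe_mul, End.mul_apply, ← hθa a0, ha0, hγ, End.mul_apply,
      End.mul_apply, rho_inv_apply, hθa]
  rw [this]
  simp [mul_comm]

section Count

variable {p : ℕ} [Fact p.Prime] {K : Type*} [Field K] [Finite K] [Algebra (ZMod p) K]

/-- A ring automorphism is an algebra automorphism over the prime field. -/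
def toAlg (p : ℕ) [Fact p.Prime] [Algebra (ZMod p) K] (φ : K ≃+* K) : K ≃ₐ[ZMod p] K :=
  AlgEquiv.ofRingEquiv (f := φ) fun x =>
    RingHom.congr_fun (Subsingleton.elim ((φ : K →+* K).comp (algebraMap (ZMod p) K))
      (algebraMap (ZMod p) K)) x

/-- The field automorphisms that occur. -/
def autSub (σ : H →* End (ZMod p) K) : Subgroup (K ≃ₐ[ZMod p] K) where
  carrier := {φ | ∃ (h : H) (a : Kˣ), ∀ x, σ h x = a * φ x}
  one_mem' := ⟨1, 1, fun x => by simp⟩
  mul_mem' := by
    rintro φ ψ ⟨h, a, ha⟩ ⟨k, b, hb⟩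
    exact ⟨h * k, a * Units.map (φ : K →* K) b, fun x => by
      simp [ha, hb, mul_assoc]⟩
  inv_mem' := by
    rintro φ ⟨h, a, ha⟩
    refine ⟨h⁻¹, Units.map ((φ⁻¹ : K ≃ₐ[ZMod p] K) : K →* K) a⁻¹, fun x => ?_⟩
    have h1 := rho_apply_inv σ h x
    rw [ha] at h1
    apply φ.injective
    conv_rhs => rw [← h1]
    simp

/-- The multiplications that occur. -/
def mulSub (σ : H →* End (ZMod p) K) : Subgroup Kˣ where
  carrier := {a | ∃ h : H, ∀ x, σ h x = a * x}
  one_mem' := ⟨1, fun x => by simp⟩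
  mul_mem' := by
    rintro a b ⟨h, ha⟩ ⟨k, hb⟩
    exact ⟨h * k, fun x => by simp [ha, hb, mul_assoc]⟩
  inv_mem' := by
    rintro a ⟨h, ha⟩
    refine ⟨h⁻¹, fun x => ?_⟩
    have h1 := rho_apply_inv σ h x
    rw [ha] at h1
    conv_rhs => rw [← h1]
    simp

variable {σ : H →* End (ZMod p) K}

theorem card_le_of_trans (hT : Trans σ) (hS : ∀ h : H, ∃ (a : Kˣ) (φ : K ≃ₐ[ZMod p] K),
    ∀ x, σ h x = a * φ x) (hn : 2 ≤ finrank (ZMod p) K) :
    p ^ finrank (ZMod p) K ≤ Nat.card (autSub σ) * ((p + 1) * (p * (p - 1))) + p := by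
  have hp : p.Prime := Fact.out
  have h1 : ((ZMod p) ∙ (1 : K)) ≠ ⊤ := by
    intro h
    have := finrank_span_singleton (K := ZMod p) (one_ne_zero (α := K))
    rw [h, finrank_top] at this
    omega
  obtain ⟨θ, -, hθ⟩ := SetLike.exists_of_lt (lt_top_iff_ne_top.mpr h1)
  let s : Option (ZMod p) → K := fun o => o.elim θ fun c => (algebraMap (ZMod p) K c + θ)⁻¹
  let g : autSub σ × Option (ZMod p) × ZMod p × (ZMod p)ˣ → K := fun t =>
    t.1.1 (algebraMap (ZMod p) K t.2.2.1 + algebraMap (ZMod p) K t.2.2.2 * s t.2.1)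
  have hcov : (Set.univ : Set K) ⊆ Set.range g ∪ Set.range (algebraMap (ZMod p) K) := by
    intro t _
    by_contra hcon
    rw [Set.mem_union, not_or] at hcon
    have ht : t ∉ ((ZMod p) ∙ (1 : K)) := by
      intro h
      obtain ⟨c, rfl⟩ := Submodule.mem_span_singleton.mp h
      exact hcon.2 ⟨c, Algebra.algebraMap_eq_smul_one c⟩
    obtain ⟨h, hh⟩ := hT ((ZMod p) ∙ (1 : K) ⊔ (ZMod p) ∙ θ) ((ZMod p) ∙ (1 : K) ⊔ (ZMod p) ∙ t) (by
      rw [Submodule.finrank_sup_span_singleton hθ, Submodule.finrank_sup_span_singleton ht])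
    obtain ⟨a, φ, ha⟩ := hS h
    have hmem : ∀ u ∈ ((ZMod p) ∙ (1 : K) ⊔ (ZMod p) ∙ θ : Submodule (ZMod p) K),
        ∃ c d : ZMod p, u = algebraMap (ZMod p) K c + algebraMap (ZMod p) K d * θ := by
      intro u hu
      obtain ⟨c, hc, d, hd, rfl⟩ := Submodule.mem_sup.mp hu
      obtain ⟨α, rfl⟩ := Submodule.mem_span_singleton.mp hc
      obtain ⟨β, rfl⟩ := Submodule.mem_span_singleton.mp hd
      exact ⟨α, β, by rw [Algebra.smul_def, Algebra.smul_def, mul_one]⟩
    obtain ⟨u, hu, hu1⟩ : (1 : K) ∈ Submodule.map (σ h) _ :=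
      hh ▸ Submodule.mem_sup_left (Submodule.mem_span_singleton_self _)
    obtain ⟨w, hw, hwt⟩ : t ∈ Submodule.map (σ h) _ :=
      hh ▸ Submodule.mem_sup_right (Submodule.mem_span_singleton_self _)
    rw [ha] at hu1 hwt
    have hu0 : u ≠ 0 := by
      rintro rfl
      simp at hu1
    have htw : t = φ (w / u) := by
      rw [map_div₀, eq_div_iff ((map_ne_zero φ).mpr hu0), ← hwt]
      linear_combination φ w * hu1
    obtain ⟨c, d, hc⟩ := hmem u hu
    obtain ⟨α, β, hα⟩ := hmem w hw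
    have key : ∀ (o : Option (ZMod p)) (e f : ZMod p),
        w / u = algebraMap (ZMod p) K e + algebraMap (ZMod p) K f * s o → False := by
      intro o e f hef
      by_cases hf : f = 0
      · apply hcon.2
        refine ⟨e, ?_⟩
        rw [htw, hef, hf, map_zero, zero_mul, add_zero, AlgEquiv.commutes]
      · exact hcon.1 ⟨⟨⟨φ, h, a, ha⟩, o, e, Units.mk0 f hf⟩, by rw [htw, hef]; rfl⟩
    by_cases hd : d = 0
    · subst hd
      rw [map_zero, zero_mul, add_zero] at hc
      refine key none (α / c) (β / c) ?_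
      rw [map_div₀, map_div₀, ← hc, hα]
      simp only [s, Option.elim_none]
      field_simp
    · have hd' : algebraMap (ZMod p) K d ≠ 0 := (map_ne_zero _).mpr hd
      refine key (some (c / d)) (β / d) ((α - β * c / d) / d) ?_
      have e1 : algebraMap (ZMod p) K (c / d) + θ = u / algebraMap (ZMod p) K d := by
        rw [map_div₀, hc]; field_simp
      simp only [s, Option.elim_some]
      rw [e1]
      simp only [map_div₀, map_sub, map_mul]
      rw [hα]
      field_simp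
      rw [hc]
      ring
  have h2 := (Set.ncard_le_ncard hcov (Set.toFinite _)).trans (Set.ncard_union_le _ _)
  have h3 : (Set.range g).ncard ≤ Nat.card (autSub σ) * ((p + 1) * (p * (p - 1))) := by
    rw [← Set.image_univ]
    refine (Set.ncard_image_le (Set.toFinite _)).trans ?_
    rw [Set.ncard_univ, Nat.card_prod, Nat.card_prod, Nat.card_prod, Finite.card_option,
      Nat.card_units, Nat.card_zmod]
  have h4 : (Set.range (algebraMap (ZMod p) K)).ncard ≤ p := by
    rw [← Set.image_univ]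
    refine (Set.ncard_image_le (Set.toFinite _)).trans ?_
    rw [Set.ncard_univ, Nat.card_zmod]
  rw [Set.ncard_univ, Module.natCard_eq_pow_finrank (K := ZMod p), Nat.card_zmod] at h2
  omega

theorem card_aut : Nat.card (K ≃ₐ[ZMod p] K) = finrank (ZMod p) K :=
  IsGalois.card_aut_eq_finrank _ _

theorem finrank_ne_four (hT : Trans σ) (hS : ∀ h : H, ∃ (a : Kˣ) (φ : K ≃ₐ[ZMod p] K),
    ∀ x, σ h x = a * φ x) : finrank (ZMod p) K ≠ 4 := by
  intro hn
  have hp : p.Prime := Fact.out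
  have : CharP K p := charP_of_injective_algebraMap (algebraMap (ZMod p) K).injective p
  let S : Subalgebra (ZMod p) K :=
    { carrier := {b | b ^ p ^ 2 = b}
      mul_mem' := fun {a b} (ha : a ^ p ^ 2 = a) (hb : b ^ p ^ 2 = b) =>
        show (a * b) ^ p ^ 2 = a * b by rw [mul_pow, ha, hb]
      add_mem' := fun {a b} (ha : a ^ p ^ 2 = a) (hb : b ^ p ^ 2 = b) =>
        show (a + b) ^ p ^ 2 = a + b by rw [add_pow_char_pow, ha, hb]
      algebraMap_mem' := fun c => show _ ^ p ^ 2 = _ by rw [← map_pow, ZMod.pow_card_pow] }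
  have hB : CommNorm σ (S.map (Algebra.lmul (ZMod p) K)) := by
    constructor
    · rintro _ ⟨a, -, rfl⟩ _ ⟨b, -, rfl⟩
      simp only [RingHom.coe_coe, ← map_mul, mul_comm]
    · rintro h _ ⟨b, hb, rfl⟩
      obtain ⟨a, φ, ha⟩ := hS h
      refine ⟨φ b, show φ b ^ p ^ 2 = φ b by rw [← map_pow, show b ^ p ^ 2 = b from hb], ?_⟩
      ext x
      have h1 := rho_apply_inv σ h x
      rw [ha] at h1
      simp only [RingHom.coe_coe, Algebra.coe_lmul_eq_mul,
        LinearMap.mul_apply', End.mul_apply, ha, map_mul]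
      linear_combination (-φ b) * h1
  obtain ⟨g, hg⟩ := IsCyclic.exists_ofOrder_eq_natCard (α := Kˣ)
  rw [Nat.card_units, Module.natCard_eq_pow_finrank (K := ZMod p), Nat.card_zmod, hn] at hg
  have hp2 := hp.two_le
  obtain ⟨m, rfl⟩ : ∃ m, p = m + 2 := ⟨p - 2, by omega⟩
  have hg' : orderOf g = ((m + 2) ^ 2 + 1) * ((m + 1) * (m + 3)) := by
    rw [hg]
    have : (m + 2) ^ 4 = ((m + 2) ^ 2 + 1) * ((m + 1) * (m + 3)) + 1 := by ring
    omega
  have hcancel : ∀ (i j : ℕ), 0 < j → (g : K) ^ (i + j) = (g : K) ^ i → orderOf g ≤ j := by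
    intro i j hj h
    refine orderOf_le_of_pow_eq_one hj (Units.ext ?_)
    rw [pow_add] at h
    simpa using (mul_eq_left₀ (pow_ne_zero _ g.ne_zero)).mp h
  have htS : (g : K) ^ ((m + 2) ^ 2 + 1) ∈ S := by
    show _ ^ (m + 2) ^ 2 = _
    have : ((m + 2) ^ 2 + 1) * (m + 2) ^ 2 = ((m + 2) ^ 2 + 1) + orderOf g := by rw [hg']; ring
    rw [← pow_mul, this, pow_add, ← Units.val_pow_eq_pow_val g (orderOf g), pow_orderOf_eq_one]
    simp
  obtain ⟨_, ⟨c, hc, rfl⟩, hc1⟩ := hB.surj hT (b := Algebra.lmul (ZMod (m + 2)) K _) ⟨_, htS, rfl⟩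
    (by
      rintro ⟨c, hc⟩
      have h1 := hc 1
      simp only [Algebra.coe_lmul_eq_mul, LinearMap.mul_apply', mul_one,
        ← Algebra.algebraMap_eq_smul_one] at h1
      have h2 : ((g : K) ^ ((m + 2) ^ 2 + 1)) ^ (m + 2) = (g : K) ^ ((m + 2) ^ 2 + 1) := by
        rw [h1, ← map_pow, ZMod.pow_card]
      rw [← pow_mul, show ((m + 2) ^ 2 + 1) * (m + 2) =
        ((m + 2) ^ 2 + 1) + ((m + 2) ^ 2 + 1) * (m + 1) by ring] at h2
      have h3 := hcancel _ _ (by positivity) h2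
      rw [hg'] at h3
      have h4 := Nat.le_of_mul_le_mul_left h3 (by positivity)
      nlinarith) one_ne_zero (g : K)
  simp only [RingHom.coe_coe, Algebra.coe_lmul_eq_mul,
    LinearMap.mul_apply', mul_one] at hc1
  subst hc1
  have h2 : (g : K) ^ (1 + (m + 1) * (m + 3)) = (g : K) ^ 1 := by
    rw [pow_one, show 1 + (m + 1) * (m + 3) = (m + 2) ^ 2 by ring]
    exact hc
  have h3 := hcancel _ _ (by positivity) h2
  rw [hg'] at h3
  nlinarith [Nat.mul_pos (show 0 < m + 1 by omega) (show 0 < m + 3 by omega),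
    Nat.pow_pos (n := 2) (show 0 < m + 2 by omega)]

theorem finrank_cases (hT : Trans σ) (hS : ∀ h : H, ∃ (a : Kˣ) (φ : K ≃ₐ[ZMod p] K),
    ∀ x, σ h x = a * φ x) (hn : 3 ≤ finrank (ZMod p) K) :
    finrank (ZMod p) K = 3 ∨ (finrank (ZMod p) K = 5 ∧ p = 2 ∧ autSub σ = ⊤) := by
  have hp : p.Prime := Fact.out
  have h1 := card_le_of_trans hT hS (by omega)
  have h2 := finrank_ne_four hT hS
  have h3 : Nat.card (autSub σ) ≤ finrank (ZMod p) K := by
    rw [← card_aut]; exact Subgroup.card_le_card_group _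
  have h4 : finrank (ZMod p) K ≤ Nat.card (autSub σ) → autSub σ = ⊤ := fun h =>
    Subgroup.eq_top_of_le_card _ (by rwa [card_aut])
  have hp2 := hp.two_le
  generalize finrank (ZMod p) K = n at *
  generalize Nat.card (autSub σ) = t at *
  obtain ⟨m, hm⟩ : ∃ m, p = m + 2 := ⟨p - 2, by omega⟩
  have hm1 : p - 1 = m + 1 := by omega
  rw [hm1] at h1
  by_cases hn3 : n = 3
  · exact Or.inl hn3
  right
  by_cases hn5 : n = 5
  · subst hn5
    have e : p ^ 5 = (p ^ 2 + 1) * ((p + 1) * (p * (m + 1))) + p := by rw [hm]; ring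
    rw [e] at h1
    have h5 : p ^ 2 + 1 ≤ t := Nat.le_of_mul_le_mul_right (by omega) (c := (p + 1) * (p * (m + 1)))
      (by positivity)
    have hp' : p = 2 := by nlinarith
    exact ⟨rfl, hp', h4 (by rw [hp'] at h5; omega)⟩
  exfalso
  obtain ⟨k, rfl⟩ : ∃ k, n = k + 6 := ⟨n - 6, by omega⟩
  have h5 : k + 1 ≤ p ^ k := Nat.succ_le_of_lt (Nat.lt_pow_self hp.one_lt)
  have h6 : 8 ≤ p ^ 3 := by
    calc 8 = 2 ^ 3 := by norm_num
      _ ≤ p ^ 3 := Nat.pow_le_pow_left hp2 3
  have h7 : (p + 1) * (p * (m + 1)) + p = p ^ 3 := by rw [hm]; ring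
  have h8 : t * ((p + 1) * (p * (m + 1))) + p ≤ (k + 6) * p ^ 3 := by
    rw [← h7, mul_add (k + 6)]
    exact Nat.add_le_add (Nat.mul_le_mul_right _ h3) (Nat.le_mul_of_pos_left _ (Nat.succ_pos _))
  have h9 : p ^ (k + 6) = p ^ k * p ^ 3 * p ^ 3 := by ring
  have h10 : (k + 1) * 8 ≤ p ^ k * p ^ 3 := Nat.mul_le_mul h5 h6
  rw [h9] at h1
  have h11 := Nat.le_of_mul_le_mul_right (h1.trans h8) (by omega)
  omega

theorem zmod_two_eq_one : ∀ c : ZMod 2, c ≠ 0 → c = 1 := by decide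

theorem mulSub_eq_top (hp2 : p = 2) (hT : Trans σ) (hS : ∀ h : H, ∃ (a : Kˣ) (φ : K ≃ₐ[ZMod p] K),
    ∀ x, σ h x = a * φ x) (hpr : (2 ^ finrank (ZMod p) K - 1).Prime)
    (hlt : finrank (ZMod p) K < 2 ^ finrank (ZMod p) K - 1) : mulSub σ = ⊤ := by
  subst hp2
  have hc : Nat.card Kˣ = 2 ^ finrank (ZMod 2) K - 1 := by
    rw [Nat.card_units, Module.natCard_eq_pow_finrank (K := ZMod 2), Nat.card_zmod]
  have : Fact (Nat.card Kˣ).Prime := ⟨hc ▸ hpr⟩
  refine (Subgroup.eq_bot_or_eq_top_of_prime_card (mulSub σ)).resolve_left fun hbot => ?_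
  have hex : ∀ w : Kˣ, ∃ (h : H) (φ : K ≃ₐ[ZMod 2] K), ∀ x, σ h x = w * φ x := by
    intro w
    obtain ⟨h, c, hc⟩ := hT.vec (one_ne_zero (α := K)) w.ne_zero
    obtain ⟨a, φ, ha⟩ := hS h
    have hc1 : c = 1 := by
      have : c ≠ 0 := by
        rintro rfl
        exact w.ne_zero (by rw [hc, zero_smul])
      exact zmod_two_eq_one c this
    rw [hc1, one_smul, ha, map_one, mul_one] at hc
    exact ⟨h, φ, fun x => by rw [ha, hc]⟩
  choose hh φ hφ using hex
  have hinj : Function.Injective φ := by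
    intro w w' h
    have : w * w'⁻¹ ∈ mulSub σ := by
      refine ⟨hh w * (hh w')⁻¹, fun x => ?_⟩
      have h1 := rho_apply_inv σ (hh w') x
      rw [hφ, ← h] at h1
      rw [map_mul, End.mul_apply, hφ]
      conv_rhs => rw [← h1]
      simp [mul_assoc]
    rw [hbot, Subgroup.mem_bot] at this
    exact mul_inv_eq_one.mp this
  have := Nat.card_le_card_of_injective φ hinj
  rw [hc, card_aut] at this
  omega

end Count

end Cfsg.Agent.H4.SemiLin
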