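import Mathlib
import Cfsg.Agent.L.SL2Model

/-! Centralizers of non-central elements of `SL₂(F)`: they are abelian; for semisimple elements
over a finite field of odd order they are cyclic of order `q ± 1` and inverted by an element. -/

set_option autoImplicit false
set_option linter.unusedSectionVars false

namespace Cfsg.Agent.H4.SL2

open Matrix Subgroup QuadraticAlgebra

variable {F : Type*} [Field F]

/-- `SL₂(F)`. -/
abbrev SL (F : Type*) [Field F] := SpecialLinearGroup (Fin 2) F

/-- The trace. -/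
def tr (x : SL F) : F := x 0 0 + x 1 1

theorem det_eq (x : SL F) : x 0 0 * x 1 1 - x 0 1 * x 1 0 = 1 := by
  rw [← det_fin_two]; exact x.det_coe

theorem val_congr {x y : SL F} (h : x = y) : (x : Matrix (Fin 2) (Fin 2) F) = y := by rw [h]

theorem mem_center_iff' {x : SL F} :
    x ∈ center (SL F) ↔ x 0 1 = 0 ∧ x 1 0 = 0 ∧ x 0 0 = x 1 1 := by
  rw [Matrix.SpecialLinearGroup.mem_center_iff]
  constructor
  · rintro ⟨r, -, hr⟩
    have h := fun i j => congrFun (congrFun hr i) j
    refine ⟨?_, ?_, ?_⟩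
    · simpa using (h 0 1).symm
    · simpa using (h 1 0).symm
    · have h0 := h 0 0
      have h1 := h 1 1
      simp only [scalar_apply, diagonal_apply_eq] at h0 h1
      exact h0.symm.trans h1
  · rintro ⟨h1, h2, h3⟩
    refine ⟨x 0 0, ?_, ?_⟩
    · have := det_eq x
      rw [h1, ← h3] at this
      simpa [sq] using this
    · ext i j
      fin_cases i <;> fin_cases j <;> simp [h1, h2, h3]

theorem sq_eq_one_of_mem_center {x : SL F} (h : x ∈ center (SL F)) : x ^ 2 = 1 := by
  obtain ⟨h1, h2, h3⟩ := mem_center_iff'.1 h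
  have := det_eq x
  rw [h1, ← h3] at this
  ext i j
  fin_cases i <;> fin_cases j <;> simp [sq, mul_apply, Fin.sum_univ_two, h1, h2, ← h3] <;>
    simpa using this

theorem cayley (x : SL F) :
    (x : Matrix (Fin 2) (Fin 2) F) * x = (-1 : F) • (1 : Matrix (Fin 2) (Fin 2) F) + tr x • x.1 := by
  have := det_eq x
  ext i j
  fin_cases i <;> fin_cases j <;> simp [mul_apply, Fin.sum_univ_two, tr]
  · linear_combination -this
  · ring
  · ring
  · linear_combination -this

theorem coe_inv_eq (x : SL F) : ((x⁻¹ : SL F) : Matrix (Fin 2) (Fin 2) F) = tr x • 1 - x.1 := by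
  rw [Matrix.SpecialLinearGroup.coe_inv, adjugate_fin_two]
  ext i j
  fin_cases i <;> fin_cases j <;> simp [tr]

/-- The algebra `F[x]`. -/
abbrev QA (x : SL F) := QuadraticAlgebra F (-1) (tr x)

/-- Evaluation `a + b ω ↦ a + b x`. -/
def psi (x : SL F) : QA x →ₐ[F] Matrix (Fin 2) (Fin 2) F := QuadraticAlgebra.lift ⟨x.1, cayley x⟩

theorem psi_apply (x : SL F) (z : QA x) : psi x z = z.re • 1 + z.im • x.1 := rfl

theorem det_psi (x : SL F) (z : QA x) : det (psi x z) = norm z := by
  have := det_eq x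
  rw [psi_apply, det_fin_two, QuadraticAlgebra.norm_def]
  simp [tr]
  linear_combination (z.im * z.im) * this

theorem psi_injective {x : SL F} (hx : x ∉ center (SL F)) : Function.Injective (psi x) := by
  rw [injective_iff_map_eq_zero]
  intro z hz
  have h := fun i j => congrFun (congrFun hz i) j
  have h00 := h 0 0
  have h01 := h 0 1
  have h10 := h 1 0
  have h11 := h 1 1
  simp [psi_apply] at h00 h01 h10 h11
  have him : z.im = 0 := by
    by_contra hne
    apply hx
    rw [mem_center_iff']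
    refine ⟨h01.resolve_left hne, h10.resolve_left hne, mul_left_cancel₀ hne ?_⟩
    linear_combination h00 - h11
  ext
  · simpa [him] using h00
  · exact him

theorem exists_psi {x : SL F} (hx : x ∉ center (SL F)) {Y : Matrix (Fin 2) (Fin 2) F}
    (h : Y * x.1 = x.1 * Y) : ∃ z, psi x z = Y := by
  have h' := fun i j => congrFun (congrFun h i) j
  have h00 := h' 0 0
  have h01 := h' 0 1
  have h10 := h' 1 0
  simp [mul_apply, Fin.sum_univ_two] at h00 h01 h10
  rw [mem_center_iff'] at hx
  by_cases c1 : x 0 1 = 0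
  · by_cases c2 : x 1 0 = 0
    · have c3 : x 0 0 - x 1 1 ≠ 0 := fun e => hx ⟨c1, c2, sub_eq_zero.1 e⟩
      refine ⟨⟨Y 0 0 - (Y 0 0 - Y 1 1) / (x 0 0 - x 1 1) * x 0 0,
        (Y 0 0 - Y 1 1) / (x 0 0 - x 1 1)⟩, ?_⟩
      ext i j
      fin_cases i <;> fin_cases j <;> simp [psi_apply, c1, c2]
      · rw [c1] at h01
        exact mul_right_cancel₀ c3 (by linear_combination h01)
      · rw [c2] at h10
        exact mul_right_cancel₀ c3 (by linear_combination -h10)
      · field_simp; ring
    · refine ⟨⟨Y 0 0 - Y 1 0 / x 1 0 * x 0 0, Y 1 0 / x 1 0⟩, ?_⟩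
      ext i j
      fin_cases i <;> fin_cases j <;> simp [psi_apply]
      · field_simp; linear_combination -h00
      · field_simp
      · field_simp; linear_combination -h10
  · refine ⟨⟨Y 0 0 - Y 0 1 / x 0 1 * x 0 0, Y 0 1 / x 0 1⟩, ?_⟩
    ext i j
    fin_cases i <;> fin_cases j <;> simp [psi_apply]
    · field_simp
    · field_simp; linear_combination h00
    · field_simp; linear_combination h01

theorem isMulCommutative_centralizer {x : SL F} (hx : x ∉ center (SL F)) :
    IsMulCommutative (centralizer ({x} : Set (SL F))) := by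
  refine .of_setLike_mul_comm fun a ha b hb => ?_
  obtain ⟨z, hz⟩ := exists_psi hx (val_congr (mem_centralizer_singleton_iff.1 ha))
  obtain ⟨w, hw⟩ := exists_psi hx (val_congr (mem_centralizer_singleton_iff.1 hb))
  apply Subtype.ext
  change a.1 * b.1 = b.1 * a.1
  rw [← hz, ← hw, ← map_mul, mul_comm, map_mul]

theorem centralizer_eq_of_commute {x y : SL F} (hx : x ∉ center (SL F)) (hy : y ∉ center (SL F))
    (h : Commute x y) : centralizer ({x} : Set (SL F)) = centralizer {y} := by
  have h1 := isMulCommutative_centralizer hx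
  have h2 := isMulCommutative_centralizer hy
  exact le_antisymm
    (fun a ha => mem_centralizer_singleton_iff.2
      (setLike_mul_comm ha (mem_centralizer_singleton_iff.2 h.symm)))
    fun a ha => mem_centralizer_singleton_iff.2
      (setLike_mul_comm ha (mem_centralizer_singleton_iff.2 h))

/-- The norm-one elements of `F[x]` as elements of `SL₂`. -/
def iota (x : SL F) : unitary (QA x) →* SL F where
  toFun z := ⟨psi x z, by rw [det_psi]; exact norm_eq_one z.2⟩
  map_one' := Subtype.ext (map_one (psi x))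
  map_mul' z w := Subtype.ext (map_mul (psi x) z.1 w.1)

theorem iota_injective {x : SL F} (hx : x ∉ center (SL F)) : Function.Injective (iota x) :=
  fun _ _ h => Subtype.ext (psi_injective hx (congrArg Subtype.val h))

theorem range_iota {x : SL F} (hx : x ∉ center (SL F)) : (iota x).range = centralizer {x} := by
  ext y
  constructor
  · rintro ⟨z, rfl⟩
    rw [mem_centralizer_singleton_iff]
    apply Subtype.ext
    change psi x z * x.1 = x.1 * psi x z
    simp [psi_apply, add_mul, mul_add]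
  · intro hy
    obtain ⟨z, hz⟩ := exists_psi hx (val_congr (mem_centralizer_singleton_iff.1 hy))
    exact ⟨⟨z, mem_unitary (by rw [← det_psi, hz]; exact y.2)⟩, Subtype.ext hz⟩

/-- The centralizer of a non-central element is the norm-one group of `F[x]`. -/
noncomputable def centEquiv {x : SL F} (hx : x ∉ center (SL F)) :
    unitary (QA x) ≃* centralizer ({x} : Set (SL F)) :=
  (MonoidHom.ofInjective (iota_injective hx)).trans (MulEquiv.subgroupCongr (range_iota hx))

theorem conj_eq_inv {x w c : SL F} (hx : x ∉ center (SL F)) (hw : w * x * w⁻¹ = x⁻¹)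
    (hc : c ∈ centralizer ({x} : Set (SL F))) : w * c * w⁻¹ = c⁻¹ := by
  rw [← range_iota hx] at hc
  obtain ⟨z, rfl⟩ := hc
  rw [← map_inv]
  apply Subtype.ext
  have h1 : w.1 * x.1 * (w⁻¹ : SL F).1 = tr x • 1 - x.1 := by
    rw [← coe_inv_eq]; exact congrArg Subtype.val hw
  have h2 : w.1 * (w⁻¹ : SL F).1 = 1 := congrArg Subtype.val (mul_inv_cancel w)
  change w.1 * psi x z * (w⁻¹ : SL F).1 = psi x (star z)
  rw [psi_apply, psi_apply, mul_add, add_mul, Matrix.mul_smul, Matrix.smul_mul, Matrix.mul_smul,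
    Matrix.smul_mul, h1, mul_one, h2, re_star, im_star]
  module

section split

theorem unitary_equiv_of_root {t r : F} (hr : r ^ 2 = -1 + t * r) (ht : t ^ 2 ≠ 4) :
    Nonempty (unitary (QuadraticAlgebra F (-1) t) ≃* Fˣ) := by
  have hd : r - (t - r) ≠ 0 := fun e => ht (by linear_combination (-4) * hr + (2 * r - t) * e)
  let χ : QuadraticAlgebra F (-1) t →ₐ[F] F := QuadraticAlgebra.lift ⟨r, by simp [← sq, hr]⟩
  have hχ : ∀ z, χ z = z.re + z.im * r := fun z => by simp [χ]
  have hn : ∀ z : QuadraticAlgebra F (-1) t, norm z = χ z * (z.re + z.im * (t - r)) := fun z => by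
    rw [hχ, QuadraticAlgebra.norm_def]; linear_combination (z.im * z.im) * hr
  let f : unitary (QuadraticAlgebra F (-1) t) →* Fˣ :=
    (Units.map χ.toRingHom.toMonoidHom).comp Unitary.toUnits
  have hf : ∀ z, (f z : F) = χ z := fun z => rfl
  refine ⟨MulEquiv.ofBijective f ⟨?_, fun u => ?_⟩⟩
  · rw [injective_iff_map_eq_one]
    intro z hz
    have h1 : χ z = 1 := by rw [← hf, hz, Units.val_one]
    have h2 := hn z
    rw [norm_eq_one z.2, h1, one_mul] at h2
    rw [hχ] at h1
    have h3 : z.1.im = 0 := mul_right_cancel₀ hd (by linear_combination h1 + h2)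
    apply Subtype.ext
    ext
    · simpa [h3] using h1
    · simpa using h3
  · obtain ⟨z, hz⟩ : ∃ z : QuadraticAlgebra F (-1) t,
        z = ⟨u - (u - u⁻¹) / (r - (t - r)) * r, (u - u⁻¹) / (r - (t - r))⟩ := ⟨_, rfl⟩
    have h1 : χ z = u := by rw [hχ, hz]; ring
    have h2 : z.re + z.im * (t - r) = (u : F)⁻¹ := by
      rw [hz, Units.val_inv_eq_inv_val]; field_simp; ring
    exact ⟨⟨z, mem_unitary (by rw [hn, h1, h2, mul_inv_cancel₀ u.ne_zero])⟩, Units.ext h1⟩

end split

variable [Finite F]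

theorem exists_sq_sub (hq : Nat.card F % 2 = 1) {D : F} (hD : D ≠ 0) (c : F) :
    ∃ u v : F, u ^ 2 - D * v ^ 2 = c := by
  have := Fintype.ofFinite F
  open Polynomial in
  obtain ⟨u, v, h⟩ := FiniteField.exists_root_sum_quadratic (f := (X ^ 2 - C c : F[X]))
    (g := (C (-D) * X ^ 2 : F[X])) (degree_X_pow_sub_C (by decide) _)
    (degree_C_mul_X_pow 2 (neg_ne_zero.2 hD)) (by rwa [← Nat.card_eq_fintype_card])
  refine ⟨u, v, ?_⟩
  simp at h
  linear_combination h

theorem two_ne_zero_of_odd (hq : Nat.card F % 2 = 1) : (2 : F) ≠ 0 := by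
  have := Fintype.ofFinite F
  intro h
  have h1 : ringChar F = 2 := (Nat.prime_dvd_prime_iff_eq (CharP.prime_ringChar F)
    Nat.prime_two).1 (ringChar.dvd (by exact_mod_cast h))
  have := FiniteField.even_card_of_char_two h1
  rw [← Nat.card_eq_fintype_card] at this
  omega

theorem unitary_of_no_root (hq : Nat.card F % 2 = 1) {t : F} (hr : ∀ r : F, r ^ 2 ≠ -1 + t * r) :
    IsCyclic (unitary (QuadraticAlgebra F (-1) t)) ∧
      Nat.card (unitary (QuadraticAlgebra F (-1) t)) = Nat.card F + 1 := by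
  have := Fact.mk hr
  have h2 := two_ne_zero_of_odd hq
  have hfin : Finite (QuadraticAlgebra F (-1) t) := Finite.of_equiv _ (equivProd (-1) t).symm
  have hcard : Nat.card (QuadraticAlgebra F (-1) t) = Nat.card F * Nat.card F := by
    rw [Nat.card_congr (equivProd (-1) t), Nat.card_prod]
  refine ⟨isCyclic_of_injective Unitary.toUnits Unitary.toUnits_injective, ?_⟩
  let f : (QuadraticAlgebra F (-1) t)ˣ →* Fˣ := Units.map QuadraticAlgebra.norm
  have hs : Function.Surjective f := by
    intro c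
    have ht : t ^ 2 - 4 ≠ 0 := fun e => hr (t / 2) (by field_simp; linear_combination -e)
    obtain ⟨u, v, h⟩ := exists_sq_sub hq ht (4 * c)
    have hn : norm (⟨(u - t * v) / 2, v⟩ : QuadraticAlgebra F (-1) t) = c := by
      rw [QuadraticAlgebra.norm_def]; field_simp; linear_combination h
    refine ⟨Units.mk0 _ (fun e => c.ne_zero ?_), Units.ext hn⟩
    rw [← hn, e, QuadraticAlgebra.norm_zero]
  have h3 : Nat.card f.ker = Nat.card (unitary (QuadraticAlgebra F (-1) t)) := by
    refine Nat.card_congr ⟨fun z => ⟨z.1, mem_unitary (congrArg Units.val z.2)⟩,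
      fun z => ⟨Unitary.toUnits z, Units.ext (norm_eq_one z.2)⟩, fun z => ?_, fun z => rfl⟩
    exact Subtype.ext (Units.ext rfl)
  have h4 := f.ker.card_mul_index
  rw [index_ker, MonoidHom.range_eq_top.2 hs, card_top, Nat.card_units, Nat.card_units, hcard,
    h3] at h4
  have h5 : 1 < Nat.card F := Finite.one_lt_card
  obtain ⟨m, hm⟩ : ∃ m, Nat.card F = m + 2 := ⟨Nat.card F - 2, by omega⟩
  rw [hm] at h4 ⊢
  refine Nat.eq_of_mul_eq_mul_right (m := m + 1) (by omega) ?_
  rw [show m + 2 - 1 = m + 1 from rfl] at h4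
  rw [h4]
  exact (Nat.sub_eq_iff_eq_add (by nlinarith)).2 (by ring)

/-- Centralizers of semisimple non-central elements. -/
theorem centralizer_cases (hq : Nat.card F % 2 = 1) {x : SL F} (hx : x ∉ center (SL F))
    (ht : tr x ^ 2 ≠ 4) : IsCyclic (centralizer ({x} : Set (SL F))) ∧
      (((∃ r : F, r ^ 2 = -1 + tr x * r) ∧
          Nat.card (centralizer ({x} : Set (SL F))) = Nat.card F - 1) ∨
        ((∀ r : F, r ^ 2 ≠ -1 + tr x * r) ∧
          Nat.card (centralizer ({x} : Set (SL F))) = Nat.card F + 1)) := by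
  have e := centEquiv hx
  by_cases h : ∃ r : F, r ^ 2 = -1 + tr x * r
  · obtain ⟨r, hr⟩ := h
    obtain ⟨e'⟩ := unitary_equiv_of_root hr ht
    refine ⟨isCyclic_of_surjective (e'.symm.trans e) (MulEquiv.surjective _), Or.inl ⟨⟨r, hr⟩, ?_⟩⟩
    rw [← Nat.card_units, Nat.card_congr (e'.symm.trans e).toEquiv]
  · push Not at h
    obtain ⟨h1, h2⟩ := unitary_of_no_root hq h
    exact ⟨isCyclic_of_surjective e e.surjective, Or.inr ⟨h, by rw [← h2, Nat.card_congr e.toEquiv]⟩⟩

theorem exists_inverting (hq : Nat.card F % 2 = 1) {x : SL F} (ht : tr x ^ 2 ≠ 4) :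
    ∃ w : SL F, w * x * w⁻¹ = x⁻¹ := by
  have h2 := two_ne_zero_of_odd hq
  have hd := det_eq x
  have hD : tr x ^ 2 - 4 ≠ 0 := sub_ne_zero.2 ht
  suffices h : ∃ a b c : F, -a ^ 2 - b * c = 1 ∧ a * (x 0 0 - x 1 1) + b * x 1 0 + c * x 0 1 = 0 by
    obtain ⟨a, b, c, h1, h3⟩ := h
    refine ⟨L.mkSL2 a b c (-a) (by linear_combination h1), mul_inv_eq_iff_eq_mul.2 ?_⟩
    apply Subtype.ext
    rw [Matrix.SpecialLinearGroup.coe_mul, Matrix.SpecialLinearGroup.coe_mul, coe_inv_eq]
    ext i j
    fin_cases i <;> fin_cases j <;> simp [mul_apply, Fin.sum_univ_two, tr, L.mkSL2]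
    · linear_combination h3
    · ring
    · ring
    · linear_combination h3
  by_cases c1 : x 0 1 = 0
  · by_cases c2 : x 1 0 = 0
    · exact ⟨0, 1, -1, by ring, by simp [c1, c2]⟩
    · obtain ⟨u, v, h⟩ := exists_sq_sub hq hD (-4 * x 1 0 ^ 2)
      refine ⟨(u + (x 0 0 - x 1 1) * v) / (2 * x 1 0),
        -((u + (x 0 0 - x 1 1) * v) / (2 * x 1 0) * (x 0 0 - x 1 1) + v * x 0 1) / x 1 0, v, ?_, ?_⟩
      · field_simp
        simp only [tr] at h
        linear_combination -h - 4 * v ^ 2 * hd
      · field_simp; ring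
  · obtain ⟨u, v, h⟩ := exists_sq_sub hq hD (-4 * x 0 1 ^ 2)
    refine ⟨(u + (x 0 0 - x 1 1) * v) / (2 * x 0 1), v,
      -((u + (x 0 0 - x 1 1) * v) / (2 * x 0 1) * (x 0 0 - x 1 1) + v * x 1 0) / x 0 1, ?_, ?_⟩
    · field_simp
      simp only [tr] at h
      linear_combination -h - 4 * v ^ 2 * hd
    · field_simp; ring

/-- An element with trace `± 2` whose order is invertible in `F` is central. -/
theorem mem_center_of_tr {x : SL F} (ht : tr x ^ 2 = 4) {n : ℕ} (hn : (n : F) ≠ 0)
    (h2 : (2 : F) ≠ 0) (hx : x ^ n = 1) : x ∈ center (SL F) := by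
  obtain ⟨e, he⟩ : ∃ e : F, e = tr x / 2 := ⟨_, rfl⟩
  have he2 : e * e = 1 := by rw [he]; field_simp; linear_combination ht
  have ht' : tr x = 2 * e := by rw [he]; field_simp
  obtain ⟨N, hN⟩ : ∃ N, N = x.1 - e • (1 : Matrix (Fin 2) (Fin 2) F) := ⟨_, rfl⟩
  have hNN : N * N = 0 := by
    rw [hN, sub_mul, mul_sub, mul_sub, cayley, ht']
    simp only [Matrix.mul_smul, Matrix.smul_mul, mul_one, one_mul, smul_smul, he2]
    module
  have hxe : x.1 = e • (1 : Matrix (Fin 2) (Fin 2) F) + N := by rw [hN]; abel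
  have hpow : ∀ k : ℕ, x.1 ^ k = (e ^ k) • (1 : Matrix (Fin 2) (Fin 2) F) + (k * e ^ (k + 1)) • N := by
    intro k
    induction k with
    | zero => simp
    | succ k ih =>
      rw [pow_succ, ih, hxe, add_mul, mul_add, mul_add]
      simp only [Matrix.mul_smul, Matrix.smul_mul, mul_one, one_mul, smul_smul, hNN, smul_zero]
      have e1 : ((k + 1 : ℕ) : F) * e ^ (k + 1 + 1) = e ^ k + e * (k * e ^ (k + 1)) := by
        push_cast
        linear_combination (e ^ k) * he2
      rw [e1, pow_succ']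
      module
  have h1 := hpow (2 * n)
  have h3 : x.1 ^ (2 * n) = 1 := by
    rw [← Matrix.SpecialLinearGroup.coe_pow, mul_comm, pow_mul, hx, one_pow]; rfl
  have h4 : e ^ (2 * n) = 1 := by rw [pow_mul, sq, he2, one_pow]
  rw [h3, h4, one_smul, left_eq_add, smul_eq_zero] at h1
  have he0 : e ≠ 0 := by rintro rfl; simp at he2
  have hN0 : N = 0 := h1.resolve_left (by push_cast; exact mul_ne_zero (mul_ne_zero h2 hn) (pow_ne_zero _ he0))
  rw [hN0, add_zero] at hxe
  rw [mem_center_iff']
  refine ⟨?_, ?_, ?_⟩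
  · simpa using congrFun (congrFun hxe 0) 1
  · simpa using congrFun (congrFun hxe 1) 0
  · have a := congrFun (congrFun hxe 0) 0
    have b := congrFun (congrFun hxe 1) 1
    simp only [Matrix.smul_apply, one_apply_eq] at a b
    exact a.trans b.symm

end Cfsg.Agent.H4.SL2
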