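import Cfsg.Agent.H9.TwoFrob
import Cfsg.Agent.H1.Hall
import Cfsg.Agent.L.MinNormal

/-! Higman's three primes lemma: a finite solvable group whose order is divisible by three distinct
primes has an element whose order is the product of two of them. -/

set_option autoImplicit false

namespace Cfsg.Agent.H4

open Cfsg Subgroup

theorem prime_dvd_card_of_isElementaryAbelian {G : Type*} [Group G] [Finite G] {N : Subgroup G}
    {p : ℕ} (hp : p.Prime) (hN : IsElementaryAbelian p N) (h1 : N ≠ ⊥) : p ∣ Nat.card N := by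
  have := (Subgroup.nontrivial_iff_ne_bot N).2 h1
  obtain ⟨⟨x, hx⟩, hx1⟩ := exists_ne (1 : N)
  have : orderOf (⟨x, hx⟩ : N) = p := by
    have := Fact.mk hp
    apply orderOf_eq_prime _ hx1
    exact Subtype.ext (hN.2 x hx)
  rw [← this]; exact orderOf_dvd_natCard _

theorem orderOf_eq_of_isElementaryAbelian {G : Type*} [Group G] {N : Subgroup G}
    {p : ℕ} (hp : p.Prime) (hN : IsElementaryAbelian p N) {x : G} (hx : x ∈ N) (h1 : x ≠ 1) :
    orderOf x = p := by
  have := Fact.mk hp
  exact orderOf_eq_prime (hN.2 x hx) h1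

/-- A solvable Frobenius complement whose order involves exactly two primes `q`, `r` has an element
of order `q * r`. -/
theorem exists_orderOf_mul_of_isFrobAction {A N : Type*} [Group A] [Group N] [Finite N]
    [Nontrivial N] [Group.IsSolvable A] {φ : A →* MulAut N} (hφ : H9.IsFrobAction φ) {q r : ℕ}
    (hq : q.Prime) (hr : r.Prime) (hqr : q ≠ r) (hqA : q ∣ Nat.card A) (hrA : r ∣ Nat.card A)
    (hA : ∀ s : ℕ, s.Prime → s ∣ Nat.card A → s = q ∨ s = r) : ∃ a : A, orderOf a = q * r := by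
  have := hφ.finite
  have : Nontrivial A := by
    rw [← Finite.one_lt_card_iff_nontrivial]
    exact lt_of_lt_of_le hq.one_lt (Nat.le_of_dvd Nat.card_pos hqA)
  obtain ⟨M, t, hM, ht, hMt⟩ := L.exists_isMinNormal_isElementaryAbelian (G := A)
  have hMn := hM.1
  have := hMt.1
  have key : ∀ u : ℕ, u.Prime → u ≠ t → u ∣ Nat.card A → ∃ a : A, orderOf a = t * u := by
    intro u hu hut huA
    have := Fact.mk hu
    obtain ⟨b, hb⟩ := exists_prime_orderOf_dvd_card' u huA
    obtain ⟨k, hk, hk1, hc⟩ := hφ.exists_commute_of_normalizes hM.2.1 hu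
      (b := b) (by rw [← hb]; exact pow_orderOf_eq_one b)
      (by rw [Subgroup.normalizer_eq_top]; trivial)
    exact H9.exists_orderOf_eq_mul_of_commute (x := k) (y := b) hc.symm
      ((Nat.coprime_primes ht hu).2 hut.symm)
      (by rw [orderOf_eq_of_isElementaryAbelian ht hMt hk hk1]) (by rw [hb])
  have htA : t ∣ Nat.card A :=
    (prime_dvd_card_of_isElementaryAbelian ht hMt hM.2.1).trans (Subgroup.card_subgroup_dvd_card M)
  rcases hA t ht htA with rfl | rfl
  · exact key r hr hqr.symm hrA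
  · rw [mul_comm]; exact key q hq hqr hqA

theorem three_primes_aux {G : Type*} [Group G] [Finite G] [Group.IsSolvable G] {p q r : ℕ}
    (hp : p.Prime) (hq : q.Prime) (hr : r.Prime) (hpq : p ≠ q) (hpr : p ≠ r) (hqr : q ≠ r)
    (hqG : q ∣ Nat.card G) (hrG : r ∣ Nat.card G)
    {N : Subgroup G} [N.Normal] (hN : IsElementaryAbelian p N) (h1 : N ≠ ⊥) :
    (∃ g : G, orderOf g = p * q) ∨ (∃ g : G, orderOf g = p * r) ∨ ∃ g : G, orderOf g = q * r := by
  obtain ⟨K, hK⟩ := H1.exists_isPiHall_of_isSolvable (G := G) {q, r}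
  by_contra hcon
  push Not at hcon
  obtain ⟨h1', h2', h3'⟩ := hcon
  have hKN : K ≤ normalizer (N : Set G) := by rw [Subgroup.normalizer_eq_top]; exact le_top
  have hφ := H9.isFrobAction_conjAction hKN (by
    intro b hb hb1 k hk hc
    by_contra hk1
    have hob : orderOf b ≠ 1 := by rwa [Ne, orderOf_eq_one_iff]
    obtain ⟨t, ht, htb⟩ := Nat.exists_prime_and_dvd hob
    have htK : t ∣ Nat.card K := htb.trans (Subgroup.orderOf_dvd_natCard K hb)
    have hok := orderOf_eq_of_isElementaryAbelian hp hN hk hk1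
    rcases hK.1 t ht htK with rfl | rfl
    · obtain ⟨g, hg⟩ := H9.exists_orderOf_eq_mul_of_commute (x := k) (y := b) hc.symm
        ((Nat.coprime_primes hp ht).2 hpq) (by rw [hok]) htb
      exact h1' g hg
    · obtain ⟨g, hg⟩ := H9.exists_orderOf_eq_mul_of_commute (x := k) (y := b) hc.symm
        ((Nat.coprime_primes hp ht).2 hpr) (by rw [hok]) htb
      exact h2' g hg)
  have : Nontrivial N := (Subgroup.nontrivial_iff_ne_bot N).2 h1
  have hd : ∀ s : ℕ, s.Prime → s ∈ ({q, r} : Set ℕ) → s ∣ Nat.card G → s ∣ Nat.card K := by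
    intro s hs hsm hsG
    rw [← K.card_mul_index] at hsG
    exact ((Nat.Prime.dvd_mul hs).1 hsG).resolve_right (hK.2 s hs hsm)
  obtain ⟨a, ha⟩ := exists_orderOf_mul_of_isFrobAction hφ hq hr hqr (hd q hq (by simp) hqG)
    (hd r hr (by simp) hrG) (fun s hs hsK => by simpa using hK.1 s hs hsK)
  exact h3' a (by rw [← ha, Subgroup.orderOf_coe])

/-- Higman's three primes lemma. -/
theorem exists_orderOf_mul_of_three_primes {G : Type*} [Group G] [Finite G] [Group.IsSolvable G]
    {p q r : ℕ} (hp : p.Prime) (hq : q.Prime) (hr : r.Prime) (hpq : p ≠ q) (hpr : p ≠ r)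
    (hqr : q ≠ r) (hpG : p ∣ Nat.card G) (hqG : q ∣ Nat.card G) (hrG : r ∣ Nat.card G) :
    (∃ g : G, orderOf g = p * q) ∨ (∃ g : G, orderOf g = p * r) ∨ ∃ g : G, orderOf g = q * r := by
  obtain ⟨K, hK⟩ := H1.exists_isPiHall_of_isSolvable (G := G) {p, q, r}
  have hd : ∀ s : ℕ, s.Prime → s ∈ ({p, q, r} : Set ℕ) → s ∣ Nat.card G → s ∣ Nat.card K := by
    intro s hs hsm hsG
    rw [← K.card_mul_index] at hsG
    exact ((Nat.Prime.dvd_mul hs).1 hsG).resolve_right (hK.2 s hs hsm)
  have hpK := hd p hp (by simp) hpG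
  have hqK := hd q hq (by simp) hqG
  have hrK := hd r hr (by simp) hrG
  have : Nontrivial K := by
    rw [← Finite.one_lt_card_iff_nontrivial]
    exact lt_of_lt_of_le hq.one_lt (Nat.le_of_dvd Nat.card_pos hqK)
  obtain ⟨M, t, hM, ht, hMt⟩ := L.exists_isMinNormal_isElementaryAbelian (G := K)
  have hMn := hM.1
  have htK : t ∣ Nat.card K :=
    (prime_dvd_card_of_isElementaryAbelian ht hMt hM.2.1).trans (Subgroup.card_subgroup_dvd_card M)
  have lift : ∀ n : ℕ, (∃ g : K, orderOf g = n) → ∃ g : G, orderOf g = n :=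
    fun n ⟨g, hg⟩ => ⟨g, by rw [← hg, Subgroup.orderOf_coe]⟩
  rcases hK.1 t ht htK with rfl | rfl | rfl
  · rcases three_primes_aux hp hq hr hpq hpr hqr hqK hrK hMt hM.2.1 with h | h | h
    · exact Or.inl (lift _ h)
    · exact Or.inr (Or.inl (lift _ h))
    · exact Or.inr (Or.inr (lift _ h))
  · rcases three_primes_aux hq hp hr hpq.symm hqr hpr hpK hrK hMt hM.2.1 with h | h | h
    · exact Or.inl (by rw [mul_comm]; exact lift _ h)
    · exact Or.inr (Or.inr (lift _ h))
    · exact Or.inr (Or.inl (lift _ h))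
  · rcases three_primes_aux hr hp hq hpr.symm hqr.symm hpq hpK hqK hMt hM.2.1 with h | h | h
    · exact Or.inr (Or.inl (by rw [mul_comm]; exact lift _ h))
    · exact Or.inr (Or.inr (by rw [mul_comm]; exact lift _ h))
    · exact Or.inl (lift _ h)

theorem not_isPrimePow_mul_of_ne {p q : ℕ} (hp : p.Prime) (hq : q.Prime) (h : p ≠ q) :
    ¬ IsPrimePow (p * q) := by
  intro hpp
  obtain ⟨s, k, hs, hk, e⟩ := (isPrimePow_nat_iff _).1 hpp
  have h1 : p ∣ s ^ k := e ▸ dvd_mul_right p q
  have h2 : q ∣ s ^ k := e ▸ dvd_mul_left q p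
  exact h (((Nat.prime_dvd_prime_iff_eq hp hs).1 (hp.dvd_of_dvd_pow h1)).trans
    ((Nat.prime_dvd_prime_iff_eq hq hs).1 (hq.dvd_of_dvd_pow h2)).symm)

/-- A finite solvable group with no element of order a product of two distinct primes has at most
two prime divisors. -/
theorem card_primeFactors_le_two_of_isSolvable {G : Type*} [Group G] [Finite G]
    [Group.IsSolvable G]
    (h : ∀ (g : G) (p q : ℕ), p.Prime → q.Prime → p ≠ q → orderOf g ≠ p * q) :
    (Nat.card G).primeFactors.card ≤ 2 := by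
  by_contra hc
  push Not at hc
  obtain ⟨p, q, r, hp, hq, hr, hpq, hpr, hqr⟩ := Finset.two_lt_card_iff.1 hc
  have hp' := Nat.prime_of_mem_primeFactors hp
  have hq' := Nat.prime_of_mem_primeFactors hq
  have hr' := Nat.prime_of_mem_primeFactors hr
  rcases exists_orderOf_mul_of_three_primes hp' hq' hr' hpq hpr hqr (Nat.dvd_of_mem_primeFactors hp)
    (Nat.dvd_of_mem_primeFactors hq) (Nat.dvd_of_mem_primeFactors hr) with ⟨g, hg⟩ | ⟨g, hg⟩ | ⟨g, hg⟩
  · exact h g p q hp' hq' hpq hg
  · exact h g p r hp' hr' hpr hg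
  · exact h g q r hq' hr' hqr hg

end Cfsg.Agent.H4
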