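import Mathlib
import Cfsg.Agent.H4.SubCount
import Cfsg.Agent.H1.RepBasic
import Cfsg.Agent.H3.RankOne

/-! The refined form of Frobenius' theorem for groups with non-cyclic Sylow `p`-subgroups,
`p` odd. -/

set_option autoImplicit false

namespace Cfsg.Agent.H4

open Subgroup

theorem not_surjective_affine {V : Type*} [AddCommGroup V] [Finite V] {p : ℕ} [hp : Fact p.Prime]
    (hp2 : p ≠ 2) [Module (ZMod p) V] (A : Module.End (ZMod p) V) {n : ℕ} (hA : A ^ p ^ n = 1)
    (b : V) (hd : p ^ 2 ∣ Nat.card V) (f : ℕ → V) (h0 : f 0 = 0)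
    (hf : ∀ j, f (j + 1) = b + A (f j)) : ¬ Function.Surjective f := by
  have hfin : Module.Finite (ZMod p) V := Module.Finite.of_finite
  set d := Module.finrank (ZMod p) V with hd'
  have hc : Nat.card V = p ^ d := by
    rw [Module.natCard_eq_pow_finrank (K := ZMod p), Nat.card_zmod]
  rw [hc, Nat.pow_dvd_pow_iff_le_right hp.out.one_lt] at hd
  have hp0 : (p : Module.End (ZMod p) V) = 0 := H1.cast_end_eq_zero p
  have hnil : IsNilpotent (A - 1) := ⟨p ^ n, by rw [H1.sub_one_pow_pow hp.out hp0, hA, sub_self]⟩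
  have h1 : (A - 1) ^ d = 0 := by
    have := LinearMap.aeval_self_charpoly (A - 1)
    rwa [hnil.charpoly_eq_X_pow_finrank, map_pow, Polynomial.aeval_X] at this
  have h3 : 3 ≤ p := by have := hp.out.two_le; omega
  have h2 : d ≤ p ^ (d - 1) - 1 := by
    have : ∀ e : ℕ, e + 3 ≤ 3 ^ (e + 1) := by
      intro e
      induction e with
      | zero => simp
      | succ e ih => rw [pow_succ]; omega
    have a1 := this (d - 2)
    have a2 : 3 ^ (d - 2 + 1) ≤ p ^ (d - 1) := by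
      rw [show d - 2 + 1 = d - 1 by omega]
      exact Nat.pow_le_pow_left h3 _
    omega
  have hf' : ∀ j, f j = (∑ i ∈ Finset.range j, A ^ i) b := by
    intro j
    induction j with
    | zero => simpa using h0
    | succ j ih =>
      rw [hf, ih, Finset.sum_range_succ', pow_zero, LinearMap.add_apply, add_comm,
        ← Module.End.mul_apply, Finset.mul_sum]
      simp [pow_succ']
  have hq : f (p ^ (d - 1)) = 0 := by
    rw [hf', H1.geom_sum_eq_sub_one_pow hp.out hp0, pow_eq_zero_of_le h2 h1]; rfl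
  have hper : ∀ j, f (j + p ^ (d - 1)) = f j := by
    intro j
    induction j with
    | zero => rw [zero_add, hq, h0]
    | succ j ih => rw [add_right_comm, hf, hf, ih]
  have hper' : Function.Periodic f (p ^ (d - 1)) := hper
  intro hs
  have hpos := pow_pos hp.out.pos (d - 1)
  have h4 : Function.Surjective (fun i : Fin (p ^ (d - 1)) => f i) := by
    intro v
    obtain ⟨j, rfl⟩ := hs v
    exact ⟨⟨j % p ^ (d - 1), Nat.mod_lt _ hpos⟩, hper'.map_mod_nat j⟩
  have h5 := Nat.card_le_card_of_surjective _ h4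
  rw [hc, Nat.card_eq_fintype_card, Fintype.card_fin,
    Nat.pow_le_pow_iff_right hp.out.one_lt] at h5
  omega

theorem not_surjective_affine' {V : Type*} [CommGroup V] [Finite V] {p : ℕ} [hp : Fact p.Prime]
    (hp2 : p ≠ 2) (hV : ∀ x : V, x ^ p = 1) (A : MulAut V) {n : ℕ} (hA : A ^ p ^ n = 1)
    (b : V) (hd : p ^ 2 ∣ Nat.card V) (f : ℕ → V) (h0 : f 0 = 1)
    (hf : ∀ j, f (j + 1) = b * A (f j)) : ¬ Function.Surjective f := by
  have hV' : ∀ x : Additive V, p • x = 0 := fun x => congrArg Additive.ofMul (hV x.toMul)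
  have inst : Module (ZMod p) (Additive V) := AddCommGroup.zmodModule hV'
  let φ : Additive V →ₗ[ZMod p] Additive V :=
    (MonoidHom.toAdditive A.toMonoidHom).toZModLinearMap p
  have hφ : ∀ x : V, φ (Additive.ofMul x) = Additive.ofMul (A x) := fun x => rfl
  have hpow : ∀ (j : ℕ) (x : V), (φ ^ j) (Additive.ofMul x) = Additive.ofMul ((A ^ j) x) := by
    intro j x
    induction j with
    | zero => rfl
    | succ j ih => rw [pow_succ', Module.End.mul_apply, ih, hφ, pow_succ', MulAut.mul_apply]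
  intro hs
  refine not_surjective_affine hp2 φ (n := n) ?_ (Additive.ofMul b) hd
    (fun j => Additive.ofMul (f j)) (by simp [h0]) (fun j => ?_) (Additive.ofMul.surjective.comp hs)
  · refine LinearMap.ext fun x => ?_
    exact (hpow _ x.toMul).trans (by rw [hA]; rfl)
  · rw [hφ, hf]; rfl

theorem affPerm_not_transitive {U : Type*} [Group U] [Finite U] {p : ℕ} [hp : Fact p.Prime]
    (hp2 : p ≠ 2) (hU : IsPGroup p U) (hc : ¬ IsCyclic U) (β : MulAut U) (b : U) {n : ℕ}
    (h : affPerm β b ^ p ^ n = 1) : ¬ ∀ w, ∃ j : ℕ, (affPerm β b ^ j) 1 = w := by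
  intro hs
  have hβ : β ^ p ^ n = 1 := by
    ext c
    have := affPerm_pow_mul β b (p ^ n) 1 c
    rw [h] at this
    simpa using this.symm
  have hnil := hU.isNilpotent
  have hcomm := H7.isMulCommutative_quotient_frattini (G := U)
  refine @not_surjective_affine' (U ⧸ frattini U) { mul_comm := mul_comm' } _ p _ hp2
    (H7.pow_eq_one_quotient_frattini hU) (H7.quotAut (frattini U) β) n
    (by rw [← map_pow, hβ, map_one]) (b : U ⧸ frattini U) (sq_dvd_index_frattini hU hc)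
    (fun j => (((affPerm β b ^ j) 1 : U) : U ⧸ frattini U)) rfl (fun j => ?_) ?_
  · rw [H7.quotAut_mk, pow_succ', Equiv.Perm.mul_apply, affPerm_apply]
    rfl
  · intro x
    obtain ⟨y, rfl⟩ := QuotientGroup.mk_surjective x
    obtain ⟨j, rfl⟩ := hs y
    exact ⟨j, rfl⟩

variable {G : Type*} [Group G]

theorem card_subgroup_dvd_card_pow_mem_of_not_isCyclic [Finite G] {p k : ℕ} [hp : Fact p.Prime]
    (hp2 : p ≠ 2) (H : Subgroup G) (hH : Nat.card H = p ^ (k + 1)) (hc : ¬ IsCyclic H) {n : ℕ}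
    (hn : p ^ k ∣ n) {C : Set G} (hC : ∀ g, ∀ x ∈ C, g * x * g⁻¹ ∈ C) :
    p ^ (k + 1) ∣ Nat.card {x : G // x ^ n ∈ C} := by
  rw [← hH]
  apply card_dvd_of_tail_closed H {x | x ^ n ∈ C}
  · intro h _ x hx
    show (h * x * h⁻¹) ^ n ∈ C
    rw [conj_pow]; exact hC _ _ hx
  · intro x hx f hf
    obtain ⟨m, -, hd, ⟨a, -, ha⟩, h⟩ := brauer_lemma (mem_normalizer_tailCore H x) hf
    refine pow_mem_of_conj hC (Dvd.dvd.trans ?_ hn) ha hx
    have h1 := card_dvd_of_le (tailCore_le H x)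
    obtain ⟨i, hi, rfl⟩ := (Nat.dvd_prime_pow hp.out).1 (hH ▸ hd.trans h1)
    refine pow_dvd_pow p ?_
    by_contra hlt
    obtain rfl : i = k + 1 := by omega
    have h2 : Nat.card (tailCore H x) = p ^ (k + 1) := Nat.dvd_antisymm (hH ▸ h1) hd
    have h3 : tailCore H x = H := eq_of_le_of_card_ge (tailCore_le H x) (by rw [h2, hH])
    obtain ⟨β, b, h4, h5⟩ := h h2.symm
    exact affPerm_not_transitive hp2 (IsPGroup.of_card h2) (by rwa [h3]) β b h4 h5

theorem exists_not_isCyclic_card_eq [Finite G] {p k : ℕ} [hp : Fact p.Prime] (hp2 : p ≠ 2)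
    {P : Subgroup G} (hP : IsPGroup p P) (hc : ¬ IsCyclic P) (hk : 2 ≤ k)
    (hd : p ^ k ∣ Nat.card G) : ∃ H : Subgroup G, Nat.card H = p ^ k ∧ ¬ IsCyclic H := by
  obtain ⟨E, -, -, hE, hEc⟩ := H3.exists_elementary_sq_le_of_odd hp2 hP hc
  obtain ⟨H, hH, hEH⟩ := Sylow.exists_subgroup_card_pow_prime_le p hd E hEc hk
  refine ⟨H, hH, fun h => ?_⟩
  refine H3.not_isCyclic_of_isElementaryAbelian hp.out hE ?_ (isCyclic_of_le hEH)
  rw [hEc, pow_two]
  exact lt_mul_of_one_lt_right hp.out.pos hp.out.one_lt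

/-- refined Frobenius theorem -/
theorem pow_succ_dvd_card_pow_mem [Finite G] {p k : ℕ} [hp : Fact p.Prime] (hp2 : p ≠ 2)
    {P : Subgroup G} (hP : IsPGroup p P) (hc : ¬ IsCyclic P) (hk : 1 ≤ k)
    (hd : p ^ (k + 1) ∣ Nat.card G) {n : ℕ} (hn : p ^ k ∣ n) {C : Set G}
    (hC : ∀ g, ∀ x ∈ C, g * x * g⁻¹ ∈ C) : p ^ (k + 1) ∣ Nat.card {x : G // x ^ n ∈ C} := by
  obtain ⟨H, hH, hHc⟩ := exists_not_isCyclic_card_eq hp2 hP hc (by omega) hd
  exact card_subgroup_dvd_card_pow_mem_of_not_isCyclic hp2 H hH hHc hn hC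

theorem orderOf_conj' (g x : G) : orderOf (g * x * g⁻¹) = orderOf x := by
  simpa using (MulAut.conj g).orderOf_eq x

theorem orderOf_pow_pow_eq_iff [Finite G] {p : ℕ} (hp : p.Prime) {m : ℕ} (hm : p.Coprime m)
    (s : ℕ) (x : G) : orderOf (x ^ p ^ s) = m ↔ ∃ i ≤ s, orderOf x = p ^ i * m := by
  rw [orderOf_pow]
  constructor
  · intro h
    obtain ⟨i, hi, h1⟩ := (Nat.dvd_prime_pow hp).1 (Nat.gcd_dvd_right (orderOf x) (p ^ s))
    refine ⟨i, hi, ?_⟩
    rw [← h, ← h1, Nat.mul_div_cancel' (Nat.gcd_dvd_left _ _)]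
  · rintro ⟨i, hi, h⟩
    have : (p ^ i * m).gcd (p ^ s) = p ^ i := by
      rw [Nat.Coprime.gcd_mul_right_cancel _ (hm.symm.pow_right s)]
      exact Nat.gcd_eq_left (pow_dvd_pow p hi)
    rw [h, this, Nat.mul_div_cancel_left _ (pow_pos hp.pos i)]

theorem card_pow_pow_succ [Finite G] {p : ℕ} (hp : p.Prime) {m : ℕ} (hm : p.Coprime m) (s : ℕ) :
    Nat.card {x : G // x ^ p ^ (s + 1) ∈ {y : G | orderOf y = m}} =
      Nat.card {x : G // x ^ p ^ s ∈ {y : G | orderOf y = m}} +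
        Nat.card {x : G // orderOf x = p ^ (s + 1) * m} := by
  have h1 : {x : G | x ^ p ^ (s + 1) ∈ {y : G | orderOf y = m}} =
      {x : G | x ^ p ^ s ∈ {y : G | orderOf y = m}} ∪ {x : G | orderOf x = p ^ (s + 1) * m} := by
    ext x
    simp only [Set.mem_ofPred_eq, Set.mem_union, orderOf_pow_pow_eq_iff hp hm]
    constructor
    · rintro ⟨i, hi, h⟩
      rcases Nat.le_succ_iff.1 hi with h1 | rfl
      · exact Or.inl ⟨i, h1, h⟩
      · exact Or.inr h
    · rintro (⟨i, hi, h⟩ | h)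
      · exact ⟨i, hi.trans s.le_succ, h⟩
      · exact ⟨_, le_rfl, h⟩
  have h2 := congrArg Set.ncard h1
  rw [Set.ncard_union_eq] at h2
  · exact h2
  · rw [Set.disjoint_left]
    intro x h3 h4
    simp only [Set.mem_ofPred_eq, orderOf_pow_pow_eq_iff hp hm] at h3 h4
    obtain ⟨i, hi, h⟩ := h3
    have h5 := orderOf_pos x
    rw [h4] at h h5
    have := Nat.pow_right_injective hp.two_le
      (Nat.eq_of_mul_eq_mul_right (Nat.pos_of_mul_pos_left h5) h)
    omega

/-- If the Sylow `p`-subgroups are not cyclic (`p` odd) and `s > 1`, the number of elements of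
order `p ^ s * m` is divisible by `p ^ s`. -/
theorem pow_dvd_card_orderOf_eq [Finite G] {p : ℕ} [hp : Fact p.Prime] (hp2 : p ≠ 2)
    {P : Subgroup G} (hP : IsPGroup p P) (hc : ¬ IsCyclic P) {s m : ℕ} (hs : 1 < s)
    (hm : p.Coprime m) : p ^ s ∣ Nat.card {g : G // orderOf g = p ^ s * m} := by
  by_cases hd : p ^ s ∣ Nat.card G
  · obtain ⟨s, rfl⟩ := Nat.exists_eq_succ_of_ne_zero (by omega : s ≠ 0)
    have hC : ∀ g : G, ∀ x ∈ {y : G | orderOf y = m}, g * x * g⁻¹ ∈ {y : G | orderOf y = m} :=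
      fun g x hx => (orderOf_conj' g x).trans hx
    have h1 := frobenius_dvd_card hd dvd_rfl hC
    have h2 := pow_succ_dvd_card_pow_mem hp2 hP hc (by omega) hd dvd_rfl hC
    rw [card_pow_pow_succ hp.out hm] at h1
    exact (Nat.dvd_add_right h2).1 h1
  · have : Nat.card {g : G // orderOf g = p ^ s * m} = 0 := by
      rw [Nat.card_eq_zero]
      left
      exact ⟨fun g => hd ((Dvd.intro _ g.2.symm).trans (orderOf_dvd_natCard _))⟩
    rw [this]
    exact dvd_zero _

theorem dvd_card_cyclic_of_dvd [Finite G] {p s : ℕ} (hp : p.Prime) (hs : 1 ≤ s)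
    (h : p ^ s ∣ Nat.card {g : G // orderOf g = p ^ s}) :
    p ∣ Nat.card {C : Subgroup G // IsCyclic C ∧ Nat.card C = p ^ s} := by
  rw [card_orderOf_eq_totient_mul, Nat.totient_prime_pow hp hs] at h
  obtain ⟨s, rfl⟩ := Nat.exists_eq_add_of_le' hs
  rw [Nat.add_sub_cancel, pow_succ, mul_assoc] at h
  have h1 := Nat.dvd_of_mul_dvd_mul_left (pow_pos hp.pos s) h
  refine (Nat.Coprime.dvd_of_dvd_mul_left ?_ h1)
  have := hp.pos
  exact (Nat.coprime_self_sub_right this).2 (Nat.coprime_one_right p)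

/-- Kulakoff's theorem -/
theorem kulakoff [Finite G] {p : ℕ} [hp : Fact p.Prime] (hp2 : p ≠ 2) {m k : ℕ}
    (hG : Nat.card G = p ^ m) (hc : ¬ IsCyclic G) (hk1 : 1 ≤ k) (hk : k < m) :
    Nat.card {H : Subgroup G // Nat.card H = p ^ k} ≡ 1 + p [MOD p ^ 2] := by
  have h1 := kulakoff_formula m G hG hk
  have hP : IsPGroup p (⊤ : Subgroup G) := (IsPGroup.of_card hG).to_subgroup _
  have h2 := pow_dvd_card_orderOf_eq hp2 hP (fun h => hc
    (isCyclic_of_surjective (⊤ : Subgroup G).subtype fun x => ⟨⟨x, trivial⟩, rfl⟩))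
    (s := k + 1) (m := 1) (by omega) (Nat.coprime_one_right p)
  rw [mul_one] at h2
  obtain ⟨c, hc⟩ := dvd_card_cyclic_of_dvd hp.out (by omega) h2
  rw [hc, ← mul_assoc, ← pow_two] at h1
  refine Nat.ModEq.trans ?_ h1
  simp [Nat.ModEq]

end Cfsg.Agent.H4
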