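import Mathlib
import Cfsg.Agent.H1.Hall
import Cfsg.Prelude.Def_SolvableStructure

/-! Groups of the same order type: transfer of normal Hall subgroups; Sylow towers of
supersolvable groups. -/

set_option autoImplicit false

namespace Cfsg.Agent.H4

open Subgroup Cfsg Cfsg.Agent.L Cfsg.Agent.H1

universe u

/-- Groups with the same order type admit an order-preserving bijection. -/
theorem exists_equiv_orderOf {G H : Type*} [Group G] [Finite G] [Group H] [Finite H]
    (hT : ∀ m : ℕ, Nat.card {g : G // orderOf g = m} = Nat.card {h : H // orderOf h = m}) :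
    ∃ e : G ≃ H, ∀ g, orderOf (e g) = orderOf g := by
  have h : ∀ m : ℕ, Nonempty ({g : G // orderOf g = m} ≃ {h : H // orderOf h = m}) := fun m =>
    Finite.card_eq.1 (hT m)
  exact ⟨Equiv.ofFiberEquiv fun m => (h m).some, fun g => Equiv.ofFiberEquiv_map _ g⟩

theorem card_orderOf_eq_of_equiv {G H : Type*} [Group G] [Group H] (e : G ≃ H)
    (he : ∀ g, orderOf (e g) = orderOf g) (P : ℕ → Prop) :
    Nat.card {g : G // P (orderOf g)} = Nat.card {h : H // P (orderOf h)} :=
  Nat.card_congr (e.subtypeEquiv fun g => by rw [he])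

variable {G : Type*} [Group G]

/-- A normal Hall π-subgroup contains every π-element. -/
theorem mem_of_normal_isPiHall [Finite G] {π : Set ℕ} {N : Subgroup G} [N.Normal]
    (hN : IsPiHall π N) {g : G} (hg : IsPiNum π (orderOf g)) : g ∈ N := by
  have h1 : orderOf (g : G ⧸ N) ∣ orderOf g := orderOf_map_dvd (QuotientGroup.mk' N) g
  have h2 : orderOf (g : G ⧸ N) ∣ N.index := orderOf_dvd_natCard _
  have h3 := (hg.coprime (isPiHall_iff.1 hN).2)
  have : orderOf (g : G ⧸ N) = 1 := Nat.eq_one_of_dvd_coprimes h3 h1 h2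
  exact (QuotientGroup.eq_one_iff g).1 (orderOf_eq_one_iff.1 this)

theorem mem_iff_of_normal_isPiHall [Finite G] {π : Set ℕ} {N : Subgroup G} [N.Normal]
    (hN : IsPiHall π N) {g : G} : g ∈ N ↔ IsPiNum π (orderOf g) :=
  ⟨fun h => (isPiHall_iff.1 hN).1.of_dvd (N.orderOf_dvd_natCard h),
    mem_of_normal_isPiHall hN⟩

theorem card_eq_of_isPiHall_of_card_eq {H : Type*} [Group H] {π : Set ℕ} {N : Subgroup G}
    {M : Subgroup H} (hN : IsPiHall π N) (hM : IsPiHall π M) (h : Nat.card G = Nat.card H) :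
    Nat.card N = Nat.card M := by
  obtain ⟨a1, a2⟩ := isPiHall_iff.1 hN
  obtain ⟨b1, b2⟩ := isPiHall_iff.1 hM
  apply Nat.dvd_antisymm
  · apply dvd_of_isPiNum a1 b2
    rw [M.card_mul_index, ← h]; exact N.card_subgroup_dvd_card
  · apply dvd_of_isPiNum b1 a2
    rw [N.card_mul_index, h]; exact M.card_subgroup_dvd_card

/-- If the number of π-elements is at most the order of a π-subgroup `M`, then `M` is the set of
π-elements. -/
theorem mem_iff_of_card_le [Finite G] {π : Set ℕ} {M : Subgroup G} (hM : IsPiSubgroup π M)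
    (h : Nat.card {g : G // IsPiNum π (orderOf g)} ≤ Nat.card M) {g : G} :
    g ∈ M ↔ IsPiNum π (orderOf g) := by
  have hsub : (M : Set G) ⊆ {g : G | IsPiNum π (orderOf g)} := fun x hx =>
    (isPiSubgroup_iff_isPiNum.1 hM).of_dvd (M.orderOf_dvd_natCard hx)
  have := Set.eq_of_subset_of_ncard_le hsub (by
    rw [← Nat.card_coe_set_eq, ← Nat.card_coe_set_eq]; exact h)
  exact Set.ext_iff.1 this g

theorem normal_of_mem_iff_orderOf {M : Subgroup G} {P : ℕ → Prop}
    (h : ∀ g, g ∈ M ↔ P (orderOf g)) : M.Normal := ⟨fun n hn g => by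
  rw [h] at hn ⊢
  have : orderOf (g * n * g⁻¹) = orderOf n := by
    simpa using (MulAut.conj g).orderOf_eq n
  rwa [this]⟩

/-- Transfer of normal Hall subgroups along an order-preserving bijection. -/
theorem mem_iff_of_isPiHall_of_equiv [Finite G] {H : Type*} [Group H] [Finite H] (e : G ≃ H)
    (he : ∀ g, orderOf (e g) = orderOf g) {π : Set ℕ} {N : Subgroup G} [N.Normal]
    (hN : IsPiHall π N) {M : Subgroup H} (hM : IsPiHall π M) {h : H} :
    h ∈ M ↔ IsPiNum π (orderOf h) := by
  apply mem_iff_of_card_le hM.1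
  rw [← card_orderOf_eq_of_equiv e he, ← card_eq_of_isPiHall_of_card_eq hN hM (Nat.card_congr e)]
  exact (Nat.card_congr (Equiv.subtypeEquivRight fun g =>
    (mem_iff_of_normal_isPiHall hN).symm)).le

theorem normal_of_isPiHall_of_equiv [Finite G] {H : Type*} [Group H] [Finite H] (e : G ≃ H)
    (he : ∀ g, orderOf (e g) = orderOf g) {π : Set ℕ} {N : Subgroup G} [N.Normal]
    (hN : IsPiHall π N) {M : Subgroup H} (hM : IsPiHall π M) : M.Normal :=
  normal_of_mem_iff_orderOf fun _ => mem_iff_of_isPiHall_of_equiv e he hN hM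

theorem IsSupersolvable.quotient {G : Type u} [Group G] (hG : IsSupersolvable G)
    (N : Subgroup G) [N.Normal] : IsSupersolvable (G ⧸ N) := by
  obtain ⟨n, H, h0, h1, hn, hs⟩ := hG
  refine ⟨n, fun i => (H i).map (QuotientGroup.mk' N), by simp [h0], ?_, fun i =>
    (hn i).map _ (QuotientGroup.mk'_surjective N), fun i => ?_⟩
  · simp only [h1]
    exact map_top_of_surjective _ (QuotientGroup.mk'_surjective N)
  · obtain ⟨g, hg⟩ := hs i
    exact ⟨g, by simp only [hg, Subgroup.map_sup, MonoidHom.map_zpowers]; rfl⟩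

theorem IsSupersolvable.exists_normal_prime {G : Type u} [Group G] [Finite G] [Nontrivial G]
    (hG : IsSupersolvable G) : ∃ N : Subgroup G, N.Normal ∧ (Nat.card N).Prime := by
  obtain ⟨n, H, h0, h1, hn, hs⟩ := hG
  have key : ∃ g : G, g ≠ 1 ∧ (zpowers g).Normal := by
    by_contra hcon
    push Not at hcon
    have : ∀ i, H i = ⊥ := by
      intro i
      induction i using Fin.induction with
      | zero => exact h0
      | succ i ih =>
        obtain ⟨g, hg⟩ := hs i
        rw [ih, bot_sup_eq] at hg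
        by_cases h : g = 1
        · rw [hg, h, zpowers_one_eq_bot]
        · exact absurd (hg ▸ hn i.succ) (hcon g h)
    exact bot_ne_top ((this _).symm.trans h1)
  obtain ⟨g, hg1, hg⟩ := key
  have ho : orderOf g ≠ 1 := fun h => hg1 (orderOf_eq_one_iff.1 h)
  obtain ⟨q, hq, hqd⟩ := Nat.exists_prime_and_dvd ho
  refine ⟨zpowers (g ^ (orderOf g / q)), ⟨fun x hx a => ?_⟩, ?_⟩
  · obtain ⟨k, rfl⟩ := mem_zpowers_iff.1 hx
    obtain ⟨j, hj⟩ := mem_zpowers_iff.1 (hg.conj_mem g (mem_zpowers g) a)
    refine mem_zpowers_iff.2 ⟨j * k, ?_⟩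
    rw [← conj_zpow, ← conj_pow, ← hj, zpow_mul, ← zpow_natCast, ← zpow_natCast, ← zpow_mul,
      ← zpow_mul, ← zpow_mul, ← zpow_mul]
    congr 1; ring
  · rw [Nat.card_zpowers, orderOf_pow_orderOf_div (orderOf_pos g).ne' hqd]
    exact hq

/-- A supersolvable group has a normal Hall subgroup for the primes `≥ k`. -/
theorem IsSupersolvable.isPiHall_piCore {G : Type u} [Group G] [Finite G]
    (hG : IsSupersolvable G) (k : ℕ) : IsPiHall {q | k ≤ q} (piCore {q | k ≤ q} G) := by
  induction hc : Nat.card G using Nat.strong_induction_on generalizing G with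
  | _ c ih =>
  set π : Set ℕ := {q | k ≤ q} with hπ
  refine ⟨isPiSubgroup_piCore π, ?_⟩
  rcases subsingleton_or_nontrivial G with hs | hs
  · intro p hp _ hd
    have : (piCore π G).index = 1 := by
      rw [index_eq_one]; exact Subsingleton.elim _ _
    rw [this] at hd
    exact hp.ne_one (Nat.dvd_one.1 hd)
  obtain ⟨N, hN, hq⟩ := IsSupersolvable.exists_normal_prime hG
  have hlt : Nat.card (G ⧸ N) < c := by
    rw [← hc, card_eq_card_quotient_mul_card_subgroup N]
    exact lt_mul_of_one_lt_right Nat.card_pos hq.one_lt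
  have IH := ih _ hlt (IsSupersolvable.quotient hG N) rfl
  set K := (piCore π (G ⧸ N)).comap (QuotientGroup.mk' N) with hK
  have hKi : K.index = (piCore π (G ⧸ N)).index :=
    index_comap_of_surjective _ (QuotientGroup.mk'_surjective N)
  by_cases hk : k ≤ Nat.card N
  · have hNπ : IsPiSubgroup π N := fun p hp hd => by
      rw [(Nat.prime_dvd_prime_iff_eq hp hq).1 hd]; exact hk
    rw [← comap_piCore_quotient hNπ, ← hK, hKi]
    exact IH.2
  · push Not at hk
    have hNπ : IsPiSubgroup πᶜ N := fun p hp hd => by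
      rw [(Nat.prime_dvd_prime_iff_eq hp hq).1 hd]; exact not_le.2 hk
    have hNK : N ≤ K := fun x hx => by
      rw [hK, mem_comap, QuotientGroup.mk'_apply, (QuotientGroup.eq_one_iff x).2 hx]
      exact one_mem _
    have hrel : IsPiNum π (N.relIndex K) := by
      rw [relIndex_eq_card_map_mk', hK,
        map_comap_eq_self_of_surjective (QuotientGroup.mk'_surjective N)]
      exact IH.1
    have hfact : Fact (Nat.card N).Prime := ⟨hq⟩
    have hcyc : IsCyclic N := isCyclic_of_prime_card rfl
    have hc : K ≤ centralizer (N : Set G) := by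
      intro x hx
      have h1 : orderOf (MulAut.conjNormal x : MulAut N) ∣ Nat.card N - 1 := by
        rw [← Nat.totient_prime hq, ← IsCyclic.card_mulAut]
        exact orderOf_dvd_natCard _
      have h2 : orderOf (MulAut.conjNormal x : MulAut N) ∣ N.relIndex K := by
        apply orderOf_dvd_of_pow_eq_one
        have hx' : x ^ N.relIndex K ∈ N := pow_relIndex_mem N hx
        rw [← map_pow]
        ext y
        rw [MulAut.conjNormal_apply, MulAut.one_apply]
        have := mul_comm' (⟨_, hx'⟩ : N) y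
        have h3 := congrArg Subtype.val this
        simp only [coe_mul] at h3
        rw [h3, mul_inv_cancel_right]
      have h3 : orderOf (MulAut.conjNormal x : MulAut N) = 1 := by
        by_contra hne
        obtain ⟨p, hp, hd⟩ := Nat.exists_prime_and_dvd hne
        have a1 : k ≤ p := hrel p hp (hd.trans h2)
        have a2 : p ≤ Nat.card N - 1 := Nat.le_of_dvd (by have := hq.one_lt; omega) (hd.trans h1)
        omega
      rw [mem_centralizer_iff]
      intro y hy
      have h4 := congrArg (fun φ : MulAut N => ((φ ⟨y, hy⟩ : N) : G)) (orderOf_eq_one_iff.1 h3)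
      simp only [MulAut.conjNormal_apply, MulAut.one_apply] at h4
      exact (mul_inv_eq_iff_eq_mul.1 h4).symm
    have hle := le_sup_piCore_of_central (π := πᶜ) hNK hc hNπ (by rwa [compl_compl])
    rw [compl_compl] at hle
    intro p hp hpπ hd
    rw [← relIndex_mul_index (le_sup_right : piCore π G ≤ N ⊔ piCore π G)] at hd
    rcases (Nat.Prime.dvd_mul hp).1 hd with h | h
    · rw [relIndex_sup_right] at h
      exact hNπ p hp (h.trans (relIndex_dvd_card _ _)) hpπ
    · exact IH.2 p hp hpπ (hKi ▸ h.trans (index_dvd_of_le hle))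

/-- If `N` is a normal Hall π-subgroup and `P` a Sylow `p`-subgroup then `N ⊔ P` is a Hall
subgroup for `π ∪ {p}`. -/
theorem isPiHall_sup_sylow [Finite G] {π : Set ℕ} {N : Subgroup G} [N.Normal] (hN : IsPiHall π N)
    {p : ℕ} [hp : Fact p.Prime] (P : Sylow p G) :
    IsPiHall (insert p π) ((P : Subgroup G) ⊔ N) := by
  refine ⟨IsPiSubgroup.sup_of_normal (fun q hq hd => ?_) (fun q hq hd => ?_), fun q hq hπ hd => ?_⟩
  · obtain ⟨n, hn⟩ := IsPGroup.iff_card.1 P.isPGroup'
    rw [hn] at hd
    exact Or.inl ((Nat.prime_dvd_prime_iff_eq hq hp.out).1 (hq.dvd_of_dvd_pow hd))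
  · exact Or.inr (hN.1 q hq hd)
  · rcases hπ with rfl | hπ
    · exact P.not_dvd_index (hd.trans (index_dvd_of_le le_sup_left))
    · exact hN.2 q hq hπ (hd.trans (index_dvd_of_le le_sup_right))

theorem isSolvable_sup_of_normal {A N : Subgroup G} [N.Normal] (hA : Group.IsSolvable A)
    (hN : Group.IsSolvable N) : Group.IsSolvable (A ⊔ N : Subgroup G) := by
  let f := (QuotientGroup.mk' N).domRestrict (A ⊔ N)
  have h1 : Group.IsSolvable (A.map (QuotientGroup.mk' N)) := isSolvable_map _ hA
  have h2 : ∀ x : (A ⊔ N : Subgroup G), f x ∈ A.map (QuotientGroup.mk' N) := by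
    intro x
    have : (A ⊔ N).map (QuotientGroup.mk' N) = A.map (QuotientGroup.mk' N) := by
      rw [Subgroup.map_sup, (map_eq_bot_iff N).2 (by simp), sup_bot_eq]
    rw [← this]
    exact mem_map_of_mem _ x.2
  refine Group.isSolvable_of_ker_le_range (inclusion (le_sup_right : N ≤ A ⊔ N)) (f.codRestrict _ h2) ?_
  intro x hx
  have : (x : G) ∈ N := by
    have := congrArg Subtype.val (MonoidHom.mem_ker.1 hx)
    exact (QuotientGroup.eq_one_iff _).1 this
  exact ⟨⟨x, this⟩, rfl⟩

theorem isPiHall_sylow {G : Type*} [Group G] [Finite G] {p : ℕ} [hp : Fact p.Prime]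
    (P : Sylow p G) : IsPiHall {p} (P : Subgroup G) :=
  ⟨(isPiSubgroup_singleton_iff hp.out).2 P.isPGroup', fun q _ hq => by
    rw [Set.mem_singleton_iff.1 hq]; exact P.not_dvd_index⟩


theorem isNilpotent_iff_sylow_normal {G : Type*} [Group G] [Finite G] :
    Group.IsNilpotent G ↔ ∀ (p : ℕ) (_ : Fact p.Prime) (P : Sylow p G), (P : Subgroup G).Normal :=
  (Group.isNilpotent_of_finite_tfae (G := G)).out 0 3

end Cfsg.Agent.H4
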