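import Mathlib
import Cfsg.Agent.H4.OrderType
import Cfsg.Agent.H9.FrobCompl
import Cfsg.Agent.H9.FrobKernel
import Cfsg.Agent.H5.Kegel
import Cfsg.Agent.H7.AutPGroup
import Cfsg.Agent.H1.Abelian
import Cfsg.Agent.H3.RankOne
import Cfsg.Agent.H6.Burnside
import Cfsg.Agent.H8.PComplement

/-! Elements of prime order `p ≥ 5` in Frobenius complements. -/

set_option autoImplicit false

namespace Cfsg.Agent.H4

open Subgroup Cfsg Cfsg.Agent.L

universe u

theorem not_dvd_card_mulAut_of_index_zpowers {Q : Type*} [Group Q] [Finite Q] (hQ : IsPGroup 2 Q)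
    {x : Q} (hx : (zpowers x).index ∣ 2) {p : ℕ} (hp : p.Prime) (h5 : 5 ≤ p) :
    ¬ p ∣ Nat.card (MulAut Q) := by
  obtain ⟨n, hn⟩ := IsPGroup.iff_card.1 hQ
  have h1 : (zpowers (x ^ 2)).index ∣ 2 ^ 2 := by
    have a1 := (zpowers (x ^ 2)).index_mul_card
    have a2 := (zpowers x).index_mul_card
    rw [Nat.card_zpowers] at a1 a2
    have a3 : orderOf x ∣ 2 * orderOf (x ^ 2) := by
      apply orderOf_dvd_of_pow_eq_one
      rw [pow_mul, pow_orderOf_eq_one]
    have a4 : (zpowers (x ^ 2)).index * orderOf (x ^ 2) ∣ 2 ^ 2 * orderOf (x ^ 2) := by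
      rw [a1, ← a2, pow_two, mul_assoc]
      exact Nat.mul_dvd_mul hx a3
    exact Nat.dvd_of_mul_dvd_mul_right (orderOf_pos _) a4
  have h2 : (frattini Q).index ∣ 2 ^ 2 :=
    (index_dvd_of_le ((zpowers_le).2 (H3.pow_mem_frattini hQ x))).trans h1
  obtain ⟨r, hr, h3⟩ := (Nat.dvd_prime_pow Nat.prime_two).1 h2
  intro hd
  have h4 := hd.trans (H7.card_mulAut_dvd hn h3)
  rcases (Nat.Prime.dvd_mul hp).1 h4 with h | h
  · have := Nat.le_of_dvd two_pos (hp.dvd_of_dvd_pow h)
    omega
  · have h6 : p ∣ 6 := by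
      refine h.trans ?_
      interval_cases r <;> simp [Finset.prod_range_succ]
    have : p ∣ 2 * 3 := h6
    rcases (Nat.Prime.dvd_mul hp).1 this with h | h
    · have := Nat.le_of_dvd two_pos h; omega
    · have := Nat.le_of_dvd three_pos h; omega

theorem unique_subgroup_of_isFrobAction {A N : Type*} [Group A] [Group N] [Finite N] [Nontrivial N]
    {φ : A →* MulAut N} (hφ : H9.IsFrobAction φ) {p : ℕ} (hp : p.Prime) {P : Subgroup A}
    (hP : IsPGroup p P) (H K : Subgroup P) (hH : Nat.card H = p) (hK : Nat.card K = p) : H = K := by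
  apply map_injective (P.subtype_injective)
  exact hφ.eq_of_card_eq_prime hp hP (map_subtype_le _) (map_subtype_le _)
    (by rw [card_map_of_injective P.subtype_injective, hH])
    (by rw [card_map_of_injective P.subtype_injective, hK])

/-- In a solvable Frobenius complement an element of prime order `p ≥ 5` lies in `O_p`. -/
theorem mem_pCore_of_isFrobAction {A N : Type*} [Group A] [Group N] [Finite N] [Nontrivial N]
    {φ : A →* MulAut N} (hφ : H9.IsFrobAction φ) [Group.IsSolvable A] {p : ℕ} (hp : p.Prime)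
    (h5 : 5 ≤ p) {x : A} (hx : orderOf x = p) : x ∈ pCore p A := by
  have := hφ.finite
  have hxp : x ^ p = 1 := hx ▸ pow_orderOf_eq_one x
  have key : ∀ q : ℕ, q.Prime → pCore q A ≤ centralizer (zpowers x : Set A) := by
    intro q hq
    have hfq : Fact q.Prime := ⟨hq⟩
    have hQ := isPGroup_pCore (G := A) q
    by_cases hqp : q = p
    · subst hqp
      have hx' : IsPGroup q (zpowers x) := H8.isPGroup_zpowers_of_orderOf (k := 1) (by simpa using hx)
      have hR : IsPGroup q (zpowers x ⊔ pCore q A : Subgroup A) := hx'.to_sup_of_normal_right hQ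
      have hc := H3.isCyclic_of_unique (by omega) hR (unique_subgroup_of_isFrobAction hφ hq hR)
      intro y hy z hz
      exact setLike_mul_comm (s := zpowers x ⊔ pCore q A) (mem_sup_left hz) (mem_sup_right hy)
    · rw [le_centralizer_iff]
      by_cases hq2 : q = 2
      · subst hq2
        have h1 : ∃ y : pCore 2 A, (zpowers y).index ∣ 2 := by
          rcases H3.abelian_cyclic_cases hQ (H3.elementary_cyclic_of_unique
            (unique_subgroup_of_isFrobAction hφ hq hQ)) with h | ⟨-, n, y, z, -, -, h, -⟩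
          · obtain ⟨y, hy⟩ := h.exists_generator
            refine ⟨y, ?_⟩
            rw [(eq_top_iff' _).2 hy, index_top]
            exact one_dvd _
          · exact ⟨y, h.dvd⟩
        obtain ⟨y, hy⟩ := h1
        have h2 := not_dvd_card_mulAut_of_index_zpowers hQ hy hp h5
        have h3 : orderOf (MulAut.conjNormal x : MulAut (pCore 2 A)) ∣ p :=
          hx ▸ orderOf_map_dvd _ x
        have h4 : orderOf (MulAut.conjNormal x : MulAut (pCore 2 A)) = 1 := by
          rcases (Nat.dvd_prime hp).1 h3 with h | h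
          · exact h
          · exact absurd (h ▸ orderOf_dvd_natCard _) h2
        rw [zpowers_le, mem_centralizer_iff]
        intro z hz
        have h5 := congrArg (fun φ : MulAut (pCore 2 A) => ((φ ⟨z, hz⟩ : pCore 2 A) : A))
          (orderOf_eq_one_iff.1 h4)
        simp only [MulAut.conjNormal_apply, MulAut.one_apply] at h5
        exact (mul_inv_eq_iff_eq_mul.1 h5).symm
      · have hc := H3.isCyclic_of_unique hq2 hQ (unique_subgroup_of_isFrobAction hφ hq hQ)
        refine H1.le_centralizer_of_abelian_of_prime_order inferInstance le_normalizer_of_normal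
          ?_ ?_
        · obtain ⟨k, hk⟩ := IsPGroup.iff_card.1 hQ
          rw [Nat.card_zpowers, hx, hk]
          exact ((Nat.coprime_primes hp hq).2 (Ne.symm hqp)).pow_right k
        · intro v hv hvp
          have hvq : orderOf v = q := by
            obtain ⟨k, hk⟩ := H8.exists_orderOf_eq_pow_of_mem hQ hv
            exact (Nat.prime_dvd_prime_iff_eq hvp hq).1 (hvp.dvd_of_dvd_pow hk.dvd)
          have h1 : x ∈ normalizer (zpowers v : Set A) := by
            apply mem_normalizer_fintype
            rintro _ ⟨k, rfl⟩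
            simp only
            rw [← conj_zpow]
            refine zpow_mem (hφ.mem_zpowers_of_isPGroup hq hQ hv
              ((inferInstance : (pCore q A).Normal).conj_mem v hv x) hvq ?_) k
            rw [conj_pow, ← hvq, pow_orderOf_eq_one]; simp
          have h2 := hφ.commute_of_normalizes hp hq hvq hxp h1
          rintro _ ⟨k, rfl⟩
          exact (h2.symm.zpow_left k).eq
  have h1 : x ∈ fittingSubgroup A := by
    apply centralizer_fittingSubgroup_le
    have : fittingSubgroup A ≤ centralizer (zpowers x : Set A) := by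
      rw [fittingSubgroup_eq_iSup_pCore]
      exact iSup_le fun q => key q q.2
    exact le_centralizer_iff.1 this (mem_zpowers x)
  exact mem_pCore_of_mem_fittingSubgroup hp (k := 1) (by simpa using hxp) h1

theorem mem_zpowers_of_isFrobAction {A N : Type*} [Group A] [Group N] [Finite N] [Nontrivial N]
    {φ : A →* MulAut N} (hφ : H9.IsFrobAction φ) [Group.IsSolvable A] {p : ℕ} (hp : p.Prime)
    (h5 : 5 ≤ p) {x y : A} (hx : orderOf x = p) (hy : orderOf y = p) : y ∈ zpowers x :=
  have := hφ.finite
  hφ.mem_zpowers_of_isPGroup hp (isPGroup_pCore p) (mem_pCore_of_isFrobAction hφ hp h5 hx)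
    (mem_pCore_of_isFrobAction hφ hp h5 hy) hx (hy ▸ pow_orderOf_eq_one y)

theorem isSolvable_mulAut_of_isCyclic (Z : Type*) [Group Z] [IsCyclic Z] :
    Group.IsSolvable (MulAut Z) :=
  Group.isSolvable_of_isSolvable_injective (f := (IsCyclic.mulAutMulEquiv Z).toMonoidHom)
    (IsCyclic.mulAutMulEquiv Z).injective

/-- A finite group with at most one subgroup of order `p` for every prime `p ≥ 5` is solvable. -/
theorem isSolvable_of_forall_mem_zpowers (G : Type u) [Group G] [Finite G]
    (h : ∀ p : ℕ, p.Prime → 5 ≤ p → ∀ x y : G, orderOf x = p → orderOf y = p → y ∈ zpowers x) :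
    Group.IsSolvable G := by
  revert h
  refine induction_on_card (P := fun G _ _ => (∀ p : ℕ, p.Prime → 5 ≤ p → ∀ x y : G,
    orderOf x = p → orderOf y = p → y ∈ zpowers x) → Group.IsSolvable G) G ?_
  intro G _ _ ih h
  have hsub : ∀ D : Subgroup G, D ≠ ⊤ → Group.IsSolvable D := by
    intro D hD
    refine ih D (card_lt_of_ne_top hD) fun p hp h5 x y hx hy => ?_
    obtain ⟨k, hk⟩ := h p hp h5 x y (by simpa using hx) (by simpa using hy)
    exact ⟨k, Subtype.ext (by simpa using hk)⟩
  by_cases h23 : ∀ r : ℕ, r.Prime → r ∣ Nat.card G → r = 2 ∨ r = 3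
  · exact H6.isSolvable_of_primes_two 2 3 h23
  push Not at h23
  obtain ⟨p, hp, hd, h2, h3⟩ := h23
  have h5 : 5 ≤ p := hp.five_le_of_ne_two_of_ne_three h2 h3
  have hfp : Fact p.Prime := ⟨hp⟩
  obtain ⟨z, hz⟩ := exists_prime_orderOf_dvd_card' p hd
  have hZ : (zpowers z).Normal := ⟨by
    rintro _ ⟨k, rfl⟩ g
    simp only
    rw [← conj_zpow]
    refine zpow_mem (h p hp h5 z _ hz ?_) k
    rw [← hz]
    simpa using (MulAut.conj g).orderOf_eq z⟩
  by_cases hD : (MulAut.conjNormal : G →* MulAut (zpowers z)).ker = ⊤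
  · have hzc : ∀ g : G, g * z = z * g := by
      intro g
      have h1 : g ∈ (MulAut.conjNormal : G →* MulAut (zpowers z)).ker := hD ▸ mem_top g
      have h5 := congrArg (fun φ : MulAut (zpowers z) =>
        ((φ ⟨z, mem_zpowers z⟩ : zpowers z) : G)) (MonoidHom.mem_ker.1 h1)
      simp only [MulAut.conjNormal_apply, MulAut.one_apply] at h5
      exact mul_inv_eq_iff_eq_mul.1 h5
    obtain ⟨P⟩ : Nonempty (Sylow p G) := inferInstance
    have hc : IsCyclic P := by
      refine H3.isCyclic_of_unique h2 P.isPGroup' fun H K hH hK => ?_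
      have key : ∀ H : Subgroup P, Nat.card H = p → H.map (P : Subgroup G).subtype = zpowers z := by
        intro H hH
        refine H1.eq_of_le_of_card_le ?_ (by
          rw [card_map_of_injective (P : Subgroup G).subtype_injective, hH, Nat.card_zpowers, hz])
        rintro _ ⟨y, hy, rfl⟩
        rcases (Nat.dvd_prime hp).1 (hH ▸ H.orderOf_dvd_natCard hy) with h1 | h1
        · rw [orderOf_eq_one_iff.1 h1, map_one]; exact one_mem _
        · exact h p hp h5 z _ hz (by simpa using h1)
      exact map_injective (P : Subgroup G).subtype_injective ((key H hH).trans (key K hK).symm)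
    have hNC : normalizer ((P : Subgroup G) : Set G) ≤ centralizer ((P : Subgroup G) : Set G) := by
      refine H1.le_of_forall_isPGroup_le fun r hr R hR hRr _ => ?_
      by_cases hrp : r = p
      · subst hrp
        have h1 : R ≤ P := by
          have := hRr.inf_normalizer_sylow P
          exact inf_eq_left.1 (this.symm.trans (inf_eq_left.2 hR))
        exact h1.trans (le_centralizer _)
      · have hfr : Fact r.Prime := ⟨hr⟩
        refine H1.le_centralizer_of_abelian_of_prime_order inferInstance hR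
          (IsPGroup.coprime_card_of_ne r p hrp R (P : Subgroup G) hRr P.isPGroup') fun v hv hvp => ?_
        have hvq : orderOf v = p := by
          obtain ⟨k, hk⟩ := H8.exists_orderOf_eq_pow_of_mem P.isPGroup' hv
          exact (Nat.prime_dvd_prime_iff_eq hvp hp).1 (hvp.dvd_of_dvd_pow hk.dvd)
        obtain ⟨k, rfl⟩ := h p hp h5 z v hz hvq
        intro g _
        exact (Commute.zpow_right (hzc g) k).eq
    obtain ⟨N, hN, hN1, k, hk⟩ := H8.hasNPC_iff_exists.1 (H8.hasNPC_of_normalizer_le_centralizer P hNC)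
    have hNt : N ≠ ⊤ := by
      rintro rfl
      rw [card_top] at hN1
      exact hp.one_lt.ne' (Nat.eq_one_of_dvd_coprimes hN1 hd dvd_rfl)
    have := hsub N hNt
    have : Group.IsSolvable (G ⧸ N) :=
      H1.isSolvable_of_isPGroup (H8.isPGroup_quotient_iff_index.2 ⟨k, hk⟩)
    exact Group.isSolvable_of_ker_le_range N.subtype (QuotientGroup.mk' N) (by simp)
  · have := hsub _ hD
    have := isSolvable_mulAut_of_isCyclic (zpowers z)
    exact Group.isSolvable_of_ker_le_range (MulAut.conjNormal : G →* MulAut (zpowers z)).ker.subtype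
      MulAut.conjNormal (by rw [range_subtype])

theorem orderOf_mul_of_frob {G : Type*} [Group G] [Finite G] {H K : Subgroup G}
    (hH : IsFrobeniusComplement H) (hK : frobeniusKernel H = (K : Set G)) {x k : G} (hx : x ∉ K)
    (hk : k ∈ K) : orderOf (k * x) = orderOf x := by
  have := H9.normal_of_frobeniusKernel_eq hK
  obtain ⟨m, -, hm⟩ := H9.exists_conj_eq_mul_of_fpf (N := K) (x := x)
    (le_normalizer_of_normal (mem_top x))
    (fun k hk hc => H9.frob_kernel_eq_one_of_commute hH hK hx hk hc) hk
  rw [← hm]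
  simpa using (MulAut.conj m).orderOf_eq x

theorem card_orderOf_eq_mul_of_frob {G : Type*} [Group G] [Finite G] {H K : Subgroup G}
    (hH : IsFrobeniusComplement H) (hK : frobeniusKernel H = (K : Set G)) {m : ℕ} (hm1 : m ≠ 1)
    (hm : m.Coprime (Nat.card K)) :
    Nat.card {g : G // orderOf g = m} = Nat.card K * Nat.card {h : H // orderOf h = m} := by
  have hc := H9.frob_isComplement' hH hK
  have hnot : ∀ x : G, orderOf x = m → x ∉ K := fun x hx hxK =>
    hm1 (Nat.eq_one_of_dvd_coprimes hm dvd_rfl (hx ▸ K.orderOf_dvd_natCard hxK))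
  rw [← Nat.card_prod]
  symm
  refine Nat.card_eq_of_bijective (fun x : K × {h : H // orderOf h = m} =>
    (⟨x.1 * x.2.1, by
      have h1 : orderOf (x.2.1 : G) = m := by simpa using x.2.2
      rw [orderOf_mul_of_frob hH hK (hnot _ h1) x.1.2, h1]⟩ : {g : G // orderOf g = m})) ⟨?_, ?_⟩
  · rintro ⟨k, h, hh⟩ ⟨k', h', hh'⟩ heq
    have h1 : (k : G) * h = k' * h' := congrArg Subtype.val heq
    have := hc.1 (a₁ := (k, h)) (a₂ := (k', h')) h1
    simp only [Prod.mk.injEq] at this
    obtain ⟨rfl, rfl⟩ := this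
    rfl
  · rintro ⟨g, hg⟩
    obtain ⟨⟨k, h⟩, rfl⟩ := hc.2 g
    have h1 : (h : G) ∉ K := fun hh => hnot _ hg (K.mul_mem k.2 hh)
    have h2 : orderOf (show H from h) = m := by
      rw [← Subgroup.orderOf_coe, ← orderOf_mul_of_frob hH hK h1 k.2]; exact hg
    exact ⟨(k, ⟨h, h2⟩), rfl⟩

theorem card_zpowers_diff_one {G : Type*} [Group G] [Finite G] (x : G) :
    ((zpowers x : Set G) \ {1}).ncard = orderOf x - 1 := by
  rw [Set.ncard_sdiff_singleton_of_mem (one_mem _), ← Nat.card_coe_set_eq, SetLike.coe_sort_coe,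
    Nat.card_zpowers]

theorem card_orderOf_le_iff {G : Type*} [Group G] [Finite G] {p : ℕ} (hp : p.Prime) :
    Nat.card {g : G // orderOf g = p} ≤ p - 1 ↔
      ∀ x y : G, orderOf x = p → orderOf y = p → y ∈ zpowers x := by
  have h0 : Nat.card {g : G // orderOf g = p} = {g : G | orderOf g = p}.ncard :=
    Nat.card_coe_set_eq _
  rw [h0]
  constructor
  · intro h x y hx hy
    have hsub : (zpowers x : Set G) \ {1} ⊆ {g : G | orderOf g = p} := by
      rintro g ⟨hg, hg1⟩
      have : orderOf g ∣ p := by
        rw [← hx, ← Nat.card_zpowers x]; exact (zpowers x).orderOf_dvd_natCard hg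
      rcases (Nat.dvd_prime hp).1 this with h1 | h1
      · exact absurd (orderOf_eq_one_iff.1 h1) hg1
      · exact h1
    have := Set.eq_of_subset_of_ncard_le hsub (by rw [card_zpowers_diff_one, hx]; exact h)
    exact ((Set.ext_iff.1 this y).2 hy).1
  · intro h
    rcases Set.eq_empty_or_nonempty {g : G | orderOf g = p} with h1 | ⟨x, hx⟩
    · rw [h1]; simp
    · have hx' : orderOf x = p := hx
      rw [← hx', ← card_zpowers_diff_one]
      refine Set.ncard_le_ncard (fun y hy => ⟨h x y hx' (hy.trans hx'), fun h1 => ?_⟩)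
      have : orderOf y = orderOf x := hy
      rw [Set.mem_singleton_iff.1 h1, orderOf_one, hx'] at this
      exact hp.one_lt.ne this

/-- Solvability passes between Frobenius groups of the same order type. -/
theorem isSolvable_of_frob_of_equiv {F G : Type*} [Group F] [Finite F] [Group G] [Finite G]
    (e : F ≃ G) (he : ∀ g, orderOf (e g) = orderOf g) {C K : Subgroup F}
    (hC : IsFrobeniusComplement C) (hK : frobeniusKernel C = (K : Set F)) {D L : Subgroup G}
    (hD : IsFrobeniusComplement D) (hL : frobeniusKernel D = (L : Set G))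
    (hKL : Nat.card K = Nat.card L) [Group.IsSolvable F] : Group.IsSolvable G := by
  have hKn := H9.normal_of_frobeniusKernel_eq hK
  have hLn := H9.normal_of_frobeniusKernel_eq hL
  have hKt : Nontrivial K := (nontrivial_iff_ne_bot K).2 (H9.frob_kernel_ne_bot hC hK)
  have hDs : Group.IsSolvable D := by
    refine isSolvable_of_forall_mem_zpowers D fun p hp h5 x y hx hy => ?_
    have h1 : p.Coprime (Nat.card L) :=
      ((H9.frob_coprime_kernel hD hL).coprime_dvd_right (hx ▸ orderOf_dvd_natCard x)).symm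
    refine (card_orderOf_le_iff hp).1 ?_ x y hx hy
    have h2 := card_orderOf_eq_of_equiv e he (· = p)
    rw [card_orderOf_eq_mul_of_frob hC hK hp.one_lt.ne' (hKL ▸ h1),
      card_orderOf_eq_mul_of_frob hD hL hp.one_lt.ne' h1, hKL] at h2
    rw [← Nat.eq_of_mul_eq_mul_left Nat.card_pos h2]
    exact (card_orderOf_le_iff hp).2 fun x y hx hy =>
      mem_zpowers_of_isFrobAction (H9.frob_isFrobAction hC hK) hp h5 hx hy
  have hLs : Group.IsSolvable L := by
    have := H5.isNilpotent_frobeniusKernel hD hL
    infer_instance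
  have := isSolvable_sup_of_normal hDs hLs
  rw [sup_comm, H9.frob_kernel_sup hD hL] at this
  exact Group.isSolvable_of_surjective (f := (⊤ : Subgroup G).subtype) fun x => ⟨⟨x, trivial⟩, rfl⟩

/-- A nilpotent normal Hall subgroup passes to a group of the same order type. -/
theorem isPiHall_piCore_of_equiv {F G : Type*} [Group F] [Finite F] [Group G] [Finite G]
    (e : F ≃ G) (he : ∀ g, orderOf (e g) = orderOf g) {π : Set ℕ} {K : Subgroup F} [K.Normal]
    (hK : IsPiHall π K) (hn : Group.IsNilpotent K) : IsPiHall π (piCore π G) := by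
  refine ⟨isPiSubgroup_piCore π, fun q hq hπ hd => ?_⟩
  have hfq : Fact q.Prime := ⟨hq⟩
  obtain ⟨P⟩ : Nonempty (Sylow q F) := inferInstance
  obtain ⟨Q⟩ : Nonempty (Sylow q G) := inferInstance
  have h1 : (P : Subgroup F) ≤ K := fun x hx => by
    refine mem_of_normal_isPiHall hK fun r hr hd => ?_
    obtain ⟨k, hk⟩ := H8.exists_orderOf_eq_pow_of_mem P.isPGroup' hx
    rw [(Nat.prime_dvd_prime_iff_eq hr hq).1 (hr.dvd_of_dvd_pow (hk ▸ hd))]
    exact hπ
  have h2 : (P : Subgroup F) = pCore q F := le_antisymm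
    (le_pCore_of_le_fittingSubgroup hq P.isPGroup' (h1.trans (le_fittingSubgroup ‹_› hn)))
    (pCore_le_sylow P)
  have h3 : (P : Subgroup F).Normal := h2 ▸ inferInstance
  have h4 := normal_of_isPiHall_of_equiv e he (isPiHall_sylow P) (isPiHall_sylow Q)
  have h5 : (Q : Subgroup G) ≤ piCore π G := le_piCore h4 fun r hr hd => by
    rw [Set.mem_singleton_iff.1 ((isPiHall_sylow Q).1 r hr hd)]; exact hπ
  exact Q.not_dvd_index (hd.trans (index_dvd_of_le h5))

end Cfsg.Agent.H4
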