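import Cfsg.Agent.H4.SL2Cent
import Cfsg.Agent.H9.ClassSize
import Cfsg.Agent.H1.Section

/-! Redundant Sylow subgroups. -/

set_option autoImplicit false
set_option linter.unusedSectionVars false

namespace Cfsg.Agent.H4

open Subgroup Pointwise

/-- `G` has a redundant Sylow `p`-subgroup. -/
def Red (p : ℕ) (G : Type*) [Group G] : Prop :=
  ∃ Q : Sylow p G, ∀ x : G, (∃ k : ℕ, orderOf x = p ^ k) → ∃ P : Sylow p G, P ≠ Q ∧ x ∈ P

variable {G : Type*} [Group G] [Finite G] {p : ℕ} [hp : Fact p.Prime]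

theorem exists_orderOf_of_mem {K : Subgroup G} (hK : IsPGroup p K) {x : G} (hx : x ∈ K) :
    ∃ k, orderOf x = p ^ k := by
  obtain ⟨k, hk⟩ := IsPGroup.iff_orderOf.1 hK ⟨x, hx⟩
  exact ⟨k, by rw [← hk, orderOf_mk]⟩

theorem not_red_of_unique {x : G} (hx : ∃ k, orderOf x = p ^ k)
    (h : ∀ P Q : Sylow p G, x ∈ P → x ∈ Q → P = Q) : ¬ Red p G := by
  rintro ⟨Q, hQ⟩
  obtain ⟨k, hk⟩ := hx
  obtain ⟨R, hR⟩ := (H8.isPGroup_zpowers_of_orderOf hk).exists_le_sylow
  obtain ⟨g, rfl⟩ := MulAction.exists_smul_eq G R Q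
  obtain ⟨P, hP, hxP⟩ := hQ (g * x * g⁻¹) ⟨k, by
    rw [← MulAut.conj_apply, MulEquiv.orderOf_eq, hk]⟩
  apply hP
  rw [← h (g⁻¹ • P) R ?_ (hR (mem_zpowers x)), smul_inv_smul]
  change x ∈ MulAut.conj g⁻¹ • (P : Subgroup G)
  rw [mem_pointwise_smul_iff_inv_smul_mem, ← map_inv, inv_inv]
  exact hxP

theorem red_of_forall (h : ∀ x : G, (∃ k, orderOf x = p ^ k) →
    ∃ P Q : Sylow p G, P ≠ Q ∧ x ∈ P ∧ x ∈ Q) : Red p G := by
  obtain ⟨Q⟩ : Nonempty (Sylow p G) := inferInstance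
  refine ⟨Q, fun x hx => ?_⟩
  obtain ⟨P, R, hne, h1, h2⟩ := h x hx
  by_cases e : P = Q
  · exact ⟨R, fun e' => hne (e.trans e'.symm), h2⟩
  · exact ⟨P, e, h1⟩

theorem red_quotient_iff {Z : Subgroup G} [Z.Normal] (hZ : Z ≤ center G) :
    Red p (G ⧸ Z) ↔ Red p G := by
  have hs := QuotientGroup.mk'_surjective Z
  have key : ∀ (P : Sylow p G) (x : G), (∃ k, orderOf x = p ^ k) →
      (x : G ⧸ Z) ∈ P.mapSurjective hs → x ∈ P := by
    rintro P x ⟨k, hk⟩ ⟨y, hy, e⟩
    refine H9.mem_sylow_of_mem_normalizer P hk ?_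
    have h1 : y⁻¹ * x ∈ Z := QuotientGroup.eq.1 e
    rw [show x = y * (y⁻¹ * x) by group]
    exact mul_mem (le_normalizer hy) (center_le_normalizer _ (hZ h1))
  constructor
  · rintro ⟨Q, hQ⟩
    obtain ⟨Q, rfl⟩ := Sylow.mapSurjective_surjective hs p Q
    refine ⟨Q, fun x hx => ?_⟩
    obtain ⟨k, hk⟩ := hx
    obtain ⟨P, hP, hxP⟩ := hQ x (by
      obtain ⟨j, -, hj⟩ := (Nat.dvd_prime_pow hp.out).1
        (hk ▸ orderOf_map_dvd (QuotientGroup.mk' Z) x)
      exact ⟨j, hj⟩)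
    obtain ⟨P, rfl⟩ := Sylow.mapSurjective_surjective hs p P
    exact ⟨P, fun e => hP (by rw [e]), key P x ⟨k, hk⟩ hxP⟩
  · rintro ⟨Q, hQ⟩
    refine ⟨Q.mapSurjective hs, fun x hx => ?_⟩
    obtain ⟨k, hk⟩ := hx
    obtain ⟨R, hR⟩ := (H8.isPGroup_zpowers_of_orderOf hk).exists_le_sylow
    obtain ⟨R, rfl⟩ := Sylow.mapSurjective_surjective hs p R
    obtain ⟨y, hy, rfl⟩ := hR (mem_zpowers x)
    obtain ⟨P, hP, hyP⟩ := hQ y (exists_orderOf_of_mem R.isPGroup' hy)
    refine ⟨P.mapSurjective hs, fun e => hP ?_, ⟨y, hyP, rfl⟩⟩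
    refine Sylow.ext (P.is_maximal' Q.isPGroup' fun z hz => ?_).symm
    exact key Q z (exists_orderOf_of_mem P.isPGroup' hz) (e ▸ ⟨z, hz, rfl⟩)

theorem sylow_eq_of_le {K : Subgroup G} (hK : IsPGroup p K) {P Q : Sylow p G}
    (h1 : (P : Subgroup G) ≤ K) (h2 : (Q : Subgroup G) ≤ K) : P = Q :=
  Sylow.ext ((P.is_maximal' hK h1).symm.trans (Q.is_maximal' hK h2))

/-- If `x` lies in a unique Sylow subgroup, that subgroup is normalized by `C(x)`. -/
theorem mem_normalizer_of_unique {x c : G} {Q : Sylow p G} (hx : x ∈ Q)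
    (h : ∀ P : Sylow p G, x ∈ P → P = Q) (hc : Commute c x) :
    c ∈ normalizer ((Q : Subgroup G) : Set G) := by
  refine Sylow.smul_eq_iff_mem_normalizer.1 (h _ ⟨x, hx, ?_⟩)
  change c * x * c⁻¹ = x
  rw [hc.eq, mul_inv_cancel_right]

theorem le_of_unique {x : G} {Q : Sylow p G} (h : ∀ P : Sylow p G, x ∈ P → P = Q)
    {K : Subgroup G} (hK : IsPGroup p K) (hx : x ∈ K) : K ≤ Q := by
  obtain ⟨R, hR⟩ := hK.exists_le_sylow
  exact h R (hR hx) ▸ hR

namespace SL2

variable {F : Type*} [Field F] [Finite F]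

theorem not_red_of_center (h : ∀ x ∈ center (SL F), (∃ k, orderOf x = p ^ k) → x = 1) :
    ¬ Red p (SL F) := by
  have hab : ∀ K : Subgroup (SL F), IsPGroup p K → IsMulCommutative K := by
    intro K hK
    rcases K.bot_or_nontrivial with rfl | hK1
    · infer_instance
    have := hK.center_nontrivial
    obtain ⟨z, hz⟩ := exists_ne (1 : center K)
    have hzc : (z.1.1 : SL F) ∉ center (SL F) := fun hc =>
      hz (Subtype.ext (Subtype.ext (h _ hc (exists_orderOf_of_mem hK z.1.2))))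
    have := isMulCommutative_centralizer hzc
    have hle : K ≤ centralizer {z.1.1} := fun y hy => mem_centralizer_singleton_iff.2
      (congrArg Subtype.val (mem_center_iff.1 z.2 ⟨y, hy⟩))
    exact .of_setLike_mul_comm fun a ha b hb => setLike_mul_comm (hle ha) (hle hb)
  obtain ⟨P⟩ : Nonempty (Sylow p (SL F)) := inferInstance
  rcases (P : Subgroup (SL F)).bot_or_exists_ne_one with hb | ⟨x, hx, hx1⟩
  · refine not_red_of_unique (x := 1) ⟨0, by simp⟩ fun Q R _ _ => ?_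
    have : ∀ Q : Sylow p (SL F), (Q : Subgroup (SL F)) = ⊥ := fun Q => by
      rw [← card_eq_one, Sylow.card_eq_multiplicity, ← P.card_eq_multiplicity, hb, card_bot]
    exact Sylow.ext ((this Q).trans (this R).symm)
  · have hxo := exists_orderOf_of_mem P.isPGroup' hx
    refine not_red_of_unique hxo fun Q R hQ hR => ?_
    have := isMulCommutative_centralizer fun hc => hx1 (h x hc hxo)
    have key : ∀ Q : Sylow p (SL F), x ∈ Q → (Q : Subgroup (SL F)) ≤ centralizer {x} :=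
      fun Q hQ y hy => by
        have := hab _ Q.isPGroup'
        exact mem_centralizer_singleton_iff.2 (setLike_mul_comm (s := (Q : Subgroup (SL F))) hy hQ)
    refine sylow_eq_of_le (Q.isPGroup'.to_sup_of_normal_right' R.isPGroup' ?_) le_sup_left
      le_sup_right
    refine le_trans (fun a ha => mem_centralizer_iff.2 fun b hb => ?_) (centralizer_le_normalizer _)
    exact setLike_mul_comm (key R hR hb) (key Q hQ ha)

/-- The element of order four. -/
def y4 (F : Type*) [Field F] : SL F := L.mkSL2 0 (-1) 1 0 (by ring)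

theorem tr_y4 : tr (y4 F) = 0 := by simp [tr, y4, L.mkSL2]

theorem y4_not_mem : y4 F ∉ center (SL F) := by
  rw [mem_center_iff']; simp [y4, L.mkSL2]

theorem y4_pow : y4 F ^ 2 ^ 2 = 1 := by
  have : y4 F * y4 F ∈ center (SL F) := by
    rw [mem_center_iff', Matrix.SpecialLinearGroup.coe_mul]
    simp [y4, L.mkSL2]
  rw [sq (2 : ℕ), pow_mul, sq (y4 F), sq_eq_one_of_mem_center this]

theorem not_red_two (hq : Nat.card F % 2 = 1)
    (h : (∃ k, Nat.card F + 1 = 2 ^ k) ∨ ∃ k, Nat.card F = 2 ^ k + 1) : ¬ Red 2 (SL F) := by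
  have h2 := two_ne_zero_of_odd hq
  have h1 : 1 < Nat.card F := Finite.one_lt_card
  have ht : tr (y4 F) ^ 2 ≠ 4 := by
    rw [tr_y4]; intro e; exact mul_ne_zero h2 h2 (by linear_combination -e)
  obtain ⟨hcyc, hc⟩ := centralizer_cases hq y4_not_mem ht
  rw [tr_y4] at hc
  have hsq : (∃ r : F, r ^ 2 = -1 + 0 * r) ↔ Nat.card F % 4 ≠ 3 := by
    have := Fintype.ofFinite F
    rw [Nat.card_eq_fintype_card, ← FiniteField.isSquare_neg_one_iff]
    exact exists_congr fun r => by rw [zero_mul, add_zero, sq, eq_comm]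
  obtain ⟨T, hT⟩ : ∃ T, T = centralizer ({y4 F} : Set (SL F)) := ⟨_, rfl⟩
  rw [← hT] at hcyc hc
  obtain ⟨k, o, hk, ho, hG⟩ : ∃ k o, Nat.card T = 2 ^ k ∧ Odd o ∧
      Nat.card (SL F) = 2 ^ (k + 1) * o := by
    have hodd : Odd (Nat.card F) := Nat.odd_iff.2 hq
    have four : ∀ k, 2 ≤ k → 2 ^ k % 4 = 0 := fun k hk => by
      obtain ⟨j, rfl⟩ := Nat.exists_eq_add_of_le hk
      rw [pow_add]; omega
    have small : ∀ k, ¬ 2 ≤ k → 2 ^ k = 1 ∨ 2 ^ k = 2 := fun k hk => by
      have : k = 0 ∨ k = 1 := by omega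
      rcases this with rfl | rfl <;> simp
    rw [L.card_SL2]
    by_cases h3 : Nat.card F % 4 = 3
    · have hc' : Nat.card T = Nat.card F + 1 := (hc.resolve_left fun e => hsq.1 e.1 h3).2
      obtain ⟨k, hk⟩ : ∃ k, Nat.card F + 1 = 2 ^ k := by
        rcases h with h | ⟨k, hk⟩
        · exact h
        · by_cases h4 : 2 ≤ k
          · have := four k h4; omega
          · exact ⟨2, by have := small k h4; omega⟩
      refine ⟨k, Nat.card F * ((Nat.card F - 1) / 2), hc'.trans hk,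
        hodd.mul (Nat.odd_iff.2 (by omega)), ?_⟩
      rw [pow_succ, ← hk]
      obtain ⟨m, hm⟩ : ∃ m, Nat.card F - 1 = 2 * m := ⟨(Nat.card F - 1) / 2, by omega⟩
      rw [hm, Nat.mul_div_cancel_left _ two_pos]; ring
    · have hc' : Nat.card T = Nat.card F - 1 :=
        (hc.resolve_right fun e => by obtain ⟨r, hr⟩ := hsq.2 h3; exact e.1 r hr).2
      obtain ⟨k, hk⟩ : ∃ k, Nat.card F - 1 = 2 ^ k := by
        rcases h with ⟨k, hk⟩ | ⟨k, hk⟩
        · by_cases h4 : 2 ≤ k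
          · have := four k h4; omega
          · have := small k h4; omega
        · exact ⟨k, by omega⟩
      refine ⟨k, Nat.card F * ((Nat.card F + 1) / 2), hc'.trans hk,
        hodd.mul (Nat.odd_iff.2 (by omega)), ?_⟩
      rw [pow_succ, ← hk]
      obtain ⟨m, hm⟩ : ∃ m, Nat.card F + 1 = 2 * m := ⟨(Nat.card F + 1) / 2, by omega⟩
      rw [hm, Nat.mul_div_cancel_left _ two_pos]; ring
  have hTp : IsPGroup 2 T := IsPGroup.of_card hk
  obtain ⟨x, hx⟩ := (isCyclic_iff_exists_zpowers_eq_top).1 hcyc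
  have hxT : zpowers (x : SL F) = T := by
    have := congrArg (map T.subtype) hx
    rwa [MonoidHom.map_zpowers, ← MonoidHom.range_eq_map, range_subtype] at this
  have hy : y4 F ∈ T := hT ▸ mem_centralizer_singleton_iff.2 rfl
  have hN : IsPGroup 2 (normalizer (T : Set (SL F))) := by
    have e1 : IsPGroup 2 (MulAut T) := by
      refine IsPGroup.of_card (n := k - 1) ?_
      rw [IsCyclic.card_mulAut, hk]
      rcases k with _ | k
      · simp
      · rw [Nat.totient_prime_pow_succ Nat.prime_two]; simp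
    have e2 := (e1.to_subgroup ⊤).comap_of_ker_isPGroup (H1.conjAut (le_refl _)) (by
      rw [H1.ker_conjAut]
      refine IsPGroup.comap_subtype (hTp.to_le fun a ha => ?_)
      rw [hT]
      exact mem_centralizer_singleton_iff.2 (mem_centralizer_iff.1 ha _ hy).symm)
    rw [comap_top] at e2
    exact e2.of_equiv topEquiv
  have key : ∀ P : Sylow 2 (SL F), (x : SL F) ∈ P →
      (P : Subgroup (SL F)) ≤ normalizer (T : Set (SL F)) := by
    intro P hP
    have hle : T ≤ P := hxT ▸ zpowers_le.2 hP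
    rw [← normal_subgroupOf_iff_le_normalizer hle]
    have e1 := (T.subgroupOf P).index_mul_card
    rw [Nat.card_congr (subgroupOfEquivOfLe hle).toEquiv, hk, P.card_eq_multiplicity, hG,
      Nat.factorization_mul (by positivity) ho.pos.ne', Finsupp.add_apply,
      Nat.factorization_eq_zero_of_not_dvd ho.not_two_dvd_nat, Nat.prime_two.factorization_pow,
      Finsupp.single_eq_same, add_zero, pow_succ'] at e1
    exact normal_of_index_eq_two (Nat.eq_of_mul_eq_mul_right (by positivity) e1)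
  exact not_red_of_unique (exists_orderOf_of_mem hTp x.2) fun P Q hP hQ =>
    sylow_eq_of_le hN (key P hP) (key Q hQ)

theorem red_two (hq : Nat.card F % 2 = 1) (h1 : ¬ ∃ k, Nat.card F + 1 = 2 ^ k)
    (h2 : ¬ ∃ k, Nat.card F = 2 ^ k + 1) : Red 2 (SL F) := by
  have h0 := two_ne_zero_of_odd hq
  have hF : 1 < Nat.card F := Finite.one_lt_card
  have main : ∀ x : SL F, x ∉ center (SL F) → (∃ k, orderOf x = 2 ^ k) →
      ∃ P Q : Sylow 2 (SL F), P ≠ Q ∧ x ∈ P ∧ x ∈ Q := by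
    rintro x hx ⟨k, hk⟩
    have ht : tr x ^ 2 ≠ 4 := fun e => hx (mem_center_of_tr e (n := 2 ^ k)
      (by push_cast; exact pow_ne_zero _ h0) h0 (hk ▸ pow_orderOf_eq_one x))
    obtain ⟨-, hc⟩ := centralizer_cases hq hx ht
    obtain ⟨w, hw⟩ := exists_inverting hq ht
    obtain ⟨r, hr, hd, hr2⟩ : ∃ r, r.Prime ∧ r ∣ Nat.card (centralizer ({x} : Set (SL F))) ∧
        r ≠ 2 := by
      by_contra hn
      push Not at hn
      have := Nat.eq_prime_pow_of_unique_prime_dvd Nat.card_pos.ne' fun {d} a b => hn d a b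
      rcases hc with ⟨-, e⟩ | ⟨-, e⟩
      · rw [e] at this; exact h2 ⟨_, (Nat.sub_eq_iff_eq_add hF.le).1 this⟩
      · rw [e] at this; exact h1 ⟨_, this⟩
    have := Fact.mk hr
    obtain ⟨c, hc⟩ := exists_prime_orderOf_dvd_card' r hd
    have hz := H8.isPGroup_zpowers_of_orderOf hk
    obtain ⟨Q, hQ⟩ := hz.exists_le_sylow
    by_contra hn
    have hu : ∀ P : Sylow 2 (SL F), x ∈ P → P = Q := fun P hP => by
      by_contra hne
      exact hn ⟨P, Q, hne, hP, hQ (mem_zpowers x)⟩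
    have hcN := mem_normalizer_of_unique (hQ (mem_zpowers x)) hu
      (mem_centralizer_singleton_iff.1 c.2)
    have hw2 : w * w ∈ centralizer ({x} : Set (SL F)) := by
      rw [mem_centralizer_singleton_iff]
      calc w * w * x = w * (w * x * w⁻¹) * w := by group
        _ = w * x⁻¹ * w := by rw [hw]
        _ = (w * x * w⁻¹)⁻¹ * (w * w) := by group
        _ = x * (w * w) := by rw [hw, inv_inv]
    have hw4 : w ^ 2 ^ 2 = 1 := by
      have := conj_eq_inv hx hw hw2
      calc w ^ 2 ^ 2 = w * (w * w) * w⁻¹ * (w * w) := by simp [pow_succ, mul_assoc]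
        _ = 1 := by rw [this, inv_mul_cancel]
    obtain ⟨j, -, hj⟩ := (Nat.dvd_prime_pow Nat.prime_two).1 (orderOf_dvd_of_pow_eq_one hw4)
    have hwQ : w ∈ Q := le_of_unique hu ((H8.isPGroup_zpowers_of_orderOf hj).to_sup_of_normal_right'
      hz (by
        rw [zpowers_le]
        refine mem_normalizer_fintype ?_
        rintro _ ⟨i, rfl⟩
        rw [← conj_zpow, hw]
        exact zpow_mem (inv_mem (mem_zpowers x)) i)) (mem_sup_right (mem_zpowers x))
      (mem_sup_left (mem_zpowers w))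
    have h3 : (c : SL F) ^ 2 ∈ Q := by
      have e1 := mul_mem ((mem_normalizer_iff.1 hcN w).1 hwQ) (inv_mem hwQ)
      have e2 := conj_eq_inv hx hw (inv_mem c.2)
      rwa [show (c : SL F) * w * (c : SL F)⁻¹ * w⁻¹ = c * (w * (c : SL F)⁻¹ * w⁻¹) by group, e2,
        inv_inv, ← sq] at e1
    obtain ⟨i, hi⟩ := exists_orderOf_of_mem Q.isPGroup' h3
    rw [Nat.Coprime.orderOf_pow (by
      rw [orderOf_coe, hc]; exact (Nat.coprime_primes hr Nat.prime_two).2 hr2), orderOf_coe, hc] at hi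
    exact hr2 ((Nat.prime_dvd_prime_iff_eq hr Nat.prime_two).1 (hr.dvd_of_dvd_pow hi.dvd))
  refine red_of_forall fun x hx => ?_
  by_cases hc : x ∈ center (SL F)
  · obtain ⟨j, -, hj⟩ := (Nat.dvd_prime_pow Nat.prime_two).1
      (orderOf_dvd_of_pow_eq_one (y4_pow (F := F)))
    obtain ⟨P, Q, hne, -, -⟩ := main _ y4_not_mem ⟨j, hj⟩
    obtain ⟨k, hk⟩ := hx
    exact ⟨P, Q, hne, H9.mem_sylow_of_mem_normalizer P hk (center_le_normalizer _ hc),
      H9.mem_sylow_of_mem_normalizer Q hk (center_le_normalizer _ hc)⟩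
  · exact main x hc hx

theorem red_iff : Red p (SL F) ↔ (p = 2 ∧ (¬ ∃ k : ℕ, Nat.card F + 1 = 2 ^ k) ∧
    (¬ ∃ k : ℕ, Nat.card F = 2 ^ k) ∧ ¬ ∃ k : ℕ, Nat.card F = 2 ^ k + 1) := by
  classical
  have := Fintype.ofFinite F
  have hF : 1 < Nat.card F := Finite.one_lt_card
  by_cases hp2 : p = 2
  · subst hp2
    by_cases hq : Nat.card F % 2 = 1
    · have h3 : ¬ ∃ k : ℕ, Nat.card F = 2 ^ k := by
        rintro ⟨k, hk⟩
        rcases k with _ | k
        · omega
        · rw [pow_succ] at hk; omega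
      refine ⟨fun h => ⟨rfl, fun e => not_red_two hq (Or.inl e) h, h3,
        fun e => not_red_two hq (Or.inr e) h⟩, fun h => red_two hq h.2.1 h.2.2.2⟩
    · have hc : ringChar F = 2 := by
        rw [FiniteField.even_card_iff_char_two, ← Nat.card_eq_fintype_card]; omega
      have : CharP F 2 := hc ▸ ringChar.charP F
      refine iff_of_false (not_red_of_center fun x hx _ => ?_) fun h => h.2.2.1 ?_
      · rwa [L.center_SL2_eq_bot, mem_bot] at hx
      · obtain ⟨n, -, hn⟩ := FiniteField.card F 2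
        exact ⟨n, by rw [Nat.card_eq_fintype_card, hn]⟩
  · refine iff_of_false (not_red_of_center fun x hx ⟨k, hk⟩ => ?_) fun h => hp2 h.1
    have h1 := orderOf_dvd_of_pow_eq_one (sq_eq_one_of_mem_center hx)
    rcases (Nat.dvd_prime Nat.prime_two).1 h1 with h2 | h2
    · exact orderOf_eq_one_iff.1 h2
    · rw [hk] at h2
      exact absurd ((Nat.prime_dvd_prime_iff_eq Nat.prime_two hp.out).1
        (Nat.prime_two.dvd_of_dvd_pow h2.symm.dvd)).symm hp2

end SL2

end Cfsg.Agent.H4
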