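import Mathlib
import Cfsg.Agent.L.MinNormal

/-!
Solvable linear groups that are transitive on the subspaces of each dimension normalize a field of
full degree.
-/

set_option autoImplicit false

namespace Cfsg.Agent.H4.SemiLin

open Module

variable {F V : Type*} [Field F] [AddCommGroup V] [Module F V]

/-- Enlarging a subspace while avoiding a vector. -/
theorem exists_avoid [FiniteDimensional F V] (A : Submodule F V) {w : V} (hw : w ∉ A) (k : ℕ)
    (hk : finrank F A ≤ k) (hkn : k < finrank F V) :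
    ∃ W : Submodule F V, A ≤ W ∧ finrank F W = k ∧ w ∉ W := by
  induction k, hk using Nat.le_induction with
  | base => exact ⟨A, le_rfl, rfl, hw⟩
  | succ k hk ih =>
    obtain ⟨W, h1, h2, h3⟩ := ih (by omega)
    have h4 : finrank F (W ⊔ F ∙ w : Submodule F V) = k + 1 := by
      rw [Submodule.finrank_sup_span_singleton h3, h2]
    have h5 : (W ⊔ F ∙ w : Submodule F V) ≠ ⊤ := by
      intro h
      rw [h, finrank_top] at h4
      omega
    obtain ⟨t, -, ht⟩ := SetLike.exists_of_lt (lt_top_iff_ne_top.mpr h5)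
    have ht' : t ∉ W := fun h => ht (Submodule.mem_sup_left h)
    refine ⟨W ⊔ F ∙ t, h1.trans le_sup_left, by
      rw [Submodule.finrank_sup_span_singleton ht', h2], fun h => ?_⟩
    obtain ⟨u, hu, y, hy, huy⟩ := Submodule.mem_sup.mp h
    obtain ⟨c, rfl⟩ := Submodule.mem_span_singleton.mp hy
    by_cases hc : c = 0
    · subst hc
      rw [zero_smul, add_zero] at huy
      exact h3 (huy ▸ hu)
    · apply ht
      have : t = c⁻¹ • w - c⁻¹ • u := by
        rw [← huy, smul_add, smul_smul, inv_mul_cancel₀ hc, one_smul]; abel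
      rw [this]
      exact Submodule.sub_mem _
        (Submodule.smul_mem _ _ (Submodule.mem_sup_right (Submodule.mem_span_singleton_self w)))
        (Submodule.smul_mem _ _ (Submodule.mem_sup_left hu))

variable {H : Type*} [Group H]

/-- Transitivity on the subspaces of each dimension. -/
def Trans (ρ : H →* End F V) : Prop :=
  ∀ U W : Submodule F V, finrank F U = finrank F W → ∃ h : H, W = U.map (ρ h)

theorem rho_inv_apply (ρ : H →* End F V) (h : H) (v : V) : ρ h⁻¹ (ρ h v) = v := by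
  rw [← End.mul_apply, ← map_mul, inv_mul_cancel, map_one, End.one_apply]

theorem rho_apply_inv (ρ : H →* End F V) (h : H) (v : V) : ρ h (ρ h⁻¹ v) = v := by
  rw [← End.mul_apply, ← map_mul, mul_inv_cancel, map_one, End.one_apply]

theorem rho_eq_zero (ρ : H →* End F V) (h : H) {v : V} (hv : ρ h v = 0) : v = 0 := by
  rw [← rho_inv_apply ρ h v, hv, map_zero]

theorem Trans.vec {ρ : H →* End F V} (hT : Trans ρ) {v w : V} (hv : v ≠ 0) (hw : w ≠ 0) :
    ∃ (h : H) (c : F), w = c • ρ h v := by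
  obtain ⟨h, hh⟩ := hT (F ∙ v) (F ∙ w) (by rw [finrank_span_singleton hv, finrank_span_singleton hw])
  have : w ∈ (F ∙ v).map (ρ h) := hh ▸ Submodule.mem_span_singleton_self w
  obtain ⟨u, hu, rfl⟩ := this
  obtain ⟨c, rfl⟩ := Submodule.mem_span_singleton.mp hu
  exact ⟨h, c, by rw [map_smul]⟩

/-- A commutative subalgebra normalized by the group. -/
structure CommNorm (ρ : H →* End F V) (B : Subalgebra F (End F V)) : Prop where
  comm : ∀ a ∈ B, ∀ b ∈ B, a * b = b * a
  norm : ∀ h : H, ∀ b ∈ B, ρ h * b * ρ h⁻¹ ∈ B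

theorem CommNorm.eq_zero [Finite V] {ρ : H →* End F V} (hT : Trans ρ)
    {B : Subalgebra F (End F V)} (hB : CommNorm ρ B) {b : End F V} (hb : b ∈ B) {v : V}
    (hv : v ≠ 0) (hbv : b v = 0) : b = 0 := by
  have : Finite (End F V) := DFunLike.finite _
  let I : V → Set (End F V) := fun v => {b | b ∈ B ∧ b v = 0}
  have hle : ∀ v w : V, v ≠ 0 → w ≠ 0 → (I v).ncard ≤ (I w).ncard := by
    intro v w hv hw
    obtain ⟨h, c, rfl⟩ := hT.vec hv hw
    refine Set.ncard_le_ncard_of_injOn (fun b => ρ h * b * ρ h⁻¹) ?_ ?_ (Set.toFinite _)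
    · rintro b ⟨h1, h2⟩
      refine ⟨hB.norm h b h1, ?_⟩
      simp only [End.mul_apply, map_smul, rho_inv_apply, h2, map_zero, smul_zero]
    · intro a _ b _ hab
      ext x
      have := LinearMap.congr_fun hab (ρ h x)
      simp only [End.mul_apply, rho_inv_apply] at this
      rw [← rho_inv_apply ρ h (a x), this, rho_inv_apply]
  have heq : ∀ v w : V, v ≠ 0 → w ≠ 0 → I v ⊆ I w → I v = I w := fun v w hv hw h =>
    Set.eq_of_subset_of_ncard_le h (hle w v hw hv) (Set.toFinite _)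
  have key : ∀ v w : V, v ≠ 0 → w ≠ 0 → I v = I w := by
    intro v w hv hw
    by_cases hu : ∃ u : V, u ≠ 0 ∧ I v ⊆ I u ∧ I w ⊆ I u
    · obtain ⟨u, h0, h1, h2⟩ := hu
      rw [heq v u hv h0 h1, heq w u hw h0 h2]
    · have hvw : v + w ≠ 0 := by
        intro h
        apply hu
        refine ⟨v, hv, subset_rfl, ?_⟩
        rintro c ⟨h1, h2⟩
        refine ⟨h1, ?_⟩
        rw [eq_neg_of_add_eq_zero_left h, map_neg, h2, neg_zero]
      have hsub : ∀ c ∈ I (v + w), c v = 0 ∧ c w = 0 := by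
        rintro c ⟨h1, h2⟩
        rw [map_add] at h2
        have h0 : c v = 0 := by
          by_contra h0
          apply hu
          refine ⟨c v, h0, ?_, ?_⟩
          · rintro d ⟨d1, d2⟩
            refine ⟨d1, ?_⟩
            rw [← End.mul_apply, hB.comm d d1 c h1, End.mul_apply, d2, map_zero]
          · rintro d ⟨d1, d2⟩
            refine ⟨d1, ?_⟩
            rw [eq_neg_of_add_eq_zero_left h2, map_neg, ← End.mul_apply, hB.comm d d1 c h1,
              End.mul_apply, d2, map_zero, neg_zero]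
        exact ⟨h0, by rwa [h0, zero_add] at h2⟩
      rw [← heq (v + w) v hvw hv fun c hc => ⟨hc.1, (hsub c hc).1⟩,
        ← heq (v + w) w hvw hw fun c hc => ⟨hc.1, (hsub c hc).2⟩]
  ext w
  by_cases hw : w = 0
  · simp [hw]
  · have : b ∈ I w := key v w hv hw ▸ ⟨hb, hbv⟩
    exact this.2

/-- Scalar endomorphisms. -/
def Sc (x : End F V) : Prop := ∃ c : F, ∀ v, x v = c • v

theorem CommNorm.surj [Finite V] {ρ : H →* End F V} (hT : Trans ρ)
    {B : Subalgebra F (End F V)} (hB : CommNorm ρ B) {b : End F V} (hb : b ∈ B) (hns : ¬ Sc b)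
    {v : V} (hv : v ≠ 0) (w : V) : ∃ c ∈ B, c v = w := by
  have : Module.Finite F V := Module.Finite.of_finite
  let U : Submodule F V := (Subalgebra.toSubmodule B).map (LinearMap.applyₗ v)
  have hU : ∀ x, x ∈ U ↔ ∃ c ∈ B, c v = x := fun x => Iff.rfl
  by_contra hw
  rw [← hU] at hw
  have hUt : U ≠ ⊤ := fun h => hw (h ▸ Submodule.mem_top)
  have hlt : finrank F U < finrank F V := Submodule.finrank_lt hUt
  have hbv : b v ∉ (F ∙ v) := by
    intro h
    obtain ⟨c, hc⟩ := Submodule.mem_span_singleton.mp h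
    apply hns
    refine ⟨c, fun x => ?_⟩
    have := hB.eq_zero hT (B.sub_mem hb (B.algebraMap_mem c)) hv (by
      simp [hc])
    have := LinearMap.congr_fun this x
    simpa [sub_eq_zero] using this
  have hvU : (F ∙ v) ≤ U := by
    rw [Submodule.span_singleton_le_iff_mem, hU]
    exact ⟨1, B.one_mem, rfl⟩
  obtain ⟨W, h1, h2, h3⟩ := exists_avoid (F ∙ v) hbv (finrank F U) (Submodule.finrank_mono hvU) hlt
  obtain ⟨h, rfl⟩ := hT U W h2.symm
  obtain ⟨x, hx, hxv⟩ := h1 (Submodule.mem_span_singleton_self v)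
  obtain ⟨c, hc, rfl⟩ := (hU x).mp hx
  apply h3
  refine ⟨(ρ h⁻¹ * b * ρ h⁻¹⁻¹ * c) v, (hU _).mpr ⟨_, B.mul_mem (hB.norm _ b hb) hc, rfl⟩, ?_⟩
  simp only [inv_inv, End.mul_apply, rho_apply_inv]
  rw [hxv]

/-- The elements acting as scalars. -/
def scSub (ρ : H →* End F V) : Subgroup H where
  carrier := {h | Sc (ρ h)}
  one_mem' := ⟨1, fun v => by simp⟩
  mul_mem' := by
    rintro a b ⟨c, hc⟩ ⟨d, hd⟩
    exact ⟨d * c, fun v => by rw [map_mul, End.mul_apply, hd, map_smul, hc, smul_smul]⟩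
  inv_mem' := by
    rintro a ⟨c, hc⟩
    refine ⟨c⁻¹, fun v => ?_⟩
    by_cases h0 : c = 0
    · have : v = 0 := rho_eq_zero ρ a (by rw [hc, h0, zero_smul])
      simp [this]
    · have h1 := rho_inv_apply ρ a v
      rw [hc, map_smul] at h1
      conv_rhs => rw [← h1]
      rw [smul_smul, inv_mul_cancel₀ h0, one_smul]

theorem mem_scSub {ρ : H →* End F V} {h : H} : h ∈ scSub ρ ↔ Sc (ρ h) := Iff.rfl

instance scSub_normal (ρ : H →* End F V) : (scSub ρ).Normal := ⟨by
  rintro a ⟨c, hc⟩ g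
  exact ⟨c, fun v => by
    rw [map_mul, map_mul, End.mul_apply, End.mul_apply, hc, map_smul, rho_apply_inv]⟩⟩

/-- A normal subgroup that is elementary abelian modulo the scalars. -/
structure ESub (ρ : H →* End F V) (E : Subgroup H) (r : ℕ) : Prop where
  normal : E.Normal
  prime : r.Prime
  comm : ∀ x ∈ E, ∀ y ∈ E, ∃ c : F, ∀ v, ρ x (ρ y v) = c • ρ y (ρ x v)
  pow : ∀ x ∈ E, Sc (ρ (x ^ r))
  ns : ∃ x ∈ E, ¬ Sc (ρ x)

theorem exists_eSub [Finite H] [Group.IsSolvable H] (ρ : H →* End F V) (hne : scSub ρ ≠ ⊤) :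
    ∃ (E : Subgroup H) (r : ℕ), ESub ρ E r := by
  have : Nontrivial (H ⧸ scSub ρ) := QuotientGroup.nontrivial_iff.mpr hne
  obtain ⟨M, r, hM, hr, hel⟩ := L.exists_isMinNormal_isElementaryAbelian (G := H ⧸ scSub ρ)
  have := hM.1
  refine ⟨M.comap (QuotientGroup.mk' _), r, inferInstance, hr, fun x hx y hy => ?_,
    fun x hx => ?_, ?_⟩
  · have h1 : (QuotientGroup.mk' (scSub ρ)) x * (QuotientGroup.mk' (scSub ρ)) y =
        (QuotientGroup.mk' (scSub ρ)) y * (QuotientGroup.mk' (scSub ρ)) x :=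
      congrArg Subtype.val (hel.1.is_comm.comm (⟨_, hx⟩ : M) ⟨_, hy⟩)
    rw [← map_mul, ← map_mul, eq_comm, QuotientGroup.mk'_eq_mk'] at h1
    obtain ⟨z, ⟨c, hc⟩, hz⟩ := h1
    refine ⟨c, fun v => ?_⟩
    rw [← End.mul_apply, ← map_mul, ← hz, map_mul, map_mul, End.mul_apply, End.mul_apply, hc,
      map_smul, map_smul]
  · have h1 := hel.2 _ hx
    rw [← map_pow] at h1
    exact (QuotientGroup.eq_one_iff _).mp h1
  · obtain ⟨⟨m, hm⟩, hm1⟩ := Subgroup.ne_bot_iff_exists_ne_one.mp hM.2.1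
    obtain ⟨x, rfl⟩ := QuotientGroup.mk'_surjective _ m
    refine ⟨x, hm, fun h => hm1 (Subtype.ext ?_)⟩
    exact (QuotientGroup.eq_one_iff _).mpr h

theorem pow_comm {X Y : End F V} {c : F} (h : ∀ v, X (Y v) = c • Y (X v)) (m : ℕ) (v : V) :
    (X ^ m) (Y v) = c ^ m • Y ((X ^ m) v) := by
  induction m generalizing v with
  | zero => simp
  | succ m ih =>
    rw [pow_succ, End.mul_apply, h, map_smul, ih, smul_smul, pow_succ' c, End.mul_apply]

theorem mul_pow_comm {X Y : End F V} {d : F} (h : ∀ v, Y (X v) = d • X (Y v)) (m : ℕ) (v : V) :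
    ((X * Y) ^ m) v = d ^ (m.choose 2) • (X ^ m) ((Y ^ m) v) := by
  induction m generalizing v with
  | zero => simp
  | succ m ih =>
    rw [pow_succ, End.mul_apply, ih, End.mul_apply, pow_comm h, map_smul, smul_smul,
      Nat.choose_succ_succ' m 1, Nat.choose_one_right, pow_add, mul_comm, pow_succ X, pow_succ Y,
      End.mul_apply, End.mul_apply]

theorem eq_of_smul_eq {c d : F} {v : V} (hv : v ≠ 0) (h : c • v = d • v) : c = d :=
  smul_left_injective F hv h

theorem finrank_span_one_le (v : V) : finrank F (F ∙ v) ≤ 1 := by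
  simpa using finrank_span_le_card (R := F) ({v} : Set V)

section Main

variable {ρ : H →* End F V} {E : Subgroup H} {r : ℕ}

theorem ESub.pow_eq_one [Nontrivial V] (hE : ESub ρ E r) {x : H} (hx : x ∈ E) {y : H} {c : F}
    (hc : ∀ v, ρ x (ρ y v) = c • ρ y (ρ x v)) : c ^ r = 1 := by
  obtain ⟨a, ha⟩ := hE.pow x hx
  obtain ⟨v, hv⟩ := exists_ne (0 : V)
  have h1 := pow_comm hc r v
  rw [← map_pow, ha, ha, map_smul, smul_smul] at h1
  have h2 := eq_of_smul_eq (fun h => hv (rho_eq_zero ρ y h)) h1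
  have ha0 : a ≠ 0 := by
    rintro rfl
    exact hv (rho_eq_zero ρ (x ^ r) (by rw [ha, zero_smul]))
  exact (mul_eq_right₀ ha0).mp h2.symm

theorem ESub.exists_not_comm (hE : ESub ρ E r)
    (hNC : ∀ B : Subalgebra F (End F V), CommNorm ρ B → ∀ b ∈ B, Sc b) {x : H} (hx : x ∈ E)
    (hns : ¬ Sc (ρ x)) : ∃ y ∈ E, ∃ ζ : F, ζ ≠ 1 ∧ ∀ v, ρ x (ρ y v) = ζ • ρ y (ρ x v) := by
  by_contra hcon
  push Not at hcon
  let S : Set (End F V) := {b | ∃ z ∈ E, b = ρ z ∧ ∀ y ∈ E, ρ z * ρ y = ρ y * ρ z}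
  have hS : CommNorm ρ (Algebra.adjoin F S) := by
    constructor
    · intro a ha b hb
      refine (Algebra.commute_of_mem_adjoin_of_forall_mem_commute hb fun b' hb' => ?_).eq
      refine (Algebra.commute_of_mem_adjoin_of_forall_mem_commute ha fun a' ha' => ?_).symm
      obtain ⟨z, hz, rfl, h1⟩ := hb'
      obtain ⟨z', hz', rfl, -⟩ := ha'
      exact h1 z' hz'
    · intro h b hb
      induction hb using Algebra.adjoin_induction with
      | mem b hb =>
        obtain ⟨z, hz, rfl, h1⟩ := hb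
        refine Algebra.subset_adjoin ⟨h * z * h⁻¹, hE.normal.conj_mem z hz h, by simp, ?_⟩
        intro y hy
        have h2 := h1 (h⁻¹ * y * h⁻¹⁻¹) (hE.normal.conj_mem y hy h⁻¹)
        rw [← map_mul, ← map_mul] at h2 ⊢
        have h3 := congrArg (fun t => ρ h * t * ρ h⁻¹) h2
        simp only [← map_mul] at h3
        convert h3 using 2 <;> group
      | algebraMap c =>
        rw [← Algebra.commutes, mul_assoc, ← map_mul, mul_inv_cancel, map_one, mul_one]
        exact Subalgebra.algebraMap_mem _ c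
      | add a b _ _ ha hb =>
        rw [mul_add, add_mul]; exact Subalgebra.add_mem _ ha hb
      | mul a b _ _ ha hb =>
        have : ρ h * (a * b) * ρ h⁻¹ = ρ h * a * ρ h⁻¹ * (ρ h * b * ρ h⁻¹) := by
          have : ρ h⁻¹ * ρ h = 1 := by rw [← map_mul, inv_mul_cancel, map_one]
          simp only [mul_assoc]
          rw [← mul_assoc (ρ h⁻¹) (ρ h), this, one_mul]
        rw [this]; exact Subalgebra.mul_mem _ ha hb
  apply hns
  refine hNC _ hS _ (Algebra.subset_adjoin ⟨x, hx, rfl, fun y hy => ?_⟩)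
  obtain ⟨c, hc⟩ := hE.comm x hx y hy
  by_cases h1 : c = 1
  · ext v
    simp [hc, h1]
  · obtain ⟨v, hv⟩ := hcon y hy c h1
    exact absurd (hc v) hv

theorem eigen_ne_zero {x : H} {l : F} {v : V} (hv : v ≠ 0) (h : ρ x v = l • v) : l ≠ 0 := by
  rintro rfl
  exact hv (rho_eq_zero ρ x (by rw [h, zero_smul]))

theorem eigen_disj {X : End F V} {l m : F} (hlm : l ≠ m) {v : V} (h1 : X v = l • v)
    (h2 : X v = m • v) : v = 0 := by
  by_contra hv
  exact hlm (eq_of_smul_eq hv (h1.symm.trans h2))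

/-- Eigenspaces of dimension at least two are impossible. -/
theorem ESub.false_of_two [Finite V] (hE : ESub ρ E r) (hT : Trans ρ)
    (hNC : ∀ B : Subalgebra F (End F V), CommNorm ρ B → ∀ b ∈ B, Sc b) {x : H} (hx : x ∈ E)
    (hns : ¬ Sc (ρ x)) {l : F} {v w : V} (hv : v ≠ 0) (hw : w ∉ (F ∙ v)) (h1 : ρ x v = l • v)
    (h2 : ρ x w = l • w) : False := by
  have : Module.Finite F V := Module.Finite.of_finite
  obtain ⟨y, hy, ζ, hζ, hxy⟩ := hE.exists_not_comm hNC hx hns
  have hl := eigen_ne_zero hv h1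
  obtain ⟨v1, hv1⟩ : ∃ v1, v1 = ρ y v := ⟨_, rfl⟩
  have hv10 : v1 ≠ 0 := fun h => hv (rho_eq_zero ρ y (hv1 ▸ h))
  have h3 : ρ x v1 = (ζ * l) • v1 := by rw [hv1, hxy, h1, map_smul, smul_smul]
  have hζl : l ≠ ζ * l := fun h => hζ ((mul_eq_right₀ hl).mp h.symm)
  let U : Submodule F V := (ρ x).eigenspace l
  have hU : ∀ u, u ∈ U ↔ ρ x u = l • u := fun u => End.mem_eigenspace_iff
  have hUt : U ≠ ⊤ := fun h => hns ⟨l, fun u => (hU u).mp (h ▸ Submodule.mem_top)⟩
  have hlt : finrank F U < finrank F V := Submodule.finrank_lt hUt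
  have hU2 : 2 ≤ finrank F U := by
    have : (F ∙ v ⊔ F ∙ w : Submodule F V) ≤ U := by
      rw [sup_le_iff, Submodule.span_singleton_le_iff_mem, Submodule.span_singleton_le_iff_mem, hU,
        hU]
      exact ⟨h1, h2⟩
    have h4 := Submodule.finrank_mono this
    rwa [Submodule.finrank_sup_span_singleton hw, finrank_span_singleton hv] at h4
  have hA : finrank F (F ∙ v ⊔ F ∙ (w + v1) : Submodule F V) ≤ 2 := by
    refine (Submodule.finrank_add_le_finrank_add_finrank _ _).trans ?_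
    have := finrank_span_one_le (F := F) (w + v1)
    rw [finrank_span_singleton hv]
    omega
  have hnot : ρ x (w + v1) ∉ (F ∙ v ⊔ F ∙ (w + v1) : Submodule F V) := by
    intro h
    obtain ⟨a, ha, b, hb, hab⟩ := Submodule.mem_sup.mp h
    obtain ⟨α, rfl⟩ := Submodule.mem_span_singleton.mp ha
    obtain ⟨β, rfl⟩ := Submodule.mem_span_singleton.mp hb
    rw [map_add, h2, h3] at hab
    have h5 : (ζ * l - β) • v1 = α • v + (β - l) • w := by
      linear_combination (norm := module) (-1 : F) • hab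
    have h6 : (ζ * l - β) • v1 = 0 := by
      refine eigen_disj (X := ρ x) hζl ?_ ?_
      · rw [h5, map_add, map_smul, map_smul, h1, h2]; module
      · rw [map_smul, h3]; module
    have h7 : β = ζ * l := by
      rcases smul_eq_zero.mp h6 with h | h
      · exact (sub_eq_zero.mp h).symm
      · exact absurd h hv10
    rw [h6, h7] at h5
    apply hw
    have h8 : ζ * l - l ≠ 0 := sub_ne_zero.mpr hζl.symm
    refine Submodule.mem_span_singleton.mpr ⟨-(ζ * l - l)⁻¹ * α, ?_⟩
    have h9 : (ζ * l - l) • w = -(α • v) := by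
      rw [eq_neg_iff_add_eq_zero, add_comm]; exact h5.symm
    rw [← one_smul F w, ← inv_mul_cancel₀ h8, mul_smul, mul_smul, h9]
    module
  obtain ⟨W, w1, w2, w3⟩ := exists_avoid _ hnot (finrank F U) (hA.trans hU2) hlt
  obtain ⟨h, rfl⟩ := hT U W w2.symm
  have hW : ∀ u, u ∈ U.map (ρ h) ↔ ρ (h * x * h⁻¹) u = l • u := by
    intro u
    rw [map_mul, map_mul, End.mul_apply, End.mul_apply]
    constructor
    · rintro ⟨u', hu', rfl⟩
      rw [rho_inv_apply, (hU u').mp hu', map_smul]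
    · intro hu
      refine ⟨ρ h⁻¹ u, (hU _).mpr ?_, rho_apply_inv ρ h u⟩
      rw [← rho_inv_apply ρ h (ρ x _), hu, map_smul]
  obtain ⟨c, hc⟩ := hE.comm _ (hE.normal.conj_mem x hx h) x hx
  have hvW := (hW v).mp (w1 (Submodule.mem_sup_left (Submodule.mem_span_singleton_self v)))
  have htW := (hW _).mp (w1 (Submodule.mem_sup_right (Submodule.mem_span_singleton_self _)))
  have hc1 : c = 1 := by
    have h5 := hc v
    rw [h1, map_smul, hvW, map_smul, h1, smul_smul, smul_smul] at h5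
    have h6 := eq_of_smul_eq hv h5
    exact (mul_eq_right₀ (mul_ne_zero hl hl)).mp h6.symm
  apply w3
  rw [hW, hc, hc1, one_smul, htW, map_smul]

/-- Eigenvectors are impossible. -/
theorem ESub.false_of_eigen [Finite V] (hE : ESub ρ E r) (hT : Trans ρ) (hn : 3 ≤ finrank F V)
    (hNC : ∀ B : Subalgebra F (End F V), CommNorm ρ B → ∀ b ∈ B, Sc b) {x : H} (hx : x ∈ E)
    (hns : ¬ Sc (ρ x)) {l : F} {v : V} (hv : v ≠ 0) (h1 : ρ x v = l • v) : False := by
  have : Module.Finite F V := Module.Finite.of_finite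
  have : Nontrivial V := ⟨⟨v, 0, hv⟩⟩
  obtain ⟨y, hy, ζ, hζ, hxy⟩ := hE.exists_not_comm hNC hx hns
  have hζr := hE.pow_eq_one hx hxy
  have hl := eigen_ne_zero hv h1
  obtain ⟨v1, hv1⟩ : ∃ v1, v1 = ρ y v := ⟨_, rfl⟩
  have hv10 : v1 ≠ 0 := fun h => hv (rho_eq_zero ρ y (hv1 ▸ h))
  have h3 : ρ x v1 = (ζ * l) • v1 := by rw [hv1, hxy, h1, map_smul, smul_smul]
  have hζl : l ≠ ζ * l := fun h => hζ ((mul_eq_right₀ hl).mp h.symm)
  have hone : ∀ z ∈ E, ¬ Sc (ρ z) → ∀ (m : F) (a b : V), a ≠ 0 → ρ z a = m • a → ρ z b = m • b →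
      b ∈ (F ∙ a) := fun z hz hzs m a b ha e1 e2 => by
    by_contra hb
    exact hE.false_of_two hT hNC hz hzs ha hb e1 e2
  by_cases hζ2 : ζ ^ 2 = 1
  · have hζ1 : ζ = -1 := by
      rcases sq_eq_one_iff.mp hζ2 with h | h
      · exact absurd h hζ
      · exact h
    have h2 : (2 : F) ≠ 0 := fun h => hζ (by rw [hζ1]; linear_combination -h)
    have hr : r = 2 := by
      by_contra hr
      rw [hζ1, (hE.prime.odd_of_ne_two hr).neg_one_pow] at hζr
      exact h2 (by linear_combination -hζr)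
    subst hr
    obtain ⟨a, ha⟩ := hE.pow x hx
    have ha' : ∀ u, ρ x (ρ x u) = a • u := fun u => by
      rw [← ha, pow_two, map_mul, End.mul_apply]
    have hal : a = l * l := by
      have := ha' v
      rw [h1, map_smul, h1, smul_smul] at this
      exact (eq_of_smul_eq hv this).symm
    have htop : (F ∙ v ⊔ F ∙ v1 : Submodule F V) = ⊤ := by
      rw [eq_top_iff]
      intro u _
      have e1 := hone x hx hns l v (l • u + ρ x u) hv h1 (by
        rw [map_add, map_smul, ha', hal]; module)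
      have e2 := hone x hx hns (ζ * l) v1 (l • u - ρ x u) hv10 h3 (by
        rw [map_sub, map_smul, ha', hal, hζ1]; module)
      have e3 : u = (2 * l)⁻¹ • ((l • u + ρ x u) + (l • u - ρ x u)) := by
        rw [show (l • u + ρ x u) + (l • u - ρ x u) = (2 * l) • u by module, smul_smul,
          inv_mul_cancel₀ (mul_ne_zero h2 hl), one_smul]
      rw [e3]
      exact Submodule.smul_mem _ _ (Submodule.add_mem_sup e1 e2)
    have h4 := Submodule.finrank_add_le_finrank_add_finrank (F ∙ v) (F ∙ v1)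
    rw [htop, finrank_top, finrank_span_singleton hv, finrank_span_singleton hv10] at h4
    omega
  · have hvv : v + v1 ≠ 0 := by
      intro h
      refine hv (eigen_disj (X := ρ x) hζl h1 ?_)
      rw [eq_neg_of_add_eq_zero_left h, map_neg, h3, smul_neg]
    obtain ⟨h, c, hc⟩ := hT.vec hv hvv
    obtain ⟨z, hz⟩ : ∃ z, z = h * x * h⁻¹ := ⟨_, rfl⟩
    have hzE : z ∈ E := hz ▸ hE.normal.conj_mem x hx h
    have hzs : ¬ Sc (ρ z) := by
      intro hs
      apply hns
      have := (scSub_normal ρ).conj_mem z hs h⁻¹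
      rw [hz, show h⁻¹ * (h * x * h⁻¹) * h⁻¹⁻¹ = x by group] at this
      exact this
    have hzv : ρ z (v + v1) = l • (v + v1) := by
      rw [hc, hz, map_mul, map_mul, End.mul_apply, End.mul_apply, map_smul, map_smul, map_smul,
        rho_inv_apply, h1, map_smul, smul_comm]
    obtain ⟨d, hd⟩ := hE.comm x hx z hzE
    have e1 : ρ x (ρ z v) = (d * l) • ρ z v := by rw [hd, h1, map_smul, smul_smul]
    have e2 : ρ x (ρ z v1) = (d * (ζ * l)) • ρ z v1 := by rw [hd, h3, map_smul, smul_smul]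
    rw [map_add] at hzv
    by_cases hd1 : d = 1
    · subst hd1
      have e3 : ρ z v - l • v = 0 := by
        refine eigen_disj (X := ρ x) hζl ?_ ?_
        · rw [map_sub, e1, map_smul, h1]; module
        · rw [show ρ z v - l • v = l • v1 - ρ z v1 by linear_combination (norm := module) hzv,
            map_sub, e2, map_smul, h3]
          module
      have e4 : ρ z v1 = l • v1 := by linear_combination (norm := module) hzv - e3
      obtain ⟨α, hα⟩ := Submodule.mem_span_singleton.mp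
        (hone z hzE hzs l v v1 hv (sub_eq_zero.mp e3) e4)
      refine hv10 (eigen_disj (X := ρ x) hζl ?_ h3)
      rw [← hα, map_smul, h1, smul_comm]
    · have hzv0 : ρ z v ≠ 0 := fun h => hv (rho_eq_zero ρ z h)
      have hzv1 : ρ z v1 ≠ 0 := fun h => hv10 (rho_eq_zero ρ z h)
      have hd0 : d ≠ 0 := by
        rintro rfl
        exact hzv0 (rho_eq_zero ρ x (by rw [e1]; simp))
      have f1 := congrArg (ρ x) hzv
      rw [map_add, e1, e2, map_smul, map_add, h1, h3] at f1
      have f2 := congrArg (ρ x) f1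
      rw [map_add, map_smul, map_smul, e1, e2, map_smul, map_add, map_smul, map_smul, h1, h3] at f2
      have f3 : ((d - 1) * (d - ζ) * l ^ 2) • ρ z v = -(((d * ζ - 1) * (d - 1) * ζ * l ^ 2) •
          ρ z v1) := by
        linear_combination (norm := module) f2 - (l + ζ * l) • f1 + (ζ * l ^ 2) • hzv
      have hne : d * l ≠ d * (ζ * l) := fun h => hζl (mul_left_cancel₀ hd0 h)
      have f4 : ((d - 1) * (d - ζ) * l ^ 2) • ρ z v = 0 := by
        refine eigen_disj (X := ρ x) hne ?_ ?_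
        · rw [map_smul, e1, smul_comm]
        · rw [f3, map_neg, map_smul, e2, smul_neg, smul_comm]
      have f5 : ((d * ζ - 1) * (d - 1) * ζ * l ^ 2) • ρ z v1 = 0 := by
        rw [f4] at f3
        exact neg_eq_zero.mp f3.symm
      have hζ0 : ζ ≠ 0 := by
        rintro rfl
        rw [zero_pow hE.prime.ne_zero] at hζr
        exact zero_ne_one hζr
      have g1 := (smul_eq_zero.mp f4).resolve_right hzv0
      have g2 := (smul_eq_zero.mp f5).resolve_right hzv1
      simp only [mul_eq_zero, sub_eq_zero, hd1, hζ0, pow_eq_zero_iff (two_ne_zero), hl, or_false,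
        false_or] at g1 g2
      apply hζ2
      rw [pow_two, ← g2, g1]

theorem exists_eigen_of_pow [Finite V] [Nontrivial V] {X : End F V} {ζ b : F} (hr : r.Prime)
    (hζ : ζ ≠ 1) (hζr : ζ ^ r = 1) (hX : ∀ v, (X ^ r) v = b ^ r • v) :
    ∃ (l : F) (v : V), v ≠ 0 ∧ X v = l • v := by
  have : Module.Finite F V := Module.Finite.of_finite
  have := Fact.mk hr
  by_contra hcon
  push Not at hcon
  have hprim : IsPrimitiveRoot ζ r := by
    rw [← orderOf_eq_prime hζr hζ]; exact IsPrimitiveRoot.orderOf ζ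
  have h1 := X_pow_sub_C_eq_prod hprim hr.pos (rfl : b ^ r = b ^ r)
  have h2 : IsUnit (Polynomial.aeval X (Polynomial.X ^ r - Polynomial.C (b ^ r))) := by
    rw [h1]
    refine Finset.prod_induction _ (fun f => IsUnit (Polynomial.aeval X f))
      (fun f g hf hg => by rw [map_mul]; exact hf.mul hg) (by simp) fun i _ => ?_
    rw [LinearMap.isUnit_iff_ker_eq_bot, LinearMap.ker_eq_bot']
    intro v hv
    by_contra h0
    apply hcon (ζ ^ i * b) v h0
    rw [map_sub, Polynomial.aeval_X, Polynomial.aeval_C, LinearMap.sub_apply,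
      Module.algebraMap_end_apply, sub_eq_zero] at hv
    exact hv
  have h3 : Polynomial.aeval X (Polynomial.X ^ r - Polynomial.C (b ^ r)) = 0 := by
    ext v
    rw [map_sub, map_pow, Polynomial.aeval_X, Polynomial.aeval_C, LinearMap.sub_apply,
      Module.algebraMap_end_apply, hX, sub_self, LinearMap.zero_apply]
  rw [h3] at h2
  exact not_isUnit_zero h2

theorem exists_pow_mul_eq_pow [Finite F] (hr : r.Prime) {a b : F} (ha0 : a ≠ 0) (hb0 : b ≠ 0)
    (ha : ∀ c : F, a ≠ c ^ r) : ∃ (i : ℕ) (c : F), a ^ i * b = c ^ r := by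
  obtain ⟨g, hg⟩ := IsCyclic.exists_monoid_generator (α := Fˣ)
  obtain ⟨s, hs⟩ := hg (Units.mk0 a ha0)
  obtain ⟨t, ht⟩ := hg (Units.mk0 b hb0)
  have hs' : (g : F) ^ s = a := by simpa using congrArg Units.val hs
  have ht' : (g : F) ^ t = b := by simpa using congrArg Units.val ht
  have hrs : ¬ r ∣ s := by
    rintro ⟨m, rfl⟩
    exact ha ((g : F) ^ m) (by rw [← hs', ← pow_mul, mul_comm])
  have := Fact.mk hr
  have hs0 : (s : ZMod r) ≠ 0 := fun h => hrs ((ZMod.natCast_eq_zero_iff s r).mp h)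
  obtain ⟨m, hm⟩ : r ∣ s * (-(t : ZMod r) * (s : ZMod r)⁻¹).val + t := by
    rw [← ZMod.natCast_eq_zero_iff]
    push_cast
    rw [ZMod.natCast_zmod_val]
    field_simp
    ring
  exact ⟨_, (g : F) ^ m, by rw [← hs', ← ht', ← pow_mul, ← pow_add, hm, ← pow_mul, mul_comm]⟩

theorem isSquare_mul_of_not [Finite F] {a b : F} (ha0 : a ≠ 0) (hb0 : b ≠ 0)
    (ha : ∀ c : F, a ≠ c ^ 2) (hb : ∀ c : F, b ≠ c ^ 2) : ∃ c : F, a * b = c ^ 2 := by
  obtain ⟨i, c, hc⟩ := exists_pow_mul_eq_pow Nat.prime_two ha0 hb0 ha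
  have h0 : a ^ (i / 2) ≠ 0 := pow_ne_zero _ ha0
  rcases Nat.mod_two_eq_zero_or_one i with h | h
  · refine absurd ?_ (hb (c / a ^ (i / 2)))
    rw [div_pow, ← hc, ← pow_mul, show i / 2 * 2 = i by omega]
    field_simp
  · refine ⟨c / a ^ (i / 2), ?_⟩
    rw [div_pow, ← hc, ← pow_mul]
    conv_rhs => rw [show i = i / 2 * 2 + 1 by omega, pow_succ]
    rw [show (i / 2 * 2 + 1) / 2 = i / 2 by omega]
    field_simp

theorem card_pair_le [Finite F] (a b : V) :
    ((F ∙ a ⊔ F ∙ b : Submodule F V) : Set V).ncard ≤ Nat.card F * Nat.card F := by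
  have : ((F ∙ a ⊔ F ∙ b : Submodule F V) : Set V) ⊆
      (fun t : F × F => t.1 • a + t.2 • b) '' Set.univ := by
    intro u hu
    obtain ⟨c, hc, d, hd, rfl⟩ := Submodule.mem_sup.mp hu
    obtain ⟨α, rfl⟩ := Submodule.mem_span_singleton.mp hc
    obtain ⟨β, rfl⟩ := Submodule.mem_span_singleton.mp hd
    exact ⟨(α, β), trivial, rfl⟩
  refine (Set.ncard_le_ncard this (Set.toFinite _)).trans ((Set.ncard_image_le (Set.toFinite _)).trans ?_)
  rw [Set.ncard_univ, Nat.card_prod]

theorem ESub.false [Finite F] [Finite V] (hE : ESub ρ E r) (hT : Trans ρ) (hn : 3 ≤ finrank F V)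
    (hNC : ∀ B : Subalgebra F (End F V), CommNorm ρ B → ∀ b ∈ B, Sc b) : False := by
  have : Module.Finite F V := Module.Finite.of_finite
  have : Nontrivial V := Module.nontrivial_of_finrank_pos (R := F) (by omega)
  obtain ⟨x, hx, hns⟩ := hE.ns
  obtain ⟨y, hy, ζ, hζ, hxy⟩ := hE.exists_not_comm hNC hx hns
  have hζr := hE.pow_eq_one hx hxy
  obtain ⟨v, hv⟩ := exists_ne (0 : V)
  have hne : ∀ z ∈ E, ¬ Sc (ρ z) → ∀ a : F, (∀ u, (ρ z ^ r) u = a • u) → ∀ c : F, a ≠ c ^ r := by
    rintro z hz hzs a ha c rfl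
    obtain ⟨l, u, hu, h⟩ := exists_eigen_of_pow hE.prime hζ hζr ha
    exact hE.false_of_eigen hT hn hNC hz hzs hu h
  have hpow : ∀ z ∈ E, ∃ a : F, a ≠ 0 ∧ ∀ u, (ρ z ^ r) u = a • u := by
    intro z hz
    obtain ⟨a, ha⟩ := hE.pow z hz
    exact ⟨a, eigen_ne_zero hv (ha v), fun u => by rw [← map_pow, ha]⟩
  have hnc : ∀ a b : H, ∀ d : F, d ≠ 1 → (∀ u, ρ a (ρ b u) = d • ρ b (ρ a u)) → ¬ Sc (ρ b) := by
    rintro a b d hd hab ⟨c, hc⟩
    have h1 := hab v
    rw [hc, hc, map_smul, smul_smul] at h1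
    have h2 := eq_of_smul_eq (fun h => hv (rho_eq_zero ρ a h)) h1
    exact hd ((mul_eq_right₀ (eigen_ne_zero hv (hc v))).mp h2.symm)
  obtain ⟨a, ha0, ha⟩ := hpow x hx
  obtain ⟨b, hb0, hb⟩ := hpow y hy
  by_cases hr : r = 2
  swap
  · obtain ⟨i, c, hc⟩ := exists_pow_mul_eq_pow hE.prime ha0 hb0 (hne x hx hns a ha)
    obtain ⟨d, hd⟩ := hE.comm y hy (x ^ i) (E.pow_mem hx i)
    have hdr := hE.pow_eq_one hy hd
    refine hne (x ^ i * y) (E.mul_mem (E.pow_mem hx i) hy) (hnc x _ ζ hζ fun u => ?_) (c ^ r)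
      (fun u => ?_) c rfl
    · rw [map_mul, End.mul_apply, End.mul_apply, ← End.mul_apply (ρ x), ← map_mul,
        ← pow_succ', pow_succ, map_mul, End.mul_apply, hxy, map_smul]
    · obtain ⟨m, hm⟩ := hE.prime.dvd_choose_self two_ne_zero
        (lt_of_le_of_ne hE.prime.two_le (Ne.symm hr))
      rw [map_mul, mul_pow_comm hd, hm, pow_mul, hdr, one_pow, one_smul, hb, map_smul, map_pow,
        ← pow_mul, mul_comm i r, pow_mul, ← hc, mul_comm, mul_smul]
      congr 1
      have : ρ x ^ r = algebraMap F (End F V) a := by ext u; simp [ha]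
      rw [this, ← map_pow, Module.algebraMap_end_apply]
  subst hr
  have hζ1 : ζ = -1 := (sq_eq_one_iff.mp hζr).resolve_left hζ
  subst hζ1
  have hanti : ∀ s ∈ E, ∀ t ∈ E, ¬ Sc (ρ s) → ¬ Sc (ρ t) → ¬ Sc (ρ (s * t)) →
      ∀ u, ρ s (ρ t u) = (-1 : F) • ρ t (ρ s u) := by
    intro s hs t ht h1 h2 h3
    obtain ⟨d, hd⟩ := hE.comm t ht s hs
    rcases sq_eq_one_iff.mp (hE.pow_eq_one ht hd) with rfl | rfl
    · exfalso
      obtain ⟨α, α0, hα⟩ := hpow s hs
      obtain ⟨β, β0, hβ⟩ := hpow t ht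
      obtain ⟨c, hc⟩ := isSquare_mul_of_not α0 β0 (hne s hs h1 α hα) (hne t ht h2 β hβ)
      refine hne (s * t) (E.mul_mem hs ht) h3 (c ^ 2) (fun u => ?_) c rfl
      rw [map_mul, mul_pow_comm hd, one_pow, one_smul, hβ, map_smul, hα, smul_smul, ← hc, mul_comm]
    · intro u
      rw [hd]; simp
  have hys : ¬ Sc (ρ y) := hnc x y _ hζ hxy
  have hxys : ¬ Sc (ρ (x * y)) := hnc x _ _ hζ fun u => by
    rw [map_mul, End.mul_apply, End.mul_apply, hxy, map_smul]
  have hthree : ∀ z ∈ E, ¬ Sc (ρ z) → Sc (ρ (z * x)) ∨ Sc (ρ (z * y)) ∨ Sc (ρ (z * (x * y))) := by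
    intro z hz hzs
    by_contra hcon
    push Not at hcon
    have e1 := hanti z hz x hx hzs hns hcon.1
    have e2 := hanti z hz y hy hzs hys hcon.2.1
    have e3 := hanti z hz _ (E.mul_mem hx hy) hzs hxys hcon.2.2 v
    rw [map_mul, End.mul_apply, End.mul_apply, e1, e2, map_smul, smul_smul] at e3
    have := eq_of_smul_eq (fun h => hv (rho_eq_zero ρ z (rho_eq_zero ρ y (rho_eq_zero ρ x h)))) e3
    exact hζ (by rw [← this]; ring)
  have hxv : ρ x v ∉ (F ∙ v) := by
    intro h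
    obtain ⟨c, hc⟩ := Submodule.mem_span_singleton.mp h
    exact hE.false_of_eigen hT hn hNC hx hns hv hc.symm
  have hcover : ∀ w : V, ∃ j ∈ ({x, y, x * y} : Set H),
      w ∈ (F ∙ v ⊔ F ∙ (ρ j⁻¹ v) : Submodule F V) := by
    intro w
    by_cases hw : w ∈ (F ∙ v)
    · exact ⟨x, by simp, Submodule.mem_sup_left hw⟩
    obtain ⟨h, hh⟩ := hT (F ∙ v ⊔ F ∙ (ρ x v)) (F ∙ v ⊔ F ∙ w) (by
      rw [Submodule.finrank_sup_span_singleton hxv, Submodule.finrank_sup_span_singleton hw])
    obtain ⟨z, hz⟩ : ∃ z, z = h * x * h⁻¹ := ⟨_, rfl⟩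
    have hzE : z ∈ E := hz ▸ hE.normal.conj_mem x hx h
    have hzs : ¬ Sc (ρ z) := by
      intro hs
      apply hns
      have := (scSub_normal ρ).conj_mem z hs h⁻¹
      rw [hz, show h⁻¹ * (h * x * h⁻¹) * h⁻¹⁻¹ = x by group] at this
      exact this
    have hinv : ∀ u ∈ (F ∙ v ⊔ F ∙ (ρ x v) : Submodule F V),
        ρ x u ∈ (F ∙ v ⊔ F ∙ (ρ x v) : Submodule F V) := by
      intro u hu
      obtain ⟨c, hc, d, hd, rfl⟩ := Submodule.mem_sup.mp hu
      obtain ⟨α, rfl⟩ := Submodule.mem_span_singleton.mp hc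
      obtain ⟨β, rfl⟩ := Submodule.mem_span_singleton.mp hd
      have := ha v
      rw [pow_two, End.mul_apply] at this
      rw [map_add, map_smul, map_smul, this, add_comm]
      exact Submodule.add_mem_sup (Submodule.smul_mem _ _ (Submodule.smul_mem _ _
        (Submodule.mem_span_singleton_self _)))
        (Submodule.smul_mem _ _ (Submodule.mem_span_singleton_self _))
    have hzv : ρ z v ∈ (F ∙ v ⊔ F ∙ w : Submodule F V) := by
      have : v ∈ (F ∙ v ⊔ F ∙ w : Submodule F V) :=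
        Submodule.mem_sup_left (Submodule.mem_span_singleton_self v)
      rw [hh] at this ⊢
      obtain ⟨u, hu, huv⟩ := this
      refine ⟨ρ x u, hinv u hu, ?_⟩
      rw [hz, ← huv, map_mul, map_mul, End.mul_apply, End.mul_apply, rho_inv_apply]
    obtain ⟨c, hc, d, hd, hcd⟩ := Submodule.mem_sup.mp hzv
    obtain ⟨α, rfl⟩ := Submodule.mem_span_singleton.mp hc
    obtain ⟨β, rfl⟩ := Submodule.mem_span_singleton.mp hd
    have hβ : β ≠ 0 := by
      rintro rfl
      exact hE.false_of_eigen hT hn hNC hzE hzs hv (l := α) (by rw [← hcd]; simp)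
    have key : ∀ j : H, Sc (ρ (z * j)) → w ∈ (F ∙ v ⊔ F ∙ (ρ j⁻¹ v) : Submodule F V) := by
      rintro j ⟨γ, hγ⟩
      have e := hγ (ρ j⁻¹ v)
      rw [map_mul, End.mul_apply, rho_apply_inv, ← hcd] at e
      have : w = (-β⁻¹ * α) • v + (β⁻¹ * γ) • ρ j⁻¹ v := by
        rw [← one_smul F w, ← inv_mul_cancel₀ hβ]
        linear_combination (norm := module) β⁻¹ • e
      rw [this]
      exact Submodule.add_mem_sup (Submodule.smul_mem _ _ (Submodule.mem_span_singleton_self _))
        (Submodule.smul_mem _ _ (Submodule.mem_span_singleton_self _))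
    rcases hthree z hzE hzs with h | h | h
    · exact ⟨x, by simp, key _ h⟩
    · exact ⟨y, by simp, key _ h⟩
    · exact ⟨x * y, by simp, key _ h⟩
  obtain ⟨A, hA⟩ : ∃ A : H → Set V, A = fun j => ((F ∙ v ⊔ F ∙ (ρ j⁻¹ v) : Submodule F V) : Set V) :=
    ⟨_, rfl⟩
  have hAc : ∀ j, (A j).ncard ≤ Nat.card F * Nat.card F := fun j => hA ▸ card_pair_le _ _
  have huniv : (Set.univ : Set V) = A x ∪ A y ∪ A (x * y) := by
    refine (Set.eq_univ_of_forall fun w => ?_).symm
    obtain ⟨j, hj, hw⟩ := hcover w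
    subst hA
    rcases hj with rfl | rfl | rfl
    · exact Or.inl (Or.inl hw)
    · exact Or.inl (Or.inr hw)
    · exact Or.inr hw
  have h1 := Set.ncard_union_add_ncard_inter (A x) (A y)
  have h2 : 0 < (A x ∩ A y).ncard := by
    rw [Set.ncard_pos]
    exact ⟨0, by subst hA; exact ⟨Submodule.zero_mem _, Submodule.zero_mem _⟩⟩
  have h3 := Set.ncard_union_le (A x ∪ A y) (A (x * y))
  rw [← huniv, Set.ncard_univ, Module.natCard_eq_pow_finrank (K := F)] at h3
  have h4 : 3 ≤ Nat.card F := by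
    have : ({0, 1, -1} : Set F).ncard ≤ Nat.card F := Set.ncard_le_card _
    rwa [Set.ncard_insert_of_notMem (by simp), Set.ncard_pair hζ.symm] at this
  have h5 : Nat.card F ^ 3 ≤ Nat.card F ^ finrank F V := Nat.pow_le_pow_right (by omega) hn
  have h6 := hAc x
  have h7 := hAc y
  have h8 := hAc (x * y)
  nlinarith

end Main

/-- A commutative normalized subalgebra that is not scalar exists. -/
theorem exists_commNorm [Finite F] [Finite V] [Finite H] [Group.IsSolvable H] {ρ : H →* End F V}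
    (hT : Trans ρ) (hn : 3 ≤ finrank F V) :
    ∃ B : Subalgebra F (End F V), CommNorm ρ B ∧ ∃ b ∈ B, ¬ Sc b := by
  have : Module.Finite F V := Module.Finite.of_finite
  have : Nontrivial V := Module.nontrivial_of_finrank_pos (R := F) (by omega)
  by_contra hcon
  push Not at hcon
  have hne : scSub ρ ≠ ⊤ := by
    intro h
    obtain ⟨v, hv⟩ := exists_ne (0 : V)
    have : (F ∙ v) = ⊤ := by
      rw [eq_top_iff]
      intro w _
      by_cases hw : w = 0
      · simp [hw]
      obtain ⟨g, c, rfl⟩ := hT.vec hv hw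
      obtain ⟨d, hd⟩ : g ∈ scSub ρ := h ▸ Subgroup.mem_top g
      rw [hd]
      exact Submodule.smul_mem _ _ (Submodule.smul_mem _ _ (Submodule.mem_span_singleton_self _))
    have h1 := finrank_span_singleton (K := F) hv
    rw [this, finrank_top] at h1
    omega
  obtain ⟨E, r, hE⟩ := exists_eSub ρ hne
  exact hE.false hT hn hcon

end Cfsg.Agent.H4.SemiLin
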