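import Mathlib
import Cfsg.Agent.H4.FrobCount2
import Cfsg.Agent.H1.Basic

/-! Counting `p`-subgroups modulo `p ^ 2`: reduction to a Sylow subgroup. -/

set_option autoImplicit false

namespace Cfsg.Agent.H4

open Subgroup Pointwise

theorem dvd_sum_of_invariant {A Y : Type*} [Group A] [MulAction A Y] [Fintype Y] {n : ℕ}
    (f : Y → ℕ) (hf : ∀ (a : A) y, f (a • y) = f y)
    (h : ∀ y, n ∣ (MulAction.stabilizer A y).index * f y) : n ∣ ∑ y, f y := by
  classical
  have := Fintype.ofFinite (MulAction.orbitRel.Quotient A Y)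
  rw [← Finset.sum_fiberwise Finset.univ
    (fun y => (Quotient.mk _ y : MulAction.orbitRel.Quotient A Y)) f]
  refine Finset.dvd_sum fun ω _ => ?_
  obtain ⟨x, rfl⟩ := Quotient.exists_rep ω
  rw [Finset.sum_congr rfl (g := fun _ => f x), Finset.sum_const, smul_eq_mul]
  · have h1 := h x
    rw [MulAction.index_stabilizer, Set.ncard_eq_toFinset_card'] at h1
    refine h1.trans (dvd_of_eq ?_)
    congr 2
    ext y
    simp only [Finset.mem_filter, Finset.mem_univ, true_and, Set.mem_toFinset]
    exact (Quotient.eq (r := MulAction.orbitRel A Y)).symm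
  · intro y hy
    obtain ⟨a, rfl⟩ := Quotient.exact (Finset.mem_filter.1 hy).2
    exact hf a x

theorem card_modEq_card_fixed {A Y : Type*} [Group A] [MulAction A Y] [Finite Y] {p : ℕ}
    [Fact p.Prime] (hA : IsPGroup p A) (R : Y → Prop) (hR : ∀ (a : A) y, R y → R (a • y)) :
    Nat.card {y // R y} ≡ Nat.card {y // R y ∧ ∀ a : A, a • y = y} [MOD p] := by
  let X : SubMulAction A Y := { carrier := {y | R y}, smul_mem' := fun a y h => hR a y h }
  have h1 := hA.card_modEq_card_fixedPoints X
  have h2 : Nat.card (MulAction.fixedPoints A X) = Nat.card {y // R y ∧ ∀ a : A, a • y = y} :=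
    Nat.card_congr ⟨fun y => ⟨y.1.1, y.1.2, fun a => congrArg Subtype.val (y.2 a)⟩,
      fun y => ⟨⟨y.1, y.2.1⟩, fun a => Subtype.ext (y.2.2 a)⟩, fun _ => rfl, fun _ => rfl⟩
  rw [← h2]
  exact h1

variable {G : Type*} [Group G]

theorem conj_smul_eq_iff {H : Subgroup G} {g : G} :
    MulAut.conj g • H = H ↔ g ∈ normalizer (H : Set G) := H1.map_conj_eq_self_iff

theorem card_conj_smul (H : Subgroup G) (g : G) :
    Nat.card (MulAut.conj g • H : Subgroup G) = Nat.card H := H1.card_map_conj H g

theorem normalizer_conj_smul (H : Subgroup G) (g : G) :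
    normalizer ((MulAut.conj g • H : Subgroup G) : Set G) = MulAut.conj g • normalizer (H : Set G) :=
  H1.normalizer_map_conj H g

theorem conj_smul_le_iff {H P : Subgroup G} {g : G} (hg : g ∈ normalizer (P : Set G)) :
    MulAut.conj g • H ≤ P ↔ H ≤ P := by
  conv_lhs => rw [← conj_smul_eq_iff.2 hg]
  exact pointwise_smul_le_pointwise_smul_iff

theorem dvd_sum_subgroup [Fintype (Subgroup G)] (P : Subgroup G) {n : ℕ} (f : Subgroup G → ℕ)
    (hf : ∀ g ∈ P, ∀ H, f (MulAut.conj g • H) = f H)
    (h : ∀ H : Subgroup G, n ∣ (normalizer (H : Set G)).relIndex P * f H) : n ∣ ∑ H, f H := by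
  let _ : MulAction P (Subgroup G) :=
    MulAction.compHom (Subgroup G) ((MulAut.conj : G →* MulAut G).comp P.subtype)
  refine dvd_sum_of_invariant (A := P) f (fun a y => hf a a.2 y) fun H => ?_
  have : MulAction.stabilizer P H = (normalizer (H : Set G)).subgroupOf P := by
    ext g
    exact conj_smul_eq_iff
  rw [this]
  exact h H

theorem card_modEq_card_normalized [Finite G] {p : ℕ} [Fact p.Prime] {P : Subgroup G}
    (hP : IsPGroup p P) (R : Subgroup G → Prop)
    (hR : ∀ g ∈ P, ∀ H, R H → R (MulAut.conj g • H)) :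
    Nat.card {H // R H} ≡ Nat.card {H // R H ∧ P ≤ normalizer (H : Set G)} [MOD p] := by
  let _ : MulAction P (Subgroup G) :=
    MulAction.compHom (Subgroup G) ((MulAut.conj : G →* MulAut G).comp P.subtype)
  refine (card_modEq_card_fixed hP R fun a y => hR a a.2 y).trans ?_
  rw [card_congr_prop fun H => and_congr_right fun _ => ?_]
  exact ⟨fun h g hg => conj_smul_eq_iff.1 (h ⟨g, hg⟩), fun h g => conj_smul_eq_iff.2 (h g.2)⟩

theorem card_subtype_eq_add {α : Type*} [Finite α] (A B : α → Prop) :
    Nat.card {a // A a} = Nat.card {a // A a ∧ B a} + Nat.card {a // A a ∧ ¬ B a} := by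
  classical
  rw [← card_subtype_subtype, ← card_subtype_subtype, ← Nat.card_sum]
  exact (Nat.card_congr (Equiv.sumCompl _)).symm

theorem card_subtype_eq_sum {α : Type*} [Fintype α] (A : α → Prop) [DecidablePred A] :
    Nat.card {a // A a} = ∑ a, if A a then 1 else 0 := by
  rw [Nat.card_eq_fintype_card, Fintype.card_subtype, Finset.card_filter]

theorem sum_subtype_eq_sum_ite {α : Type*} [Fintype α] (A : α → Prop) [DecidablePred A]
    [Fintype {a // A a}] (f : α → ℕ) : ∑ a : {a // A a}, f a = ∑ a, if A a then f a else 0 := by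
  rw [← Finset.sum_filter]
  exact (Finset.sum_subtype _ (by simp) f).symm

theorem le_sylow_of_le_normalizer [Finite G] {p : ℕ} [Fact p.Prime] (P : Sylow p G)
    {H : Subgroup G} (hH : IsPGroup p H) (h : (P : Subgroup G) ≤ normalizer (H : Set G)) :
    H ≤ P := by
  have h1 : IsPGroup p ((P : Subgroup G) ⊔ H : Subgroup G) :=
    P.isPGroup'.to_sup_of_normal_right' hH h
  exact le_sup_right.trans (P.3 h1 le_sup_left).le

/-- The number of subgroups of order `p ^ a` outside a Sylow subgroup is divisible by `p ^ 2`. -/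
theorem sq_dvd_card_not_le_sylow [Finite G] {p a : ℕ} [hp : Fact p.Prime]
    (hd : p ^ (a + 1) ∣ Nat.card G) (P : Sylow p G) :
    p ^ 2 ∣ Nat.card {H : Subgroup G // Nat.card H = p ^ a ∧ ¬ H ≤ P} := by
  classical
  have := Fintype.ofFinite (Subgroup G)
  have hP := P.isPGroup'
  obtain ⟨n, hn⟩ := IsPGroup.iff_card.1 hP
  have han : a + 1 ≤ n := by
    rw [← Nat.pow_dvd_pow_iff_le_right hp.out.one_lt, ← hn]
    exact P.pow_dvd_card_of_pow_dvd_card hd
  obtain ⟨n, rfl⟩ := Nat.exists_eq_succ_of_ne_zero (by omega : n ≠ 0)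
  have hrel : ∀ H : Subgroup G, Nat.card H = p ^ a → ¬ H ≤ P →
      (normalizer (H : Set G)).relIndex P ≠ 1 := fun H h1 h2 h3 =>
    h2 (le_sylow_of_le_normalizer P (IsPGroup.of_card h1) (relIndex_eq_one.1 h3))
  have hinf : ∀ Q : Subgroup G, Q.relIndex P = p → Nat.card (Q ⊓ P : Subgroup G) = p ^ n := by
    intro Q hQ
    have := H1.card_inf_mul_relIndex Q P
    rw [hQ, hn, pow_succ] at this
    exact Nat.eq_of_mul_eq_mul_right hp.out.pos this
  rw [card_subtype_eq_add (fun H : Subgroup G => Nat.card H = p ^ a ∧ ¬ H ≤ P)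
    (fun H => (normalizer (H : Set G)).relIndex P = p)]
  refine Nat.dvd_add ?_ ?_
  · have h := sum_card_comm (fun Q : Subgroup G => Nat.card Q = p ^ (n + 1) ∧ Q.relIndex P = p)
      (fun H : Subgroup G => Nat.card H = p ^ a ∧ ¬ H ≤ P)
      (fun Q H => H ≤ Q ∧ Q ≤ normalizer (H : Set G))
    have h2 := sum_modEq_card_subtype (α := {H : Subgroup G // Nat.card H = p ^ a ∧ ¬ H ≤ P})
      (f := fun H => Nat.card {Q : Subgroup G // (Nat.card Q = p ^ (n + 1) ∧ Q.relIndex P = p) ∧
        H.1 ≤ Q ∧ Q ≤ normalizer (H.1 : Set G)}) (n := p ^ 2)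
      (fun H => (normalizer (H.1 : Set G)).relIndex P = p) 0 1 (fun H hH => ?_) (fun H hH => ?_)
    · rw [mul_zero, zero_add, mul_one, ← h, card_subtype_subtype
        (fun H : Subgroup G => Nat.card H = p ^ a ∧ ¬ H ≤ P)
        (fun H => (normalizer (H : Set G)).relIndex P = p)] at h2
      refine (h2.dvd_iff dvd_rfl).1 ?_
      rw [sum_subtype_eq_sum_ite
        (fun Q : Subgroup G => Nat.card Q = p ^ (n + 1) ∧ Q.relIndex P = p) (fun Q => Nat.card {H : Subgroup G //
        (Nat.card H = p ^ a ∧ ¬ H ≤ P) ∧ H ≤ Q ∧ Q ≤ normalizer (H : Set G)})]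
      refine dvd_sum_subgroup P _ (fun g hg Q => ?_) fun Q => ?_
      · have e1 : (MulAut.conj g • Q).relIndex P = Q.relIndex P := by
          conv_lhs => rw [← conj_smul_eq_self_of_mem hg]
          exact relIndex_pointwise_smul _ _ _
        rw [card_conj_smul, e1]
        congr 1
        symm
        refine Nat.card_congr ((MulAction.toPerm (MulAut.conj g)).subtypeEquiv fun H => ?_)
        rw [MulAction.toPerm_apply, card_conj_smul, conj_smul_le_iff (le_normalizer hg),
          normalizer_conj_smul, pointwise_smul_le_pointwise_smul_iff,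
          pointwise_smul_le_pointwise_smul_iff]
      · split_ifs with hQ
        swap
        · simp
        have hQp : IsPGroup p Q := IsPGroup.of_card hQ.1
        have hQP : ¬ Q ≤ P := fun h => by
          have h1 : Q = P := eq_of_le_of_card_ge h (by rw [hQ.1, hn])
          have h2 := hQ.2
          rw [h1, relIndex_self] at h2
          exact hp.out.one_lt.ne h2
        rw [pow_two]
        refine mul_dvd_mul ?_ ?_
        · obtain ⟨j, hj⟩ := hP.index ((normalizer (Q : Set G)).subgroupOf P)
          change (normalizer (Q : Set G)).relIndex P = p ^ j at hj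
          rw [hj]
          refine dvd_pow_self p ?_
          rintro rfl
          exact hQP (le_sylow_of_le_normalizer P hQp (relIndex_eq_one.1 (by simpa using hj)))
        · have hM : Q ≤ normalizer ((Q ⊓ P : Subgroup G) : Set G) := by
            rw [← normal_subgroupOf_iff_le_normalizer inf_le_left]
            refine H3.normal_of_index_eq_prime hQp ?_
            refine (card_index_eq_iff (a := p ^ n) (by rw [hQ.1, pow_succ]) _).1 ?_
            rw [← hinf Q hQ.2]
            exact Nat.card_congr (subgroupOfEquivOfLe inf_le_left).toEquiv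
          have e1 := card_modEq_card_normalized hQp
            (fun H => (Nat.card H = p ^ a ∧ H ≤ Q) ∧ ¬ H ≤ Q ⊓ P) (fun g hg H hH => by
              rw [card_conj_smul, conj_smul_le_iff (le_normalizer hg), conj_smul_le_iff (hM hg)]
              exact hH)
          have e2 := card_subtype_eq_add (fun H : Subgroup G => Nat.card H = p ^ a ∧ H ≤ Q)
            (fun H => H ≤ Q ⊓ P)
          have e3 : Nat.card {H : Subgroup G // (Nat.card H = p ^ a ∧ H ≤ Q) ∧ H ≤ Q ⊓ P} =
              Nat.card {H : Subgroup G // Nat.card H = p ^ a ∧ H ≤ Q ⊓ P} :=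
            card_congr_prop fun H => ⟨fun h => ⟨h.1.1, h.2⟩,
              fun h => ⟨⟨h.1, h.2.trans inf_le_left⟩, h.2⟩⟩
          rw [e3, card_card_le_eq, card_card_le_eq] at e2
          have e4 := card_subgroup_pow_modEq (G := Q) hp.out (k := a)
            (hQ.1 ▸ pow_dvd_pow p (by omega))
          have e5 := card_subgroup_pow_modEq (G := (Q ⊓ P : Subgroup G)) hp.out (k := a)
            (hinf Q hQ.2 ▸ pow_dvd_pow p (by omega))
          rw [e2] at e4
          have e6 := Nat.ModEq.add_left_cancel (d := 0) e5 e4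
          have e7 := (Nat.modEq_zero_iff_dvd).1 (e1.symm.trans e6)
          rwa [card_congr_prop (B := fun H : Subgroup G => (Nat.card H = p ^ a ∧ ¬ H ≤ P) ∧ H ≤ Q ∧
            Q ≤ normalizer (H : Set G)) fun H => by rw [le_inf_iff]; tauto] at e7
    · obtain ⟨H, h1, h2⟩ := H
      simp only at hH ⊢
      set M := normalizer (H : Set G) ⊓ (P : Subgroup G) with hM
      have hMc : Nat.card M = p ^ n := hinf _ hH
      have hHM : ¬ H ≤ M := fun h => h2 (h.trans inf_le_right)
      have key : ∀ Q : Subgroup G, IsPGroup p Q → M ≤ Q → H ≤ Q → Nat.card Q = p ^ (n + 1) := by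
        intro Q hQ h3 h4
        obtain ⟨j, hj⟩ := IsPGroup.iff_card.1 hQ
        have h5 : p ^ j ∣ p ^ (n + 1) := by
          rw [← hn]
          exact P.pow_dvd_card_of_pow_dvd_card (hj ▸ card_subgroup_dvd_card Q)
        have h6 : M < Q := lt_of_le_of_ne h3 fun h => hHM (h ▸ h4)
        have h7 := H1.card_lt_of_lt h6
        rw [hMc, hj, Nat.pow_lt_pow_iff_right hp.out.one_lt] at h7
        rw [Nat.pow_dvd_pow_iff_le_right hp.out.one_lt] at h5
        rw [hj, show j = n + 1 by omega]
      have hQ0 : IsPGroup p (M ⊔ H : Subgroup G) :=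
        (hP.to_le inf_le_right).to_sup_of_normal_right' (IsPGroup.of_card h1) inf_le_left
      have hQ1 : M ⊔ H ≤ normalizer (H : Set G) := sup_le inf_le_left le_normalizer
      have : Nat.card {Q : Subgroup G // (Nat.card Q = p ^ (n + 1) ∧ Q.relIndex P = p) ∧
          H ≤ Q ∧ Q ≤ normalizer (H : Set G)} = 1 := by
        rw [Nat.card_eq_one_iff_exists]
        refine ⟨⟨M ⊔ H, ⟨key _ hQ0 le_sup_left le_sup_right, ?_⟩, le_sup_right, hQ1⟩, ?_⟩
        · refine Eq.trans ?_ hH
          rw [← inf_relIndex_right, ← inf_relIndex_right (normalizer (H : Set G))]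
          congr 1
          exact le_antisymm (inf_le_inf_right _ hQ1) (le_inf le_sup_left inf_le_right)
        · rintro ⟨Q, ⟨h3, h4⟩, h5, h6⟩
          apply Subtype.ext
          have h7 : Q ⊓ P = M := eq_of_le_of_card_ge (inf_le_inf_right _ h6)
            (by rw [hMc, hinf Q h4])
          symm
          exact eq_of_le_of_card_ge (sup_le (h7 ▸ inf_le_left) h5)
            (by rw [h3, key _ hQ0 le_sup_left le_sup_right])
      rw [this]
    · have : Nat.card {Q : Subgroup G // (Nat.card Q = p ^ (n + 1) ∧ Q.relIndex P = p) ∧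
          H.1 ≤ Q ∧ Q ≤ normalizer (H.1 : Set G)} = 0 := by
        rw [Nat.card_eq_zero]
        left
        refine ⟨fun Q => hH ?_⟩
        have h1 := relIndex_dvd_of_le_left (P : Subgroup G) Q.2.2.2
        rw [Q.2.1.2] at h1
        exact ((Nat.dvd_prime hp.out).1 h1).resolve_left (hrel _ H.2.1 H.2.2)
      rw [this]
  · rw [card_subtype_eq_sum]
    refine dvd_sum_subgroup P _ (fun g hg H => ?_) fun H => ?_
    · have e1 : (MulAut.conj g • normalizer (H : Set G)).relIndex P =
          (normalizer (H : Set G)).relIndex P := by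
        conv_lhs => rw [← conj_smul_eq_self_of_mem hg]
        exact relIndex_pointwise_smul _ _ _
      rw [card_conj_smul, conj_smul_le_iff (le_normalizer hg), normalizer_conj_smul, e1]
    · split_ifs with h
      swap
      · simp
      obtain ⟨j, hj⟩ := hP.index ((normalizer (H : Set G)).subgroupOf P)
      change (normalizer (H : Set G)).relIndex P = p ^ j at hj
      rw [mul_one, hj]
      refine pow_dvd_pow p ?_
      have h0 : j ≠ 0 := by
        rintro rfl
        exact hrel H h.1.1 h.1.2 (by simpa using hj)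
      have h1 : j ≠ 1 := by
        rintro rfl
        exact h.2 (by simpa using hj)
      omega

theorem card_subgroup_pow_modEq_sylow [Finite G] {p a : ℕ} [hp : Fact p.Prime]
    (hd : p ^ (a + 1) ∣ Nat.card G) (P : Sylow p G) :
    Nat.card {H : Subgroup G // Nat.card H = p ^ a} ≡
      Nat.card {H : Subgroup P // Nat.card H = p ^ a} [MOD p ^ 2] := by
  rw [card_subtype_eq_add (fun H : Subgroup G => Nat.card H = p ^ a) (fun H => H ≤ P),
    card_card_le_eq]
  exact Nat.ModEq.add_left _ ((Nat.modEq_zero_iff_dvd).2 (sq_dvd_card_not_le_sylow hd P))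

end Cfsg.Agent.H4
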